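import Mathlib

set_option autoImplicit false
set_option linter.style.haveILetI false

namespace Cfsg.Agent.Lead.Derange

open Classical in
/-- Burnside's lemma for a transitive action -/
theorem burnside_tr {K X : Type*} [Group K] [Fintype K] [MulAction K X] [Finite X]
    [MulAction.IsPretransitive K X] [Nonempty X] :
    ∑ k : K, Nat.card (MulAction.fixedBy X k) = Fintype.card K := by
  haveI : Fintype X := Fintype.ofFinite X
  have h := MulAction.sum_card_fixedBy_eq_card_orbits_mul_card_group K X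
  have h1 : Fintype.card (Quotient (MulAction.orbitRel K X)) = 1 := by
    rw [Fintype.card_eq_one_iff]
    obtain ⟨x₀⟩ := ‹Nonempty X›
    refine ⟨Quotient.mk _ x₀, fun q => ?_⟩
    refine Quotient.inductionOn q ?_
    intro y
    apply Quotient.sound
    obtain ⟨k, hk⟩ := MulAction.exists_smul_eq K x₀ y
    exact MulAction.orbitRel_apply.2 ⟨k, hk⟩
  rw [h1, one_mul] at h
  rw [← h]
  exact Finset.sum_congr rfl (fun k _ => Nat.card_eq_fintype_card)

/-- Jordan: a transitive finite group on at least two points has a derangement -/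
theorem jordan {K X : Type*} [Group K] [Finite K] [MulAction K X] [Finite X]
    [MulAction.IsPretransitive K X] (h2 : ∃ x y : X, x ≠ y) : ∃ k : K, ∀ x : X, k • x ≠ x := by
  classical
  obtain ⟨x₀, y₀, hxy⟩ := h2
  haveI : Nonempty X := ⟨x₀⟩
  haveI : Fintype K := Fintype.ofFinite K
  have hB := burnside_tr (K := K) (X := X)
  by_contra hcon
  push_neg at hcon
  have h1 : ∀ k : K, 1 ≤ Nat.card (MulAction.fixedBy X k) := by
    intro k
    obtain ⟨x, hx⟩ := hcon k
    haveI : Nonempty (MulAction.fixedBy X k) := ⟨⟨x, hx⟩⟩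
    exact Nat.card_pos
  have h2 : 1 < Nat.card (MulAction.fixedBy X (1 : K)) := by
    rw [Finite.one_lt_card_iff_nontrivial]
    exact ⟨⟨⟨x₀, one_smul K x₀⟩, ⟨y₀, one_smul K y₀⟩, fun h => hxy (Subtype.ext_iff.1 h)⟩⟩
  have h3 : ∑ _k : K, 1 < ∑ k : K, Nat.card (MulAction.fixedBy X k) :=
    Finset.sum_lt_sum (fun k _ => h1 k) ⟨1, Finset.mem_univ _, h2⟩
  rw [hB] at h3
  simp at h3

/-- in a transitive action where nonidentity elements fix at most one point, the number of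
derangements is one less than the degree -/
theorem count_der {K X : Type*} [Group K] [Finite K] [MulAction K X] [Finite X]
    [MulAction.IsPretransitive K X] [Nonempty X]
    (hfrob : ∀ k : K, k ≠ 1 → ∀ a b : X, a ≠ b → k • a = a → k • b ≠ b) :
    Nat.card {k : K // ∀ x : X, k • x ≠ x} + 1 = Nat.card X := by
  classical
  haveI : Fintype K := Fintype.ofFinite K
  have hB := burnside_tr (K := K) (X := X)
  have hpoint : ∀ k : K, Nat.card (MulAction.fixedBy X k) +
      (if (∀ x : X, k • x ≠ x) then 1 else 0) = 1 + (if k = 1 then Nat.card X - 1 else 0) := by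
    intro k
    by_cases hk : k = 1
    · subst hk
      have h1 : Nat.card (MulAction.fixedBy X (1 : K)) = Nat.card X := by
        apply Nat.card_eq_of_bijective (fun x : MulAction.fixedBy X (1 : K) => (x : X))
        exact ⟨Subtype.val_injective, fun x => ⟨⟨x, one_smul K x⟩, rfl⟩⟩
      have h2 : ¬ (∀ x : X, (1 : K) • x ≠ x) := by
        intro h
        obtain ⟨x⟩ := ‹Nonempty X›
        exact h x (one_smul K x)
      have h3 : 0 < Nat.card X := Nat.card_pos
      rw [h1, if_neg h2, if_pos rfl]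
      omega
    · rw [if_neg hk]
      by_cases hd : ∀ x : X, k • x ≠ x
      · rw [if_pos hd]
        have : Nat.card (MulAction.fixedBy X k) = 0 :=
          Nat.card_eq_zero.2 (Or.inl ⟨fun x => hd x.1 x.2⟩)
        omega
      · rw [if_neg hd]
        push_neg at hd
        obtain ⟨x, hx⟩ := hd
        have h1 : Nat.card (MulAction.fixedBy X k) ≤ 1 := by
          rw [Finite.card_le_one_iff_subsingleton]
          refine ⟨fun y z => ?_⟩
          by_contra hyz
          exact hfrob k hk y.1 z.1 (fun h => hyz (Subtype.ext h)) y.2 z.2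
        haveI : Nonempty (MulAction.fixedBy X k) := ⟨⟨x, hx⟩⟩
        have h2 : 0 < Nat.card (MulAction.fixedBy X k) := Nat.card_pos
        omega
  have key : ∑ k : K, (Nat.card (MulAction.fixedBy X k) +
      (if (∀ x : X, k • x ≠ x) then 1 else 0)) =
      ∑ k : K, (1 + (if k = 1 then Nat.card X - 1 else 0)) :=
    Finset.sum_congr rfl (fun k _ => hpoint k)
  have e1 : ∑ k : K, (if (∀ x : X, k • x ≠ x) then 1 else 0) =
      Nat.card {k : K // ∀ x : X, k • x ≠ x} := by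
    rw [Nat.card_eq_fintype_card, Fintype.card_subtype, Finset.card_filter]
  have e2 : ∑ k : K, (if k = 1 then Nat.card X - 1 else 0) = Nat.card X - 1 := by
    simp
  have e3 : ∑ _k : K, 1 = Fintype.card K := by simp
  rw [Finset.sum_add_distrib, Finset.sum_add_distrib, hB, e1, e2, e3] at key
  have h3 : 0 < Nat.card X := Nat.card_pos
  omega

/-- a finite group is not the union of the conjugates of a proper subgroup -/
theorem union_conj {G : Type*} [Group G] [Finite G] (A P : Subgroup G)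
    (h : ∀ a ∈ A, ∃ c ∈ A, c⁻¹ * a * c ∈ P) : A ≤ P := by
  by_contra hne
  obtain ⟨a₁, ha₁A, ha₁P⟩ : ∃ a ∈ A, a ∉ P := by
    by_contra hc
    push_neg at hc
    exact hne (fun x hx => hc x hx)
  have h2 : ∃ x y : A ⧸ P.subgroupOf A, x ≠ y := by
    refine ⟨QuotientGroup.mk (1 : A), QuotientGroup.mk (⟨a₁, ha₁A⟩ : A), ?_⟩
    intro heq
    rw [QuotientGroup.eq] at heq
    apply ha₁P
    have h3 := Subgroup.mem_subgroupOf.1 heq
    simpa using h3
  obtain ⟨x, hx⟩ := jordan (K := A) (X := A ⧸ P.subgroupOf A) h2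
  obtain ⟨c, hc, hcP⟩ := h (x : G) x.2
  apply hx (QuotientGroup.mk (⟨c, hc⟩ : A))
  show (QuotientGroup.mk (x * ⟨c, hc⟩ : A) : A ⧸ P.subgroupOf A) = QuotientGroup.mk (⟨c, hc⟩ : A)
  rw [QuotientGroup.eq, Subgroup.mem_subgroupOf]
  have e : (((x * ⟨c, hc⟩ : A)⁻¹ * (⟨c, hc⟩ : A) : A) : G) = (c⁻¹ * (x : G) * c)⁻¹ := by
    show ((x : G) * c)⁻¹ * c = (c⁻¹ * (x : G) * c)⁻¹
    group
  rw [e]
  exact P.inv_mem hcP

/-- two commuting subgroups `A`, `B` with `N = A B` transitive: `A` contains a derangement, and if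
all products of nontrivial elements have fixed points then `B` is semiregular -/
theorem pair_lemma {G : Type*} [Group G] [Finite G] {Ω : Type*} [Finite Ω] [MulAction G Ω]
    (hfa : ∀ g : G, (∀ y : Ω, g • y = y) → g = 1)
    (N A B : Subgroup G)
    (hAB : ∀ a ∈ A, ∀ b ∈ B, a * b = b * a)
    (hprod : ∀ n ∈ N, ∃ a ∈ A, ∃ b ∈ B, n = a * b)
    (hNtr : ∀ y z : Ω, ∃ n ∈ N, n • y = z)
    (hA1 : ∃ a ∈ A, a ≠ 1) :
    (∃ a ∈ A, ∀ ω : Ω, a • ω ≠ ω) ∧
    ((∀ a ∈ A, ∀ b ∈ B, a ≠ 1 → b ≠ 1 → ∃ ω : Ω, (a * b) • ω = ω) →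
      ∀ ω₀ : Ω, ∀ b ∈ B, b • ω₀ = ω₀ → b = 1) := by
  classical
  obtain ⟨a₁, ha₁, ha₁1⟩ := hA1
  constructor
  · obtain ⟨ω₁, hω₁⟩ : ∃ ω₁ : Ω, a₁ • ω₁ ≠ ω₁ := by
      by_contra hcon
      push_neg at hcon
      exact ha₁1 (hfa a₁ hcon)
    have h2 : ∃ x y : MulAction.orbit A ω₁, x ≠ y :=
      ⟨⟨ω₁, MulAction.mem_orbit_self ω₁⟩, ⟨a₁ • ω₁, MulAction.mem_orbit ω₁ (⟨a₁, ha₁⟩ : A)⟩,
        fun h => hω₁ (Subtype.ext_iff.1 h).symm⟩
    obtain ⟨a, ha⟩ := jordan (K := A) (X := MulAction.orbit A ω₁) h2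
    refine ⟨(a : G), a.2, fun ω hfix => ?_⟩
    obtain ⟨n, hn, hnω⟩ := hNtr ω₁ ω
    obtain ⟨a', ha', b, hb, rfl⟩ := hprod n hn
    rw [← hnω] at hfix
    have h1 : ((a : G) * a') * b = b * ((a : G) * a') := hAB _ (A.mul_mem a.2 ha') b hb
    have h2' : a' * b = b * a' := hAB a' ha' b hb
    have h3 : b • (((a : G) * a') • ω₁) = b • (a' • ω₁) := by
      rw [← mul_smul, ← mul_smul, ← h1, ← h2', mul_assoc, mul_smul]
      exact hfix
    have h4 : ((a : G) * a') • ω₁ = a' • ω₁ := smul_left_cancel b h3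
    apply ha ⟨a' • ω₁, MulAction.mem_orbit ω₁ (⟨a', ha'⟩ : A)⟩
    apply Subtype.ext
    show (a : G) • (a' • ω₁) = a' • ω₁
    rw [← mul_smul]; exact h4
  · intro hfix ω₀
    obtain ⟨P, hP⟩ : ∃ P : Subgroup G, ∀ x, x ∈ P ↔ x ∈ B ∧ ∃ a ∈ A, (a * x) • ω₀ = ω₀ :=
      ⟨{ carrier := {x | x ∈ B ∧ ∃ a ∈ A, (a * x) • ω₀ = ω₀}
         one_mem' := ⟨B.one_mem, 1, A.one_mem, by rw [mul_one, one_smul]⟩
         mul_mem' := by
           rintro x y ⟨hx, a, ha, hax⟩ ⟨hy, a', ha', hay⟩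
           refine ⟨B.mul_mem hx hy, a * a', A.mul_mem ha ha', ?_⟩
           have e : a * a' * (x * y) = (a * x) * (a' * y) := by
             calc a * a' * (x * y) = a * (a' * x) * y := by group
               _ = a * (x * a') * y := by rw [hAB a' ha' x hx]
               _ = (a * x) * (a' * y) := by group
           rw [e, mul_smul, hay, hax]
         inv_mem' := by
           rintro x ⟨hx, a, ha, hax⟩
           refine ⟨B.inv_mem hx, a⁻¹, A.inv_mem ha, ?_⟩
           have e : a⁻¹ * x⁻¹ = (a * x)⁻¹ := by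
             calc a⁻¹ * x⁻¹ = (x * a)⁻¹ := by group
               _ = (a * x)⁻¹ := by rw [hAB a ha x hx]
           rw [e, inv_smul_eq_iff, hax] }, fun x => Iff.rfl⟩
    have hBP : B ≤ P := by
      apply union_conj B P
      intro b hb
      by_cases hb1 : b = 1
      · refine ⟨1, B.one_mem, ?_⟩
        rw [hb1]
        simp only [inv_one, one_mul, mul_one]
        exact P.one_mem
      · obtain ⟨ω, hω⟩ := hfix a₁ ha₁ b hb ha₁1 hb1
        obtain ⟨n, hn, hnω⟩ := hNtr ω₀ ω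
        obtain ⟨a', ha', b', hb', rfl⟩ := hprod n hn
        refine ⟨b', hb', (hP _).2 ⟨B.mul_mem (B.mul_mem (B.inv_mem hb') hb) hb',
          a'⁻¹ * a₁ * a', A.mul_mem (A.mul_mem (A.inv_mem ha') ha₁) ha', ?_⟩⟩
        have s1 : b'⁻¹ * a'⁻¹ = a'⁻¹ * b'⁻¹ :=
          (hAB a'⁻¹ (A.inv_mem ha') b'⁻¹ (B.inv_mem hb')).symm
        have s2 : b'⁻¹ * a₁ = a₁ * b'⁻¹ := (hAB a₁ ha₁ b'⁻¹ (B.inv_mem hb')).symm
        have s3 : (b'⁻¹ * b) * a' = a' * (b'⁻¹ * b) :=
          (hAB a' ha' _ (B.mul_mem (B.inv_mem hb') hb)).symm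
        have e : (a'⁻¹ * a₁ * a') * (b'⁻¹ * b * b') = (a' * b')⁻¹ * (a₁ * b) * (a' * b') := by
          symm
          calc (a' * b')⁻¹ * (a₁ * b) * (a' * b')
              = (b'⁻¹ * a'⁻¹) * a₁ * b * a' * b' := by group
            _ = (a'⁻¹ * b'⁻¹) * a₁ * b * a' * b' := by rw [s1]
            _ = a'⁻¹ * (b'⁻¹ * a₁) * b * a' * b' := by group
            _ = a'⁻¹ * (a₁ * b'⁻¹) * b * a' * b' := by rw [s2]
            _ = a'⁻¹ * a₁ * ((b'⁻¹ * b) * a') * b' := by group
            _ = a'⁻¹ * a₁ * (a' * (b'⁻¹ * b)) * b' := by rw [s3]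
            _ = (a'⁻¹ * a₁ * a') * (b'⁻¹ * b * b') := by group
        rw [e, mul_smul, mul_smul, hnω, hω, inv_smul_eq_iff, hnω]
    intro s hs hsω
    apply hfa
    intro ω
    obtain ⟨n, hn, hnω⟩ := hNtr ω₀ ω
    obtain ⟨a', ha', b', hb', rfl⟩ := hprod n hn
    obtain ⟨-, a'', ha'', hfix''⟩ := (hP b').1 (hBP hb')
    have c1 : ∀ a ∈ A, a⁻¹ * s * a = s := by
      intro a ha
      calc a⁻¹ * s * a = a⁻¹ * (s * a) := by group
        _ = a⁻¹ * (a * s) := by rw [hAB a ha s hs]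
        _ = s := by group
    have e1 : (a' * b')⁻¹ * s * (a' * b') = (a'' * b')⁻¹ * s * (a'' * b') := by
      calc (a' * b')⁻¹ * s * (a' * b') = b'⁻¹ * (a'⁻¹ * s * a') * b' := by group
        _ = b'⁻¹ * (a''⁻¹ * s * a'') * b' := by rw [c1 a' ha', c1 a'' ha'']
        _ = (a'' * b')⁻¹ * s * (a'' * b') := by group
    have e2 : ((a'' * b')⁻¹ * s * (a'' * b')) • ω₀ = ω₀ := by
      rw [mul_smul, mul_smul, hfix'', hsω, inv_smul_eq_iff, hfix'']
    have e3 : s * (a' * b') = (a' * b') * ((a' * b')⁻¹ * s * (a' * b')) := by group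
    rw [← hnω, ← mul_smul, e3, mul_smul, e1, e2]

end Cfsg.Agent.Lead.Derange
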