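import Mathlib
import Cfsg.Agent.Lead.Derange

set_option autoImplicit false
set_option linter.style.haveILetI false
set_option maxHeartbeats 1000000

namespace Cfsg.Agent.Lead.Derange2

open Cfsg.Agent.Lead.Derange

/-- a nontrivial finite group with trivial centre has elements of two distinct prime orders -/
theorem two_primes {G : Type*} [Group G] [Finite G] (X : Subgroup G)
    (hX : ∃ x ∈ X, x ≠ 1)
    (hZ : ∀ z ∈ X, (∀ x ∈ X, x * z = z * x) → z = 1) :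
    ∃ x₁ ∈ X, ∃ x₂ ∈ X, ∃ r₁ r₂ : ℕ, r₁.Prime ∧ r₂.Prime ∧ r₁ ≠ r₂ ∧
      orderOf x₁ = r₁ ∧ orderOf x₂ = r₂ := by
  classical
  obtain ⟨x₀, hx₀, hx₀1⟩ := hX
  haveI : Nontrivial X := ⟨⟨⟨x₀, hx₀⟩, 1, fun h => hx₀1 (Subtype.ext_iff.1 h)⟩⟩
  have hn1 : 1 < Nat.card X := Finite.one_lt_card
  obtain ⟨p, hpdef⟩ : ∃ p : ℕ, p = (Nat.card X).minFac := ⟨_, rfl⟩
  have hpp : p.Prime := by rw [hpdef]; exact Nat.minFac_prime (by omega)
  have hpd : p ∣ Nat.card X := by rw [hpdef]; exact Nat.minFac_dvd _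
  obtain ⟨q, hqp, hqd, hqne⟩ : ∃ q : ℕ, q.Prime ∧ q ∣ Nat.card X ∧ q ≠ p := by
    by_contra hcon
    push_neg at hcon
    have hpow := Nat.eq_prime_pow_of_unique_prime_dvd (p := p) (n := Nat.card X) (by omega)
      (fun {d} hd hdn => hcon d hd hdn)
    haveI : Fact p.Prime := ⟨hpp⟩
    have hPG : IsPGroup p X := IsPGroup.of_card hpow
    haveI := hPG.center_nontrivial
    obtain ⟨z, hz⟩ := exists_ne (1 : Subgroup.center X)
    apply hz
    apply Subtype.ext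
    apply Subtype.ext
    show ((z : X) : G) = 1
    apply hZ _ (z : X).2
    intro x hx
    have h1 := (Subgroup.mem_center_iff.1 z.2) ⟨x, hx⟩
    exact Subtype.ext_iff.1 h1
  haveI : Fact p.Prime := ⟨hpp⟩
  haveI : Fact q.Prime := ⟨hqp⟩
  obtain ⟨x₁, hx₁⟩ := exists_prime_orderOf_dvd_card' (G := X) p hpd
  obtain ⟨x₂, hx₂⟩ := exists_prime_orderOf_dvd_card' (G := X) q hqd
  refine ⟨(x₁ : G), x₁.2, (x₂ : G), x₂.2, p, q, hpp, hqp, hqne.symm, ?_, ?_⟩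
  · rw [Subgroup.orderOf_coe]; exact hx₁
  · rw [Subgroup.orderOf_coe]; exact hx₂

/-- two commuting subgroups `A`, `B` with `N = A B` transitive: if every element of `B` has an
`A`-multiple with a fixed point then `B` is semiregular -/
theorem semireg {G : Type*} [Group G] [Finite G] {Ω : Type*} [Finite Ω] [MulAction G Ω]
    (hfa : ∀ g : G, (∀ y : Ω, g • y = y) → g = 1)
    (N A B : Subgroup G)
    (hAB : ∀ a ∈ A, ∀ b ∈ B, a * b = b * a)
    (hprod : ∀ n ∈ N, ∃ a ∈ A, ∃ b ∈ B, n = a * b)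
    (hNtr : ∀ y z : Ω, ∃ n ∈ N, n • y = z)
    (hfix : ∀ b ∈ B, ∃ a ∈ A, ∃ ω : Ω, (a * b) • ω = ω) :
    ∀ ω₀ : Ω, ∀ b ∈ B, b • ω₀ = ω₀ → b = 1 := by
  classical
  intro ω₀
  obtain ⟨P, hP⟩ : ∃ P : Subgroup G, ∀ x, x ∈ P ↔ x ∈ B ∧ ∃ a ∈ A, (a * x) • ω₀ = ω₀ :=
    ⟨{ carrier := {x | x ∈ B ∧ ∃ a ∈ A, (a * x) • ω₀ = ω₀}
       one_mem' := ⟨B.one_mem, 1, A.one_mem, by rw [mul_one, one_smul]⟩
       mul_mem' := by
         rintro x y ⟨hx, a, ha, hax⟩ ⟨hy, a', ha', hay⟩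
         refine ⟨B.mul_mem hx hy, a * a', A.mul_mem ha ha', ?_⟩
         have e : a * a' * (x * y) = (a * x) * (a' * y) := by
           calc a * a' * (x * y) = a * (a' * x) * y := by group
             _ = a * (x * a') * y := by rw [hAB a' ha' x hx]
             _ = (a * x) * (a' * y) := by group
         rw [e, mul_smul, hay, hax]
       inv_mem' := by
         rintro x ⟨hx, a, ha, hax⟩
         refine ⟨B.inv_mem hx, a⁻¹, A.inv_mem ha, ?_⟩
         have e : a⁻¹ * x⁻¹ = (a * x)⁻¹ := by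
           calc a⁻¹ * x⁻¹ = (x * a)⁻¹ := by group
             _ = (a * x)⁻¹ := by rw [hAB a ha x hx]
         rw [e, inv_smul_eq_iff, hax] }, fun x => Iff.rfl⟩
  have hBP : B ≤ P := by
    apply union_conj B P
    intro b hb
    obtain ⟨a₁, ha₁, ω, hω⟩ := hfix b hb
    obtain ⟨n, hn, hnω⟩ := hNtr ω₀ ω
    obtain ⟨a', ha', b', hb', rfl⟩ := hprod n hn
    refine ⟨b', hb', (hP _).2 ⟨B.mul_mem (B.mul_mem (B.inv_mem hb') hb) hb',
      a'⁻¹ * a₁ * a', A.mul_mem (A.mul_mem (A.inv_mem ha') ha₁) ha', ?_⟩⟩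
    have s1 : b'⁻¹ * a'⁻¹ = a'⁻¹ * b'⁻¹ :=
      (hAB a'⁻¹ (A.inv_mem ha') b'⁻¹ (B.inv_mem hb')).symm
    have s2 : b'⁻¹ * a₁ = a₁ * b'⁻¹ := (hAB a₁ ha₁ b'⁻¹ (B.inv_mem hb')).symm
    have s3 : (b'⁻¹ * b) * a' = a' * (b'⁻¹ * b) :=
      (hAB a' ha' _ (B.mul_mem (B.inv_mem hb') hb)).symm
    have e : (a'⁻¹ * a₁ * a') * (b'⁻¹ * b * b') = (a' * b')⁻¹ * (a₁ * b) * (a' * b') := by
      symm
      calc (a' * b')⁻¹ * (a₁ * b) * (a' * b')
          = (b'⁻¹ * a'⁻¹) * a₁ * b * a' * b' := by group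
        _ = (a'⁻¹ * b'⁻¹) * a₁ * b * a' * b' := by rw [s1]
        _ = a'⁻¹ * (b'⁻¹ * a₁) * b * a' * b' := by group
        _ = a'⁻¹ * (a₁ * b'⁻¹) * b * a' * b' := by rw [s2]
        _ = a'⁻¹ * a₁ * ((b'⁻¹ * b) * a') * b' := by group
        _ = a'⁻¹ * a₁ * (a' * (b'⁻¹ * b)) * b' := by rw [s3]
        _ = (a'⁻¹ * a₁ * a') * (b'⁻¹ * b * b') := by group
    rw [e, mul_smul, mul_smul, hnω, hω, inv_smul_eq_iff, hnω]
  intro s hs hsω
  apply hfa
  intro ω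
  obtain ⟨n, hn, hnω⟩ := hNtr ω₀ ω
  obtain ⟨a', ha', b', hb', rfl⟩ := hprod n hn
  obtain ⟨-, a'', ha'', hfix''⟩ := (hP b').1 (hBP hb')
  have c1 : ∀ a ∈ A, a⁻¹ * s * a = s := by
    intro a ha
    calc a⁻¹ * s * a = a⁻¹ * (s * a) := by group
      _ = a⁻¹ * (a * s) := by rw [hAB a ha s hs]
      _ = s := by group
  have e1 : (a' * b')⁻¹ * s * (a' * b') = (a'' * b')⁻¹ * s * (a'' * b') := by
    calc (a' * b')⁻¹ * s * (a' * b') = b'⁻¹ * (a'⁻¹ * s * a') * b' := by group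
      _ = b'⁻¹ * (a''⁻¹ * s * a'') * b' := by rw [c1 a' ha', c1 a'' ha'']
      _ = (a'' * b')⁻¹ * s * (a'' * b') := by group
  have e2 : ((a'' * b')⁻¹ * s * (a'' * b')) • ω₀ = ω₀ := by
    rw [mul_smul, mul_smul, hfix'', hsω, inv_smul_eq_iff, hfix'']
  have e3 : s * (a' * b') = (a' * b') * ((a' * b')⁻¹ * s * (a' * b')) := by group
  rw [← hnω, ← mul_smul, e3, mul_smul, e1, e2]

/-- a nonabelian minimal normal subgroup is impossible in a primitive group that is not almost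
simple and in which any three derangements contain a conjugate pair -/
theorem nonab_false {G : Type*} [Group G] [Finite G] {Ω : Type*} [Finite Ω] [MulAction G Ω]
    (hfa : ∀ g : G, (∀ y : Ω, g • y = y) → g = 1) (ω₀ : Ω)
    (hnas : ¬ ∃ T : Subgroup G, T.Normal ∧ IsSimpleGroup T ∧ ¬ IsMulCommutative T ∧
      Subgroup.centralizer (T : Set G) = ⊥)
    (htrans : ∀ K : Subgroup G, K.Normal → K ≠ ⊥ → ∀ y z : Ω, ∃ k ∈ K, k • y = z)
    (N : Subgroup G) (hNn : N.Normal) (hNbot : N ≠ ⊥)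
    (hNmin : ∀ K : Subgroup G, K.Normal → K ≤ N → K = ⊥ ∨ K = N)
    (u₁ u₂ : G) (hu₁ : u₁ ∈ N) (hu₂ : u₂ ∈ N) (hu₁₂ : u₁ * u₂ ≠ u₂ * u₁)
    (h3 : ∀ x y z : G, (∀ ω : Ω, x • ω ≠ ω) → (∀ ω : Ω, y • ω ≠ ω) → (∀ ω : Ω, z • ω ≠ ω) →
      (∃ c : G, c * x * c⁻¹ = y) ∨ (∃ c : G, c * x * c⁻¹ = z) ∨ (∃ c : G, c * y * c⁻¹ = z)) :
    False := by
  classical
  haveI := hNn
  have hNtr := htrans N hNn hNbot
  have hpowconj : ∀ x y c : G, ∀ r : ℕ, c * x * c⁻¹ = y → x ^ r = 1 → y ^ r = 1 := by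
    intro x y c r h hx
    rw [← h, conj_pow, hx, mul_one, mul_inv_cancel]
  have hprime_ne : ∀ (r₁ r₂ : ℕ) (x : G), r₁.Prime → r₂.Prime → r₁ ≠ r₂ → orderOf x = r₂ →
      x ^ r₁ ≠ 1 := by
    intro r₁ r₂ x h1 h2 hne hx hpow
    have hd : r₂ ∣ r₁ := by rw [← hx]; exact orderOf_dvd_of_pow_eq_one hpow
    exact hne ((Nat.prime_dvd_prime_iff_eq h2 h1).1 hd).symm
  have hne_one : ∀ (r : ℕ) (x : G), r.Prime → orderOf x = r → x ≠ 1 := by
    intro r x hr hx h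
    rw [h, orderOf_one] at hx
    exact hr.one_lt.ne hx
  have hder1 : ∀ x : G, (∀ ω : Ω, x • ω ≠ ω) → x ≠ 1 := by
    intro x hx h
    exact hx ω₀ (by rw [h, one_smul])
  have hCn : (Subgroup.centralizer (N : Set G)).Normal := inferInstance
  have hZN : N ⊓ Subgroup.centralizer (N : Set G) = ⊥ := by
    haveI := hCn
    have hZn : (N ⊓ Subgroup.centralizer (N : Set G)).Normal := inferInstance
    rcases hNmin _ hZn inf_le_left with h | h
    · exact h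
    · exfalso
      have hu₂C : u₂ ∈ Subgroup.centralizer (N : Set G) := by
        have : u₂ ∈ N ⊓ Subgroup.centralizer (N : Set G) := by rw [h]; exact hu₂
        exact (Subgroup.mem_inf.1 this).2
      exact hu₁₂ ((Subgroup.mem_centralizer_iff.1 hu₂C) u₁ hu₁)
  have hZN' : ∀ z ∈ N, (∀ x ∈ N, x * z = z * x) → z = 1 := by
    intro z hz hcomm
    have : z ∈ N ⊓ Subgroup.centralizer (N : Set G) :=
      Subgroup.mem_inf.2 ⟨hz, Subgroup.mem_centralizer_iff.2 hcomm⟩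
    rw [hZN, Subgroup.mem_bot] at this
    exact this
  have hCN : Subgroup.centralizer (N : Set G) = ⊥ := by
    by_contra hC
    have hCtr := htrans _ hCn hC
    have hNsemi : ∀ n ∈ N, n ≠ 1 → ∀ ω : Ω, n • ω ≠ ω := by
      intro n hn hn1 ω hfix
      apply hn1
      apply hfa
      intro z
      obtain ⟨c, hc, hcz⟩ := hCtr ω z
      have h1 : n * c = c * n := (Subgroup.mem_centralizer_iff.1 hc) n hn
      rw [← hcz, ← mul_smul, h1, mul_smul, hfix]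
    have hCsemi : ∀ c ∈ Subgroup.centralizer (N : Set G), c ≠ 1 → ∀ ω : Ω, c • ω ≠ ω := by
      intro c hc hc1 ω hfix
      apply hc1
      apply hfa
      intro z
      obtain ⟨n, hn, hnz⟩ := hNtr ω z
      have h1 : n * c = c * n := (Subgroup.mem_centralizer_iff.1 hc) n hn
      rw [← hnz, ← mul_smul, ← h1, mul_smul, hfix]
    obtain ⟨n₁, hn₁, n₂, hn₂, r₁, r₂, hr₁, hr₂, hr₁₂, ho₁, ho₂⟩ :=
      two_primes N ⟨u₁, hu₁, fun h => hu₁₂ (by rw [h, one_mul, mul_one])⟩ hZN'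
    obtain ⟨c₀, hc₀⟩ := (Subgroup.ne_bot_iff_exists_ne_one).1 hC
    have hc₀1 : (c₀ : G) ≠ 1 := fun h => hc₀ (Subtype.ext h)
    have hc₀N : (c₀ : G) ∉ N := by
      intro h
      have : (c₀ : G) ∈ N ⊓ Subgroup.centralizer (N : Set G) := Subgroup.mem_inf.2 ⟨h, c₀.2⟩
      rw [hZN, Subgroup.mem_bot] at this
      exact hc₀1 this
    rcases h3 n₁ n₂ (c₀ : G) (hNsemi n₁ hn₁ (hne_one r₁ n₁ hr₁ ho₁))
      (hNsemi n₂ hn₂ (hne_one r₂ n₂ hr₂ ho₂)) (hCsemi _ c₀.2 hc₀1) with ⟨c, hc⟩ | ⟨c, hc⟩ | ⟨c, hc⟩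
    · exact hprime_ne r₁ r₂ n₂ hr₁ hr₂ hr₁₂ ho₂
        (hpowconj n₁ n₂ c r₁ hc (by rw [← ho₁]; exact pow_orderOf_eq_one n₁))
    · exact hc₀N (by rw [← hc]; exact hNn.conj_mem n₁ hn₁ c)
    · exact hc₀N (by rw [← hc]; exact hNn.conj_mem n₂ hn₂ c)
  -- a minimal N-invariant subgroup of N
  obtain ⟨A, -, hAmin⟩ := exists_minimal_le_of_wellFoundedLT
    (fun A : Subgroup G => A ≠ ⊥ ∧ A ≤ N ∧ ∀ n ∈ N, ∀ a ∈ A, n * a * n⁻¹ ∈ A) N
    ⟨hNbot, le_refl N, fun n hn a ha => hNn.conj_mem a ha n⟩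
  obtain ⟨hAbot, hAN, hAnorm⟩ := hAmin.prop
  have hAmin' : ∀ A' : Subgroup G, A' ≠ ⊥ → A' ≤ N →
      (∀ n ∈ N, ∀ a ∈ A', n * a * n⁻¹ ∈ A') → A' ≤ A → A ≤ A' :=
    fun A' h1 h2 h3 h4 => hAmin.le_of_le ⟨h1, h2, h3⟩ h4
  obtain ⟨B, hBmem⟩ : ∃ B : Subgroup G, ∀ x, x ∈ B ↔ x ∈ N ∧ ∀ a ∈ A, a * x = x * a :=
    ⟨N ⊓ Subgroup.centralizer (A : Set G), fun x => by
      simp only [Subgroup.mem_inf, Subgroup.mem_centralizer_iff, SetLike.mem_coe]⟩
  have hBN : B ≤ N := fun x hx => ((hBmem x).1 hx).1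
  have hAB : ∀ a ∈ A, ∀ b ∈ B, a * b = b * a := fun a ha b hb => ((hBmem b).1 hb).2 a ha
  have hconj : ∀ g : G, (∀ a ∈ A, g * a * g⁻¹ ∈ A) ∨ (∀ a ∈ A, g * a * g⁻¹ ∈ B) := by
    intro g
    obtain ⟨A', hA'⟩ : ∃ A' : Subgroup G, ∀ x, x ∈ A' ↔ g⁻¹ * x * g ∈ A :=
      ⟨A.comap (MulAut.conj g⁻¹).toMonoidHom, fun x => by
        simp [Subgroup.mem_comap, MulAut.conj_apply]⟩
    have hA'N : A' ≤ N := by
      intro x hx
      have h1 := hAN ((hA' x).1 hx)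
      have h2 := hNn.conj_mem _ h1 g
      have h3 : g * (g⁻¹ * x * g) * g⁻¹ = x := by group
      rw [h3] at h2; exact h2
    have hA'norm : ∀ n ∈ N, ∀ a ∈ A', n * a * n⁻¹ ∈ A' := by
      intro n hn a ha
      rw [hA'] at ha ⊢
      have h1 : g⁻¹ * n * g ∈ N := by
        have := hNn.conj_mem n hn g⁻¹
        rwa [inv_inv] at this
      have h2 := hAnorm _ h1 _ ha
      have h3 : g⁻¹ * (n * a * n⁻¹) * g =
          (g⁻¹ * n * g) * (g⁻¹ * a * g) * (g⁻¹ * n * g)⁻¹ := by group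
      rw [h3]; exact h2
    have hgA' : ∀ a ∈ A, g * a * g⁻¹ ∈ A' := by
      intro a ha
      rw [hA']
      have h3 : g⁻¹ * (g * a * g⁻¹) * g = a := by group
      rw [h3]; exact ha
    by_cases hI : A ⊓ A' = ⊥
    · right
      intro a ha
      rw [hBmem]
      refine ⟨hA'N (hgA' a ha), fun a₂ ha₂ => ?_⟩
      have hy := hgA' a ha
      have h1 : a₂ * (g * a * g⁻¹) * a₂⁻¹ * (g * a * g⁻¹)⁻¹ ∈ A ⊓ A' := by
        refine Subgroup.mem_inf.2 ⟨?_, ?_⟩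
        · have h2 := hAnorm _ (hA'N hy) _ (A.inv_mem ha₂)
          have h3 := A.mul_mem ha₂ h2
          have h4 : a₂ * ((g * a * g⁻¹) * a₂⁻¹ * (g * a * g⁻¹)⁻¹) =
              a₂ * (g * a * g⁻¹) * a₂⁻¹ * (g * a * g⁻¹)⁻¹ := by group
          rw [h4] at h3; exact h3
        · have h2 := hA'norm _ (hAN ha₂) _ hy
          exact A'.mul_mem h2 (A'.inv_mem hy)
      rw [hI, Subgroup.mem_bot] at h1
      calc a₂ * (g * a * g⁻¹)
          = (a₂ * (g * a * g⁻¹) * a₂⁻¹ * (g * a * g⁻¹)⁻¹) * ((g * a * g⁻¹) * a₂) := by group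
        _ = (g * a * g⁻¹) * a₂ := by rw [h1, one_mul]
    · left
      have hIA : A ≤ A ⊓ A' := hAmin' _ hI (inf_le_left.trans hAN)
        (fun n hn a ha => Subgroup.mem_inf.2
          ⟨hAnorm n hn a (Subgroup.mem_inf.1 ha).1, hA'norm n hn a (Subgroup.mem_inf.1 ha).2⟩)
        inf_le_left
      have hAA' : ∀ a ∈ A, g⁻¹ * a * g ∈ A :=
        fun a ha => (hA' a).1 (Subgroup.mem_inf.1 (hIA ha)).2
      have hinj : Function.Injective
          (fun a : A => (⟨g⁻¹ * (a : G) * g, hAA' a a.2⟩ : A)) := by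
        intro a a' h
        have h1 : g⁻¹ * (a : G) * g = g⁻¹ * (a' : G) * g := Subtype.ext_iff.1 h
        apply Subtype.ext
        calc (a : G) = g * (g⁻¹ * (a : G) * g) * g⁻¹ := by group
          _ = g * (g⁻¹ * (a' : G) * g) * g⁻¹ := by rw [h1]
          _ = (a' : G) := by group
      have hsurj := Finite.injective_iff_surjective.1 hinj
      intro a ha
      obtain ⟨a', ha'⟩ := hsurj ⟨a, ha⟩
      have h1 : g⁻¹ * (a' : G) * g = a := Subtype.ext_iff.1 ha'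
      have h2 : g * a * g⁻¹ = (a' : G) := by rw [← h1]; group
      rw [h2]; exact a'.2
  have hprod : ∀ n ∈ N, ∃ a ∈ A, ∃ b ∈ B, n = a * b := by
    obtain ⟨P, hP⟩ : ∃ P : Subgroup G, ∀ x, x ∈ P ↔ ∃ a ∈ A, ∃ b ∈ B, x = a * b :=
      ⟨{ carrier := {x | ∃ a ∈ A, ∃ b ∈ B, x = a * b}
         one_mem' := ⟨1, A.one_mem, 1, B.one_mem, (mul_one 1).symm⟩
         mul_mem' := by
           rintro x y ⟨a, ha, b, hb, rfl⟩ ⟨a', ha', b', hb', rfl⟩
           refine ⟨a * a', A.mul_mem ha ha', b * b', B.mul_mem hb hb', ?_⟩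
           calc a * b * (a' * b') = a * (b * a') * b' := by group
             _ = a * (a' * b) * b' := by rw [hAB a' ha' b hb]
             _ = a * a' * (b * b') := by group
         inv_mem' := by
           rintro x ⟨a, ha, b, hb, rfl⟩
           refine ⟨a⁻¹, A.inv_mem ha, b⁻¹, B.inv_mem hb, ?_⟩
           calc (a * b)⁻¹ = b⁻¹ * a⁻¹ := by group
             _ = a⁻¹ * b⁻¹ := (hAB a⁻¹ (A.inv_mem ha) b⁻¹ (B.inv_mem hb)).symm },
        fun x => Iff.rfl⟩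
    have hcl : Subgroup.normalClosure (A : Set G) ≤ P := by
      show Subgroup.closure (Group.conjugatesOfSet (A : Set G)) ≤ P
      rw [Subgroup.closure_le]
      intro x hx
      obtain ⟨a, ha, hconj'⟩ := Group.mem_conjugatesOfSet_iff.1 hx
      obtain ⟨c, hc⟩ := isConj_iff.1 hconj'
      rw [← hc]
      rcases hconj c with h | h
      · exact (hP _).2 ⟨_, h a ha, 1, B.one_mem, (mul_one _).symm⟩
      · exact (hP _).2 ⟨1, A.one_mem, _, h a ha, (one_mul _).symm⟩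
    have hncl : Subgroup.normalClosure (A : Set G) = N := by
      rcases hNmin _ Subgroup.normalClosure_normal
        (Subgroup.normalClosure_le_normal (fun x hx => hAN hx)) with h | h
      · exfalso
        apply hAbot
        rw [eq_bot_iff, ← h]
        exact Subgroup.le_normalClosure
      · exact h
    intro n hn
    have : n ∈ Subgroup.normalClosure (A : Set G) := by rw [hncl]; exact hn
    exact (hP n).1 (hcl this)
  have hBnorm : ∀ n ∈ N, ∀ b ∈ B, n * b * n⁻¹ ∈ B := by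
    intro n hn b hb
    rw [hBmem]
    refine ⟨hNn.conj_mem b (hBN hb) n, fun a ha => ?_⟩
    have h1 : n⁻¹ * a * n ∈ A := by
      have := hAnorm n⁻¹ (N.inv_mem hn) a ha
      rwa [inv_inv] at this
    have h2 := hAB _ h1 b hb
    calc a * (n * b * n⁻¹) = n * ((n⁻¹ * a * n) * b) * n⁻¹ := by group
      _ = n * (b * (n⁻¹ * a * n)) * n⁻¹ := by rw [h2]
      _ = (n * b * n⁻¹) * a := by group
  have hdisj : ∀ x, x ∈ A → x ∈ B → x = 1 := by
    intro x hxA hxB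
    by_contra hx1
    have hZbot : A ⊓ B ≠ ⊥ := fun h => hx1 (by
      have : x ∈ A ⊓ B := Subgroup.mem_inf.2 ⟨hxA, hxB⟩
      rw [h, Subgroup.mem_bot] at this
      exact this)
    have hZA : A ≤ A ⊓ B := hAmin' _ hZbot (inf_le_left.trans hAN)
      (fun n hn a ha => Subgroup.mem_inf.2
        ⟨hAnorm n hn a (Subgroup.mem_inf.1 ha).1, hBnorm n hn a (Subgroup.mem_inf.1 ha).2⟩)
      inf_le_left
    have hAB' : ∀ a ∈ A, a ∈ B := fun a ha => (Subgroup.mem_inf.1 (hZA ha)).2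
    obtain ⟨a₁, ha₁⟩ := (Subgroup.ne_bot_iff_exists_ne_one).1 hAbot
    have hc : (a₁ : G) ∈ Subgroup.centralizer (N : Set G) := by
      rw [Subgroup.mem_centralizer_iff]
      intro n hn
      obtain ⟨a, ha, b, hb, rfl⟩ := hprod n hn
      have e1 : a * (a₁ : G) = (a₁ : G) * a := hAB a ha _ (hAB' _ a₁.2)
      have e2 : (a₁ : G) * b = b * (a₁ : G) := hAB _ a₁.2 b hb
      calc a * b * (a₁ : G) = a * (b * (a₁ : G)) := by group
        _ = a * ((a₁ : G) * b) := by rw [e2]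
        _ = (a * (a₁ : G)) * b := by group
        _ = ((a₁ : G) * a) * b := by rw [e1]
        _ = (a₁ : G) * (a * b) := by group
    rw [hCN, Subgroup.mem_bot] at hc
    exact ha₁ (Subtype.ext hc)
  obtain ⟨b₀, hb₀B, hb₀1⟩ : ∃ b ∈ B, b ≠ 1 := by
    by_contra hcon
    push_neg at hcon
    have hNA : ∀ n ∈ N, n ∈ A := by
      intro n hn
      obtain ⟨a, ha, b, hb, rfl⟩ := hprod n hn
      rw [hcon b hb, mul_one]; exact ha
    apply hnas
    refine ⟨N, hNn, ?_, ?_, hCN⟩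
    · refine { exists_pair_ne := ⟨⟨u₁, hu₁⟩, ⟨u₂, hu₂⟩, fun h => hu₁₂ (by
                  have e : u₁ = u₂ := Subtype.ext_iff.1 h
                  rw [e])⟩
               eq_bot_or_eq_top_of_normal := fun K hK => ?_ }
      by_cases hKbot : K = ⊥
      · exact Or.inl hKbot
      · right
        obtain ⟨k₁, hk₁⟩ := (Subgroup.ne_bot_iff_exists_ne_one).1 hKbot
        have h1 : K.map N.subtype ≠ ⊥ := by
          intro h
          have : ((k₁ : N) : G) ∈ K.map N.subtype := ⟨(k₁ : N), k₁.2, rfl⟩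
          rw [h, Subgroup.mem_bot] at this
          exact hk₁ (Subtype.ext (Subtype.ext this))
        have h2 : K.map N.subtype ≤ N := by
          rintro _ ⟨k, -, rfl⟩
          exact k.2
        have h3 : ∀ n ∈ N, ∀ a ∈ K.map N.subtype, n * a * n⁻¹ ∈ K.map N.subtype := by
          rintro n hn _ ⟨k, hk, rfl⟩
          exact ⟨⟨n, hn⟩ * k * ⟨n, hn⟩⁻¹, hK.conj_mem k hk ⟨n, hn⟩, rfl⟩
        have h4 : A ≤ K.map N.subtype := hAmin' _ h1 h2 h3 (fun x hx => hNA x (h2 hx))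
        rw [Subgroup.eq_top_iff']
        intro k
        obtain ⟨k', hk', hkk⟩ := h4 (hNA _ k.2)
        have : k' = k := Subtype.ext hkk
        rw [← this]; exact hk'
    · intro hcomm
      exact hu₁₂ (Subtype.ext_iff.1 (hcomm.1.1 ⟨u₁, hu₁⟩ ⟨u₂, hu₂⟩))
  obtain ⟨a₀, ha₀A, ha₀1⟩ : ∃ a ∈ A, a ≠ 1 := by
    obtain ⟨a, ha⟩ := (Subgroup.ne_bot_iff_exists_ne_one).1 hAbot
    exact ⟨(a : G), a.2, fun h => ha (Subtype.ext h)⟩
  have hBA : ∀ b ∈ B, ∀ a ∈ A, b * a = a * b := fun b hb a ha => (hAB a ha b hb).symm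
  have hprod' : ∀ n ∈ N, ∃ b ∈ B, ∃ a ∈ A, n = b * a := by
    intro n hn
    obtain ⟨a, ha, b, hb, rfl⟩ := hprod n hn
    exact ⟨b, hb, a, ha, hAB a ha b hb⟩
  obtain ⟨-, hSA⟩ := pair_lemma hfa N B A hBA hprod' hNtr ⟨b₀, hb₀B, hb₀1⟩
  have hnotmix : ∀ x ∈ A, ∀ g : G, ∀ a ∈ A, ∀ b ∈ B, g * x * g⁻¹ = a * b → a = 1 ∨ b = 1 := by
    intro x hx g a ha b hb h
    rcases hconj g with h1 | h1
    · right
      refine hdisj b ?_ hb
      have h2 := A.mul_mem (A.inv_mem ha) (h1 x hx)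
      rw [h, inv_mul_cancel_left] at h2
      exact h2
    · left
      refine hdisj a ha ?_
      have h2 := B.mul_mem (h1 x hx) (B.inv_mem hb)
      rw [h, mul_inv_cancel_right] at h2
      exact h2
  have hZA : ∀ z ∈ A, (∀ x ∈ A, x * z = z * x) → z = 1 := by
    intro z hz hcomm
    exact hdisj z hz ((hBmem z).2 ⟨hAN hz, hcomm⟩)
  have hZB : ∀ z ∈ B, (∀ x ∈ B, x * z = z * x) → z = 1 := by
    intro z hz hcomm
    have hc : z ∈ Subgroup.centralizer (N : Set G) := by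
      rw [Subgroup.mem_centralizer_iff]
      intro n hn
      obtain ⟨a, ha, b, hb, rfl⟩ := hprod n hn
      have e1 : a * z = z * a := hAB a ha z hz
      have e2 : b * z = z * b := hcomm b hb
      calc a * b * z = a * (b * z) := by group
        _ = a * (z * b) := by rw [e2]
        _ = (a * z) * b := by group
        _ = (z * a) * b := by rw [e1]
        _ = z * (a * b) := by group
    rw [hCN, Subgroup.mem_bot] at hc
    exact hc
  obtain ⟨xm, hxm, ym, hym, hxm1, hym1, hmder⟩ : ∃ x ∈ A, ∃ y ∈ B, x ≠ 1 ∧ y ≠ 1 ∧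
      ∀ ω : Ω, (x * y) • ω ≠ ω := by
    by_contra hcon
    push_neg at hcon
    have hfixAB : ∀ a ∈ A, ∀ b ∈ B, a ≠ 1 → b ≠ 1 → ∃ ω : Ω, (a * b) • ω = ω := hcon
    obtain ⟨-, hSB⟩ := pair_lemma hfa N A B hAB hprod hNtr ⟨a₀, ha₀A, ha₀1⟩
    obtain ⟨-, hSA⟩ := pair_lemma hfa N B A hBA hprod' hNtr ⟨b₀, hb₀B, hb₀1⟩
    have hfixBA : ∀ b ∈ B, ∀ a ∈ A, b ≠ 1 → a ≠ 1 → ∃ ω : Ω, (b * a) • ω = ω := by
      intro b hb a ha hb1 ha1
      rw [hBA b hb a ha]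
      exact hfixAB a ha b hb ha1 hb1
    have hSB' := hSB hfixAB
    have hSA' := hSA hfixBA
    have hord : ∀ a ∈ A, ∀ b ∈ B, a ≠ 1 → b ≠ 1 → orderOf a = orderOf b := by
      intro a ha b hb ha1 hb1
      obtain ⟨ω, hω⟩ := hfixAB a ha b hb ha1 hb1
      have hpow : ∀ m : ℕ, (a ^ m * b ^ m) • ω = ω := by
        intro m
        have h1 : (a * b) ^ m = a ^ m * b ^ m := Commute.mul_pow (hAB a ha b hb) m
        rw [← h1]
        exact MulAction.mem_stabilizer_iff.1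
          (Subgroup.pow_mem _ (MulAction.mem_stabilizer_iff.2 hω) _)
      apply Nat.dvd_antisymm
      · apply orderOf_dvd_of_pow_eq_one
        have h1 := hpow (orderOf b)
        rw [pow_orderOf_eq_one, mul_one] at h1
        exact hSA' ω _ (A.pow_mem ha _) h1
      · apply orderOf_dvd_of_pow_eq_one
        have h1 := hpow (orderOf a)
        rw [pow_orderOf_eq_one, one_mul] at h1
        exact hSB' ω _ (B.pow_mem hb _) h1
    have hb₀ord : orderOf b₀ ≠ 1 := fun h => hb₀1 (orderOf_eq_one_iff.1 h)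
    obtain ⟨p, hpdef⟩ : ∃ p : ℕ, p = (orderOf b₀).minFac := ⟨_, rfl⟩
    have hpp : p.Prime := by rw [hpdef]; exact Nat.minFac_prime hb₀ord
    have hpd : p ∣ orderOf b₀ := by rw [hpdef]; exact Nat.minFac_dvd _
    have hcord : orderOf (b₀ ^ (orderOf b₀ / p)) = p :=
      orderOf_pow_orderOf_div (orderOf_pos b₀).ne' hpd
    have hc1 : b₀ ^ (orderOf b₀ / p) ≠ 1 := by
      intro h
      rw [h, orderOf_one] at hcord
      exact hpp.one_lt.ne hcord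
    have hAp : ∀ a ∈ A, a ^ p = 1 := by
      intro a ha
      by_cases ha1 : a = 1
      · rw [ha1, one_pow]
      · have h1 := hord a ha _ (B.pow_mem hb₀B _) ha1 hc1
        rw [hcord] at h1
        rw [← h1]; exact pow_orderOf_eq_one a
    haveI : Fact p.Prime := ⟨hpp⟩
    have hPG : IsPGroup p A := by
      intro a
      refine ⟨1, ?_⟩
      rw [pow_one]
      apply Subtype.ext
      rw [Subgroup.coe_pow]
      exact hAp a a.2
    haveI : Nontrivial A := ⟨⟨⟨a₀, ha₀A⟩, 1, fun h => ha₀1 (Subtype.ext_iff.1 h)⟩⟩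
    haveI := hPG.center_nontrivial
    obtain ⟨z, hz⟩ := exists_ne (1 : Subgroup.center A)
    have hzB : ((z : A) : G) ∈ B := by
      rw [hBmem]
      refine ⟨hAN (z : A).2, fun a ha => ?_⟩
      have h1 := (Subgroup.mem_center_iff.1 z.2) ⟨a, ha⟩
      exact Subtype.ext_iff.1 h1
    have hz1 := hdisj _ (z : A).2 hzB
    exact hz (Subtype.ext (Subtype.ext hz1))
  by_cases hfirst : ∃ a ∈ A, ∀ b ∈ B, ∀ ω : Ω, (b * a) • ω ≠ ω
  · obtain ⟨a, ha, hader⟩ := hfirst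
    have hader' : ∀ b ∈ B, ∀ ω : Ω, (a * b) • ω ≠ ω := by
      intro b hb
      rw [hAB a ha b hb]
      exact hader b hb
    have had : ∀ ω : Ω, a • ω ≠ ω := by
      have := hader 1 B.one_mem
      rwa [one_mul] at this
    have ha1 : a ≠ 1 := hder1 a had
    obtain ⟨b₁, hb₁, b₂, hb₂, r₁, r₂, hr₁, hr₂, hr₁₂, ho₁, ho₂⟩ :=
      two_primes B ⟨b₀, hb₀B, hb₀1⟩ hZB
    have hb₁1 : b₁ ≠ 1 := hne_one r₁ b₁ hr₁ ho₁
    have hb₂1 : b₂ ≠ 1 := hne_one r₂ b₂ hr₂ ho₂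
    have Hlem : ∀ g : G, ∀ b ∈ B, ∀ b' ∈ B, ∀ r : ℕ, g * (a * b) * g⁻¹ = a * b' → b ^ r = 1 →
        b' ^ r = 1 ∨ a ^ r = 1 := by
      intro g b hb b' hb' r hg hbr
      have e1 : (a * b) ^ r = a ^ r := by
        rw [Commute.mul_pow (hAB a ha b hb) r, hbr, mul_one]
      have e2 : (a * b') ^ r = a ^ r * b' ^ r := Commute.mul_pow (hAB a ha b' hb') r
      have e3 : g * a ^ r * g⁻¹ = a ^ r * b' ^ r := by
        calc g * a ^ r * g⁻¹ = g * (a * b) ^ r * g⁻¹ := by rw [e1]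
          _ = (g * (a * b) * g⁻¹) ^ r := (conj_pow).symm
          _ = (a * b') ^ r := by rw [hg]
          _ = a ^ r * b' ^ r := e2
      rcases hnotmix (a ^ r) (A.pow_mem ha r) g (a ^ r) (A.pow_mem ha r) (b' ^ r)
        (B.pow_mem hb' r) e3 with h | h
      · exact Or.inr h
      · exact Or.inl h
    rcases h3 a (a * b₁) (a * b₂) had (hader' b₁ hb₁) (hader' b₂ hb₂) with
      ⟨c, hc⟩ | ⟨c, hc⟩ | ⟨c, hc⟩
    · rcases hnotmix a ha c a ha b₁ hb₁ hc with h | h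
      · exact ha1 h
      · exact hb₁1 h
    · rcases hnotmix a ha c a ha b₂ hb₂ hc with h | h
      · exact ha1 h
      · exact hb₂1 h
    · have hc' : c⁻¹ * (a * b₂) * c⁻¹⁻¹ = a * b₁ := by
        rw [← hc]; group
      have k1 : a ^ r₁ = 1 := by
        rcases Hlem c b₁ hb₁ b₂ hb₂ r₁ hc (by rw [← ho₁]; exact pow_orderOf_eq_one b₁) with h | h
        · exact absurd h (hprime_ne r₁ r₂ b₂ hr₁ hr₂ hr₁₂ ho₂)
        · exact h
      have k2 : a ^ r₂ = 1 := by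
        rcases Hlem c⁻¹ b₂ hb₂ b₁ hb₁ r₂ hc' (by rw [← ho₂]; exact pow_orderOf_eq_one b₂) with h | h
        · exact absurd h (hprime_ne r₂ r₁ b₁ hr₂ hr₁ (Ne.symm hr₁₂) ho₁)
        · exact h
      have d1 : orderOf a ∣ r₁ := orderOf_dvd_of_pow_eq_one k1
      have d2 : orderOf a ∣ r₂ := orderOf_dvd_of_pow_eq_one k2
      have d3 : orderOf a ∣ Nat.gcd r₁ r₂ := Nat.dvd_gcd d1 d2
      have hcop : Nat.gcd r₁ r₂ = 1 := (Nat.coprime_primes hr₁ hr₂).2 hr₁₂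
      rw [hcop, Nat.dvd_one] at d3
      exact ha1 (orderOf_eq_one_iff.1 d3)
  · push_neg at hfirst
    have hAsemi := semireg hfa N B A hBA hprod' hNtr hfirst
    obtain ⟨a₁, ha₁, a₂, ha₂, r₁, r₂, hr₁, hr₂, hr₁₂, ho₁, ho₂⟩ :=
      two_primes A ⟨a₀, ha₀A, ha₀1⟩ hZA
    have ha₁1 : a₁ ≠ 1 := hne_one r₁ a₁ hr₁ ho₁
    have ha₂1 : a₂ ≠ 1 := hne_one r₂ a₂ hr₂ ho₂
    have hd₁ : ∀ ω : Ω, a₁ • ω ≠ ω := fun ω h => ha₁1 (hAsemi ω a₁ ha₁ h)
    have hd₂ : ∀ ω : Ω, a₂ • ω ≠ ω := fun ω h => ha₂1 (hAsemi ω a₂ ha₂ h)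
    rcases h3 a₁ a₂ (xm * ym) hd₁ hd₂ hmder with ⟨c, hc⟩ | ⟨c, hc⟩ | ⟨c, hc⟩
    · exact hprime_ne r₁ r₂ a₂ hr₁ hr₂ hr₁₂ ho₂
        (hpowconj a₁ a₂ c r₁ hc (by rw [← ho₁]; exact pow_orderOf_eq_one a₁))
    · rcases hnotmix a₁ ha₁ c xm hxm ym hym hc with h | h
      · exact hxm1 h
      · exact hym1 h
    · rcases hnotmix a₂ ha₂ c xm hxm ym hym hc with h | h
      · exact hxm1 h
      · exact hym1 h

end Cfsg.Agent.Lead.Derange2
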