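import Mathlib

set_option autoImplicit false

/-!
# An abstract class-equation count (towards Dickson's lemma)

Let `G` be a finite group with a central subgroup `Z` of order prime to `p` such that centralizers
of elements outside `Z` are abelian, the centralizer of a nontrivial element of a Sylow
`p`-subgroup `P` is `Z * P`, every element normalizing the centralizer of an element `g` whose
centralizer has no element of order `p` centralizes or inverts `g`, and (if `|N(P)| = |Z||P|h` with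
`h ≥ 2`) there is such a `g` with `|C(g)| = |Z| h`.  Then `P` is normal, or `G = N(P) ∪ P g N(P)`,
or `|P| = 3` and there are exactly three double cosets `P g N(P)` outside `N(P)`.
-/

namespace Cfsg.Agent.Lead.Dickson

open Subgroup

/-! ### Arithmetic -/

theorem ar1 (Q e ε c V z : ℕ) (hQ : 3 ≤ Q) (he : 2 ≤ e) (hε : ε = 1 ∨ ε = 2)
    (hc : c * ε * e = V * Q * (e - 1)) (hcz : c + z ≤ V) (hz : 1 ≤ z) :
    Q = 3 ∧ ε = 2 ∧ e = 2 := by
  obtain ⟨f, rfl⟩ : ∃ f, e = f + 1 := ⟨e - 1, by omega⟩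
  have hf : 1 ≤ f := by omega
  rw [Nat.add_sub_cancel] at hc
  have hcV : c + 1 ≤ V := by omega
  have h1 : 3 * ((c + 1) * f) ≤ V * Q * f := by
    calc 3 * ((c + 1) * f) ≤ Q * (V * f) := Nat.mul_le_mul hQ (Nat.mul_le_mul_right f hcV)
      _ = V * Q * f := by ring
  have h2 : c ≤ c * f := Nat.le_mul_of_pos_right c (by omega)
  rcases hε with rfl | rfl
  · exfalso; nlinarith
  · have hf1 : f = 1 := by
      by_contra hne
      have hf2 : 2 ≤ f := by omega
      have h3 : c * 2 ≤ c * f := Nat.mul_le_mul_left c hf2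
      nlinarith
    subst hf1
    refine ⟨?_, rfl, rfl⟩
    by_contra hne
    have hQ4 : 4 ≤ Q := by omega
    have h4 : 4 * (c + 1) ≤ Q * V := Nat.mul_le_mul hQ4 hcV
    nlinarith

theorem ar2 (V z c c2 e ε : ℕ) (h4c : 4 * c = 3 * V) (hc2 : c2 * ε * e = V * 3 * (e - 1))
    (he : 2 ≤ e) (hε : ε = 1 ∨ ε = 2) (hsum : c + c2 + z ≤ V) (hz : 1 ≤ z) : False := by
  obtain ⟨f, rfl⟩ : ∃ f, e = f + 1 := ⟨e - 1, by omega⟩
  have hf : 1 ≤ f := by omega
  rw [Nat.add_sub_cancel] at hc2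
  have h4 : 4 * c2 + 4 ≤ V := by omega
  have h5 : (4 * c2 + 4) * (f + 1) ≤ V * (f + 1) := Nat.mul_le_mul_right _ h4
  have h6 : V ≤ V * f := Nat.le_mul_of_pos_right V (by omega)
  rcases hε with rfl | rfl <;> nlinarith

theorem ar4 (W V z g cH c2 e : ℕ) (hW : 3 * V ≤ W) (hcH : 2 * cH = W * g)
    (hc2 : c2 * 1 * e = W * (g + 1) * (e - 1)) (he : 2 ≤ e)
    (hsum : cH + c2 + z ≤ W * g + V) (hz : 1 ≤ z) : False := by
  obtain ⟨f, rfl⟩ : ∃ f, e = f + 1 := ⟨e - 1, by omega⟩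
  have hf : 1 ≤ f := by omega
  rw [Nat.add_sub_cancel] at hc2
  have h1 : 2 * c2 + 2 ≤ W * g + 2 * V := by linarith
  have h2 : (2 * c2 + 2) * (f + 1) ≤ (W * g + 2 * V) * (f + 1) := Nat.mul_le_mul_right _ h1
  have h3 : W * g ≤ W * g * f := Nat.le_mul_of_pos_right _ (by omega)
  have h4 : 3 * V * f ≤ W * f := Nat.mul_le_mul_right f hW
  have h5 : V ≤ V * f := Nat.le_mul_of_pos_right V (by omega)
  nlinarith

theorem ar5 (W V z g cH c2 c3 e2 e3 ε3 : ℕ) (hW : 3 * V ≤ W) (hcH : 2 * cH = W * g)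
    (hc2 : c2 * 2 * e2 = W * (g + 1) * (e2 - 1)) (he2 : 2 ≤ e2)
    (hc3 : c3 * ε3 * e3 = W * (g + 1) * (e3 - 1)) (he3 : 2 ≤ e3) (hε3 : ε3 = 1 ∨ ε3 = 2)
    (hsum : cH + c2 + c3 + z ≤ W * g + V) (hz : 1 ≤ z) : False := by
  obtain ⟨f2, rfl⟩ : ∃ f, e2 = f + 1 := ⟨e2 - 1, by omega⟩
  obtain ⟨f3, rfl⟩ : ∃ f, e3 = f + 1 := ⟨e3 - 1, by omega⟩
  have hf2 : 1 ≤ f2 := by omega
  have hf3 : 1 ≤ f3 := by omega
  rw [Nat.add_sub_cancel] at hc2 hc3
  have h3 : W * (g + 1) ≤ 4 * c3 := by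
    have hmul : W * (g + 1) * f3 ≤ 4 * c3 * f3 := by
      have hc : c3 ≤ c3 * f3 := Nat.le_mul_of_pos_right c3 (by omega)
      have h0 : 0 ≤ c3 * f3 := Nat.zero_le _
      rcases hε3 with rfl | rfl <;> nlinarith
    exact Nat.le_of_mul_le_mul_right hmul (by omega)
  have hS : (cH + c2 + c3 + z) * (2 * (f2 + 1)) ≤ (W * g + V) * (2 * (f2 + 1)) :=
    Nat.mul_le_mul_right _ hsum
  have h4 : c3 ≤ c3 * f2 := Nat.le_mul_of_pos_right c3 (by omega)
  have h5 : 3 * V * f2 ≤ W * f2 := Nat.mul_le_mul_right f2 hW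
  have h6 : 0 ≤ z * f2 := Nat.zero_le _
  have h6' : 0 ≤ V * f2 := Nat.zero_le _
  have h7 : 2 * cH * (f2 + 1) = W * g * (f2 + 1) := by rw [hcH]
  nlinarith

theorem ar6 (N Q z g cH c2 e2 : ℕ) (hz : 1 ≤ z) (hcH : 2 * cH = (N * z * Q) * g)
    (hc2 : c2 * 2 * e2 = (N * z * Q) * (g + 1) * (e2 - 1)) (he2 : 2 ≤ e2)
    (hsum : cH + c2 + z = (N * z * Q) * g + N * z) :
    N * Q * (e2 - 1) + 2 * e2 = N * Q * g + 2 * N * e2 := by
  obtain ⟨f, rfl⟩ : ∃ f, e2 = f + 1 := ⟨e2 - 1, by omega⟩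
  rw [Nat.add_sub_cancel] at hc2 ⊢
  have h1 : (cH + c2 + z) * (2 * (f + 1)) = ((N * z * Q) * g + N * z) * (2 * (f + 1)) := by
    rw [hsum]
  have h7 : 2 * cH * (f + 1) = (N * z * Q) * g * (f + 1) := by rw [hcH]
  have key : z * (N * Q * f + 2 * (f + 1)) = z * (N * Q * g + 2 * N * (f + 1)) := by nlinarith
  exact Nat.eq_of_mul_eq_mul_left (by omega) key

theorem ar7 (k Q g f : ℕ) (hk : 1 ≤ k) (hQ : 3 ≤ Q) (hg : g + 2 ≤ Q) (hf : 1 ≤ f)
    (heq : (1 + k * Q) * Q * f + 2 * (f + 1) =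
      (1 + k * Q) * Q * g + 2 * (1 + k * Q) * (f + 1)) :
    k = 1 ∨ (Q = 3 ∧ k = 3) := by
  obtain ⟨q, rfl⟩ : ∃ q, Q = q + 2 := ⟨Q - 2, by omega⟩
  have hq : 1 ≤ q := by omega
  have h1 : (1 + k * q) * f = (1 + k * q) * g + 2 * k * (g + 1) := by
    have h0 : (q + 2) * ((1 + k * q) * f) = (q + 2) * ((1 + k * q) * g + 2 * k * (g + 1)) := by
      nlinarith
    exact Nat.eq_of_mul_eq_mul_left (by omega) h0
  have hdvd : (1 + k * q) ∣ 2 * k * (g + 1) :=
    (Nat.dvd_add_right (dvd_mul_right _ _)).mp ⟨f, h1.symm⟩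
  have hcop : Nat.Coprime (1 + k * q) k := by
    rw [Nat.coprime_add_mul_left_left]; exact Nat.coprime_one_left k
  have hdvd2 : (1 + k * q) ∣ 2 * (g + 1) := by
    have h2 : (1 + k * q) ∣ k * (2 * (g + 1)) := by
      rw [show k * (2 * (g + 1)) = 2 * k * (g + 1) by ring]; exact hdvd
    exact hcop.dvd_of_dvd_mul_left h2
  have hle : 1 + k * q ≤ 2 * (g + 1) := Nat.le_of_dvd (by omega) hdvd2
  rcases Nat.lt_or_ge k 2 with hk2 | hk2
  · left; omega
  rcases Nat.lt_or_ge k 3 with hk3 | hk3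
  · exfalso
    have hk2' : k = 2 := by omega
    subst hk2'
    have hcop2 : Nat.Coprime (1 + 2 * q) 2 := by
      rw [Nat.coprime_add_mul_left_left]; exact Nat.coprime_one_left 2
    have h3 : (1 + 2 * q) ∣ g + 1 := hcop2.dvd_of_dvd_mul_left hdvd2
    have := Nat.le_of_dvd (by omega) h3
    omega
  · right
    have h3 : 3 * q ≤ k * q := Nat.mul_le_mul_right q hk3
    have hq1 : q = 1 := by omega
    subst hq1
    refine ⟨rfl, ?_⟩
    omega

/-! ### Classes -/

section Cls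

variable {G : Type*} [Group G]

/-- `x` lies in the class of `g`: `x ∉ Z` and some conjugate of `x` commutes with `g`. -/
def InCls (Z : Subgroup G) (g x : G) : Prop :=
  x ∉ Z ∧ ∃ l : G, (l⁻¹ * x * l) * g = g * (l⁻¹ * x * l)

theorem central_conj {Z : Subgroup G} (hZ : Z ≤ center G) {x : G} (l : G) :
    l * x * l⁻¹ ∈ Z ↔ x ∈ Z := by
  constructor
  · intro h
    have h1 := Subgroup.mem_center_iff.mp (hZ h) l
    have h3 : l * (l * x * l⁻¹) = l * x := by rw [h1]; group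
    have h2 : l * x * l⁻¹ = x := mul_left_cancel h3
    exact h2 ▸ h
  · intro h
    have h1 := Subgroup.mem_center_iff.mp (hZ h) l
    have h2 : l * x * l⁻¹ = x := by rw [h1, mul_inv_cancel_right]
    rw [h2]; exact h

theorem comm_trans {Z : Subgroup G}
    (hCA : ∀ g : G, g ∉ Z → ∀ a b : G, a * g = g * a → b * g = g * b → a * b = b * a)
    {g m : G} (hg : g ∉ Z) (hm : m ∉ Z) (hmg : m * g = g * m) (a : G) :
    a * m = m * a ↔ a * g = g * a :=
  ⟨fun h => hCA m hm a g h hmg.symm, fun h => hCA g hg a m h hmg⟩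

theorem conj_comm_iff (n a m : G) :
    a * m = m * a ↔ (n * a * n⁻¹) * (n * m * n⁻¹) = (n * m * n⁻¹) * (n * a * n⁻¹) := by
  constructor
  · intro h
    calc n * a * n⁻¹ * (n * m * n⁻¹) = n * (a * m) * n⁻¹ := by group
      _ = n * (m * a) * n⁻¹ := by rw [h]
      _ = n * m * n⁻¹ * (n * a * n⁻¹) := by group
  · intro h
    calc a * m = n⁻¹ * (n * a * n⁻¹ * (n * m * n⁻¹)) * n := by group
      _ = n⁻¹ * (n * m * n⁻¹ * (n * a * n⁻¹)) * n := by rw [h]
      _ = m * a := by group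

theorem inCls_self {Z : Subgroup G} {g : G} (hg : g ∉ Z) : InCls Z g g :=
  ⟨hg, 1, by group⟩

theorem inCls_trans {Z : Subgroup G} (hZ : Z ≤ center G)
    (hCA : ∀ g : G, g ∉ Z → ∀ a b : G, a * g = g * a → b * g = g * b → a * b = b * a)
    {g x : G} (hg : g ∉ Z) (hx : InCls Z g x) (y : G) : InCls Z x y ↔ InCls Z g y := by
  obtain ⟨hxZ, l, hl⟩ := hx
  have hmZ : l⁻¹ * x * l ∉ Z := fun h => hxZ ((central_conj hZ l⁻¹).mp (by rwa [inv_inv]))
  have key : ∀ a : G, a * (l⁻¹ * x * l) = (l⁻¹ * x * l) * a ↔ a * g = g * a :=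
    fun a => comm_trans hCA hg hmZ hl a
  constructor
  · rintro ⟨hyZ, l', hl'⟩
    refine ⟨hyZ, l' * l, ?_⟩
    have h1 : (l⁻¹ * (l'⁻¹ * y * l') * l) * (l⁻¹ * x * l) =
        (l⁻¹ * x * l) * (l⁻¹ * (l'⁻¹ * y * l') * l) := by
      calc (l⁻¹ * (l'⁻¹ * y * l') * l) * (l⁻¹ * x * l)
          = l⁻¹ * ((l'⁻¹ * y * l') * x) * l := by group
        _ = l⁻¹ * (x * (l'⁻¹ * y * l')) * l := by rw [hl']
        _ = _ := by group
    have h2 := (key _).mp h1
    have h3 : (l' * l)⁻¹ * y * (l' * l) = l⁻¹ * (l'⁻¹ * y * l') * l := by group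
    rw [h3]; exact h2
  · rintro ⟨hyZ, l', hl'⟩
    refine ⟨hyZ, l' * l⁻¹, ?_⟩
    have h1 := (key _).mpr hl'
    calc (l' * l⁻¹)⁻¹ * y * (l' * l⁻¹) * x
        = l * ((l'⁻¹ * y * l') * (l⁻¹ * x * l)) * l⁻¹ := by group
      _ = l * ((l⁻¹ * x * l) * (l'⁻¹ * y * l')) * l⁻¹ := by rw [h1]
      _ = x * ((l' * l⁻¹)⁻¹ * y * (l' * l⁻¹)) := by group

theorem inCls_symm {Z : Subgroup G} (hZ : Z ≤ center G)
    (hCA : ∀ g : G, g ∉ Z → ∀ a b : G, a * g = g * a → b * g = g * b → a * b = b * a)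
    {g x : G} (hg : g ∉ Z) (hx : InCls Z g x) : InCls Z x g :=
  (inCls_trans hZ hCA hg hx g).mpr (inCls_self hg)

open Classical in
/-- The class of `g` as a finset. -/
noncomputable def cls [Fintype G] (Z : Subgroup G) (g : G) : Finset G :=
  Finset.univ.filter (fun x => InCls Z g x)

theorem mem_cls [Fintype G] {Z : Subgroup G} {g x : G} : x ∈ cls Z g ↔ InCls Z g x := by
  unfold cls
  simp

theorem card_filter_mem [Fintype G] (H : Subgroup G) [DecidablePred (fun x => x ∈ H)] :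
    (Finset.univ.filter (fun x => x ∈ H)).card = Nat.card H := by
  rw [← Nat.card_eq_finsetCard]
  exact Nat.card_congr (Equiv.subtypeEquivRight (fun x => by simp))

theorem cls_card [Fintype G] {Z : Subgroup G} (hZ : Z ≤ center G)
    (hCA : ∀ g : G, g ∉ Z → ∀ a b : G, a * g = g * a → b * g = g * b → a * b = b * a)
    (g : G) (hg : g ∉ Z) :
    (cls Z g).card * Nat.card (normalizer ((centralizer ({g} : Set G) : Subgroup G) : Set G)) =
      Nat.card G * (Nat.card (centralizer ({g} : Set G)) - Nat.card Z) := by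
  classical
  have hZC : Z ≤ centralizer ({g} : Set G) := by
    intro ζ hζ
    rw [mem_centralizer_singleton_iff]
    exact (Subgroup.mem_center_iff.mp (hZ hζ) g).symm
  obtain ⟨M, hMdef⟩ : ∃ M : Finset G, M = (Finset.univ.filter (fun m => m ∈ centralizer ({g} : Set G))) \
      (Finset.univ.filter (fun m => m ∈ Z)) := ⟨_, rfl⟩
  have hM : ∀ m, m ∈ M ↔ (m * g = g * m ∧ m ∉ Z) := by
    intro m
    rw [hMdef, Finset.mem_sdiff, Finset.mem_filter, Finset.mem_filter,
      mem_centralizer_singleton_iff]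
    simp
  have hMcard : M.card = Nat.card (centralizer ({g} : Set G)) - Nat.card Z := by
    rw [hMdef, Finset.card_sdiff_of_subset, card_filter_mem, card_filter_mem]
    intro m hm
    rw [Finset.mem_filter] at hm ⊢
    exact ⟨Finset.mem_univ _, hZC hm.2⟩
  obtain ⟨X, hXdef⟩ : ∃ X : Finset (G × G), X = Finset.univ ×ˢ M := ⟨_, rfl⟩
  have hXmem : ∀ l m, (l, m) ∈ X ↔ m ∈ M := by
    intro l m
    rw [hXdef, Finset.mem_product]
    simp
  obtain ⟨φ, hφ⟩ : ∃ φ : G × G → G, ∀ l m, φ (l, m) = l * m * l⁻¹ :=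
    ⟨fun q => q.1 * q.2 * q.1⁻¹, fun _ _ => rfl⟩
  have hmaps : (X : Set (G × G)).MapsTo φ (cls Z g : Finset G) := by
    rintro ⟨l, m⟩ hq
    have hm : m ∈ M := (hXmem l m).mp (Finset.mem_coe.mp hq)
    obtain ⟨hmg, hmZ⟩ := (hM m).mp hm
    refine Finset.mem_coe.mpr (mem_cls.mpr ⟨?_, l, ?_⟩)
    · rw [hφ]; exact fun h => hmZ ((central_conj hZ l).mp h)
    · rw [hφ]
      have h1 : l⁻¹ * (l * m * l⁻¹) * l = m := by group
      rw [h1]; exact hmg
  have hfib : ∀ b ∈ cls Z g, (X.filter (fun q => φ q = b)).card =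
      Nat.card (normalizer ((centralizer ({g} : Set G) : Subgroup G) : Set G)) := by
    intro b hb
    obtain ⟨hbZ, l0, hl0⟩ := mem_cls.mp hb
    obtain ⟨m0, hm0⟩ : ∃ m0, m0 = l0⁻¹ * b * l0 := ⟨_, rfl⟩
    rw [← hm0] at hl0
    have hm0Z : m0 ∉ Z := by
      rw [hm0]; exact fun h => hbZ ((central_conj hZ l0⁻¹).mp (by rwa [inv_inv]))
    have hb' : l0 * m0 * l0⁻¹ = b := by rw [hm0]; group
    have key0 : ∀ a : G, a * m0 = m0 * a ↔ a * g = g * a := fun a => comm_trans hCA hg hm0Z hl0 a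
    have hm0C : m0 ∈ centralizer ({g} : Set G) := mem_centralizer_singleton_iff.mpr hl0
    have himg : X.filter (fun q => φ q = b) =
        (Finset.univ : Finset (normalizer ((centralizer ({g} : Set G) : Subgroup G) : Set G))).image
          (fun n : ↥(normalizer ((centralizer ({g} : Set G) : Subgroup G) : Set G)) =>
            (l0 * (n : G), (n : G)⁻¹ * m0 * (n : G))) := by
      ext ⟨l, m⟩
      rw [Finset.mem_filter, hXmem, Finset.mem_image, hφ]
      constructor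
      · rintro ⟨hmM, hlm⟩
        obtain ⟨hmg, hmZ⟩ := (hM m).mp hmM
        have keym : ∀ a : G, a * m = m * a ↔ a * g = g * a := fun a => comm_trans hCA hg hmZ hmg a
        have hnm : (l0⁻¹ * l) * m * (l0⁻¹ * l)⁻¹ = m0 := by
          rw [hm0, ← hlm]; group
        have hn : l0⁻¹ * l ∈ normalizer ((centralizer ({g} : Set G) : Subgroup G) : Set G) := by
          rw [mem_normalizer_iff]
          intro a
          rw [mem_centralizer_singleton_iff, mem_centralizer_singleton_iff]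
          refine ((keym a).symm.trans ((conj_comm_iff (l0⁻¹ * l) a m).trans ?_)).trans (key0 _)
          rw [hnm]
        refine ⟨⟨l0⁻¹ * l, hn⟩, Finset.mem_univ _, Prod.ext ?_ ?_⟩
        · show l0 * (l0⁻¹ * l) = l
          group
        · show (l0⁻¹ * l)⁻¹ * m0 * (l0⁻¹ * l) = m
          rw [← hnm]; group
      · rintro ⟨n, -, hn⟩
        rw [Prod.mk.injEq] at hn
        obtain ⟨rfl, rfl⟩ := hn
        have hnN := n.2
        rw [mem_normalizer_iff] at hnN
        have h1 : (n : G)⁻¹ * m0 * (n : G) ∈ centralizer ({g} : Set G) := by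
          rw [hnN]
          have h2 : (n : G) * ((n : G)⁻¹ * m0 * (n : G)) * (n : G)⁻¹ = m0 := by group
          rw [h2]; exact hm0C
        refine ⟨(hM _).mpr ⟨mem_centralizer_singleton_iff.mp h1, ?_⟩, ?_⟩
        · exact fun h => hm0Z ((central_conj hZ (n : G)⁻¹).mp (by rwa [inv_inv]))
        · rw [← hb']; group
    rw [himg, Finset.card_image_of_injective, Finset.card_univ]
    · exact Nat.card_eq_fintype_card.symm
    · intro n n' h
      rw [Prod.mk.injEq] at h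
      exact Subtype.ext (mul_left_cancel h.1)
  have h1 : X.card = (cls Z g).card *
      Nat.card (normalizer ((centralizer ({g} : Set G) : Subgroup G) : Set G)) := by
    rw [Finset.card_eq_sum_card_fiberwise hmaps, Finset.sum_const_nat hfib]
  have h2 : X.card = Nat.card G * M.card := by
    rw [hXdef, Finset.card_product, Finset.card_univ, Nat.card_eq_fintype_card]
  rw [← h1, h2, hMcard]

end Cls


/-! ### The count -/

section Main

variable {G : Type*} [Group G] [Finite G] {p : ℕ} [Fact p.Prime]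

theorem eq_one_of_pows {x : G} {k z : ℕ} (h1 : x ^ (p ^ k) = 1) (h2 : x ^ z = 1)
    (hz : z.Coprime p) : x = 1 := by
  have h3 : x ^ (Nat.gcd (p ^ k) z) = 1 := pow_gcd_eq_one.mpr ⟨h1, h2⟩
  have h4 : Nat.gcd (p ^ k) z = 1 := Nat.Coprime.pow_left k hz.symm
  rwa [h4, pow_one] at h3

/-- **Class equation count.**  See the file header. -/
theorem double_coset_cases (hp2 : p ≠ 2) (Z : Subgroup G) (hZ : Z ≤ center G)
    (hZp : (Nat.card Z).Coprime p) (P : Sylow p G)
    (hCA : ∀ g : G, g ∉ Z → ∀ a b : G, a * g = g * a → b * g = g * b → a * b = b * a)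
    (hP : ∀ u : G, u ∈ P → u ≠ 1 → ∀ g : G, g * u = u * g → ∃ ζ ∈ Z, ∃ v ∈ P, g = ζ * v)
    (hS : ∀ g : G, g ∉ Z → (∀ u : G, u * g = g * u → u ^ p = 1 → u = 1) →
      ∀ n : G, n ∈ normalizer ((centralizer ({g} : Set G) : Subgroup G) : Set G) →
        n * g * n⁻¹ = g ∨ n * g * n⁻¹ = g⁻¹)
    (hH : ∀ h : ℕ, 2 ≤ h →
      Nat.card (normalizer ((P : Subgroup G) : Set G)) = Nat.card Z * Nat.card P * h →
      ∃ s : G, s ∉ Z ∧ (∀ u : G, u * s = s * u → u ^ p = 1 → u = 1) ∧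
        Nat.card (centralizer ({s} : Set G)) = Nat.card Z * h) :
    normalizer ((P : Subgroup G) : Set G) = ⊤ ∨
    (∀ g g' : G, g ∉ normalizer ((P : Subgroup G) : Set G) →
      g' ∉ normalizer ((P : Subgroup G) : Set G) →
      ∃ u ∈ P, ∃ b ∈ normalizer ((P : Subgroup G) : Set G), g' = u * g * b) ∨
    (Nat.card P = 3 ∧ ∀ g : Fin 4 → G, (∀ i, g i ∉ normalizer ((P : Subgroup G) : Set G)) →
      ∃ i j, i ≠ j ∧ ∃ u ∈ P, ∃ b ∈ normalizer ((P : Subgroup G) : Set G),
        g i = u * g j * b) := by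
  classical
  haveI : Fintype G := Fintype.ofFinite G
  by_cases hBtop : normalizer ((P : Subgroup G) : Set G) = ⊤
  · exact Or.inl hBtop
  right
  obtain ⟨B, hBdef⟩ : ∃ B : Subgroup G, B = normalizer ((P : Subgroup G) : Set G) := ⟨_, rfl⟩
  rw [← hBdef] at hBtop hH ⊢
  have hp : p.Prime := Fact.out
  have hp3 : 3 ≤ p := by
    have := hp.two_le
    omega
  obtain ⟨z, hzdef⟩ : ∃ z, z = Nat.card Z := ⟨_, rfl⟩
  obtain ⟨Q, hQdef⟩ : ∃ Q, Q = Nat.card P := ⟨_, rfl⟩
  rw [← hzdef, ← hQdef] at hH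
  rw [← hQdef]
  rw [← hzdef] at hZp
  have hzpos : 1 ≤ z := by rw [hzdef]; exact Nat.card_pos
  have hQpos : 1 ≤ Q := by rw [hQdef]; exact Nat.card_pos
  have hZc : ∀ ζ ∈ Z, ∀ x : G, ζ * x = x * ζ :=
    fun ζ hζ x => (Subgroup.mem_center_iff.mp (hZ hζ) x).symm
  have hZpow : ∀ ζ ∈ Z, ζ ^ z = 1 := by
    intro ζ hζ
    have h1 : orderOf ζ ∣ z := by
      rw [hzdef, ← Subgroup.orderOf_mk ζ hζ]; exact orderOf_dvd_natCard _
    exact orderOf_dvd_iff_pow_eq_one.mp h1
  have hPpow : ∀ x ∈ P, ∃ k : ℕ, x ^ (p ^ k) = 1 := by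
    intro x hx
    obtain ⟨k, hk⟩ := P.isPGroup' ⟨x, hx⟩
    refine ⟨k, ?_⟩
    have h := congrArg Subtype.val hk
    simpa using h
  have hZP : ∀ x, x ∈ Z → x ∈ P → x = 1 := by
    intro x hxZ hxP
    obtain ⟨k, hk⟩ := hPpow x hxP
    exact eq_one_of_pows hk (hZpow x hxZ) hZp
  have hBmem : ∀ n : G, n ∈ B ↔
      ∀ y : G, y ∈ (P : Subgroup G) ↔ n * y * n⁻¹ ∈ (P : Subgroup G) := by
    intro n; rw [hBdef]; exact mem_normalizer_iff
  have hPB : ∀ x, x ∈ P → x ∈ B := by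
    intro x hx; rw [hBdef]; exact le_normalizer hx
  have hPne : (P : Subgroup G) ≠ ⊥ := by
    intro h
    apply hBtop
    rw [hBdef, h]
    exact normalizer_eq_top_iff.mpr inferInstance
  have hQ1 : Q ≠ 1 := by
    rw [hQdef]; exact fun h => hPne ((Subgroup.eq_bot_iff_card _).mpr h)
  have hpQ : p ∣ Q := by
    rcases P.isPGroup'.card_eq_or_dvd with h | h
    · exact absurd (hQdef.trans h) hQ1
    · rw [hQdef]; exact h
  have hQ3 : 3 ≤ Q := le_trans hp3 (Nat.le_of_dvd (by omega) hpQ)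
  obtain ⟨u0, hu0P, hu01, hu0p⟩ : ∃ u0 : G, u0 ∈ P ∧ u0 ≠ 1 ∧ u0 ^ p = 1 := by
    have hpc : p ∣ Nat.card (P : Subgroup G) := by rw [hQdef] at hpQ; exact hpQ
    obtain ⟨x, hx⟩ := exists_prime_orderOf_dvd_card' p hpc
    refine ⟨x.1, x.2, ?_, ?_⟩
    · intro h
      have h1 : x = 1 := Subtype.ext h
      rw [h1, orderOf_one] at hx
      exact hp.one_lt.ne hx
    · have h := pow_orderOf_eq_one x
      rw [hx] at h
      have h2 := congrArg Subtype.val h
      simpa using h2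
  have hu0Z : u0 ∉ Z := fun h => hu01 (hZP u0 h hu0P)
  have hPab : ∀ a ∈ P, ∀ b ∈ P, a * b = b * a := by
    haveI : Nontrivial (P : Subgroup G) := (Subgroup.nontrivial_iff_ne_bot _).mpr hPne
    have hc := IsPGroup.bot_lt_center P.isPGroup'
    obtain ⟨c, hc1, hc2⟩ := SetLike.exists_of_lt hc
    have hcne : (c : G) ≠ 1 := by
      intro h
      apply hc2
      rw [Subgroup.mem_bot]
      exact Subtype.ext h
    have hcZ : (c : G) ∉ Z := fun h => hcne (hZP _ h c.2)
    have hcomm : ∀ a ∈ P, a * (c : G) = (c : G) * a := by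
      intro a ha
      have h := Subgroup.mem_center_iff.mp hc1 ⟨a, ha⟩
      exact congrArg Subtype.val h
    intro a ha b hb
    exact hCA (c : G) hcZ a b (hcomm a ha) (hcomm b hb)
  have hpel : ∀ u ∈ P, u ≠ 1 → ∀ x : G, x * u = u * x → (∃ k : ℕ, x ^ (p ^ k) = 1) → x ∈ P := by
    intro u hu hu1 x hx ⟨k, hk⟩
    obtain ⟨ζ, hζ, v, hv, rfl⟩ := hP u hu hu1 x hx
    have h1 : ζ ^ (p ^ k) * v ^ (p ^ k) = 1 := by
      rw [← (show Commute ζ v from hZc ζ hζ v).mul_pow]; exact hk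
    have h2 : ζ ^ (p ^ k) = (v ^ (p ^ k))⁻¹ := eq_inv_of_mul_eq_one_left h1
    have h3 : ζ ^ (p ^ k) = 1 :=
      hZP _ (Z.pow_mem hζ _) (by rw [h2]; exact inv_mem (pow_mem hv _))
    have hζ1 : ζ = 1 := eq_one_of_pows h3 (hZpow ζ hζ) hZp
    rw [hζ1, one_mul]; exact hv
  have hnorm : ∀ n : G, (∀ y ∈ P, n * y * n⁻¹ ∈ P) → n ∈ B := by
    intro n hn
    rw [hBdef]
    exact mem_normalizer_fintype (fun y hy => hn y hy)
  have hBpel : ∀ w ∈ B, (∃ k : ℕ, w ^ (p ^ k) = 1) → w ∈ P := by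
    intro w hwB ⟨k, hk⟩
    have hzp : IsPGroup p (zpowers w) := by
      obtain ⟨j, -, hj⟩ := (Nat.dvd_prime_pow hp).mp (orderOf_dvd_of_pow_eq_one hk)
      exact IsPGroup.of_card (n := j) (by rw [Nat.card_zpowers, hj])
    have h := hzp.inf_normalizer_sylow P
    have hw : w ∈ zpowers w ⊓ normalizer (P : Set G) :=
      ⟨mem_zpowers w, by rw [hBdef] at hwB; exact hwB⟩
    rw [h] at hw
    exact hw.2
  have hTI : ∀ g : G, g ∉ B → ∀ v ∈ P, g⁻¹ * v * g ∈ B → v = 1 := by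
    intro g hg v hv hw
    by_contra hv1
    obtain ⟨k, hk⟩ := hPpow v hv
    have hwP : g⁻¹ * v * g ∈ P := by
      apply hBpel _ hw
      refine ⟨k, ?_⟩
      have h1 : g⁻¹ * v * g = g⁻¹ * v * g⁻¹⁻¹ := by rw [inv_inv]
      rw [h1, conj_pow, hk]; group
    apply hg
    apply hnorm
    intro y hy
    apply hpel v hv hv1
    · have h1 := hPab y hy _ hwP
      calc g * y * g⁻¹ * v = g * (y * (g⁻¹ * v * g)) * g⁻¹ := by group
        _ = g * ((g⁻¹ * v * g) * y) * g⁻¹ := by rw [h1]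
        _ = v * (g * y * g⁻¹) := by group
    · obtain ⟨j, hj⟩ := hPpow y hy
      exact ⟨j, by rw [conj_pow, hj]; group⟩
  have hCu : ∀ x : G, x * u0 = u0 * x ↔ ∃ ζ ∈ Z, ∃ v ∈ P, x = ζ * v := by
    intro x
    constructor
    · exact hP u0 hu0P hu01 x
    · rintro ⟨ζ, hζ, v, hv, rfl⟩
      calc ζ * v * u0 = ζ * (v * u0) := mul_assoc _ _ _
        _ = ζ * (u0 * v) := by rw [hPab v hv u0 hu0P]
        _ = (ζ * u0) * v := (mul_assoc _ _ _).symm
        _ = (u0 * ζ) * v := by rw [hZc ζ hζ u0]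
        _ = u0 * (ζ * v) := mul_assoc _ _ _
  have hCcard : Nat.card (centralizer ({u0} : Set G)) = z * Q := by
    rw [hzdef, hQdef, ← Nat.card_prod]
    symm
    apply Nat.card_congr
    refine Equiv.ofBijective (fun q : Z × P => (⟨(q.1 : G) * (q.2 : G),
      mem_centralizer_singleton_iff.mpr ((hCu _).mpr ⟨q.1, q.1.2, q.2, q.2.2, rfl⟩)⟩ :
      centralizer ({u0} : Set G))) ⟨?_, ?_⟩
    · rintro ⟨⟨a, ha⟩, ⟨b, hb⟩⟩ ⟨⟨a', ha'⟩, ⟨b', hb'⟩⟩ h
      have h' : a * b = a' * b' := congrArg Subtype.val h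
      have h1 : a'⁻¹ * a = b' * b⁻¹ := by
        calc a'⁻¹ * a = a'⁻¹ * (a * b) * b⁻¹ := by group
          _ = a'⁻¹ * (a' * b') * b⁻¹ := by rw [h']
          _ = b' * b⁻¹ := by group
      have h2 : a'⁻¹ * a = 1 :=
        hZP _ (Z.mul_mem (Z.inv_mem ha') ha) (by rw [h1]; exact mul_mem hb' (inv_mem hb))
      have h3 : a = a' := (inv_mul_eq_one.mp h2).symm
      subst h3
      have h4 : b = b' := mul_left_cancel h'
      subst h4
      rfl
    · rintro ⟨x, hx⟩
      obtain ⟨ζ, hζ, v, hv, rfl⟩ := (hCu x).mp (mem_centralizer_singleton_iff.mp hx)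
      exact ⟨(⟨ζ, hζ⟩, ⟨v, hv⟩), rfl⟩
  have hNC : normalizer ((centralizer ({u0} : Set G) : Subgroup G) : Set G) = B := by
    ext n
    constructor
    · intro hn
      apply hnorm
      intro y hy
      apply hpel u0 hu0P hu01
      · have hyC : y ∈ centralizer ({u0} : Set G) :=
          mem_centralizer_singleton_iff.mpr (hPab y hy u0 hu0P)
        exact mem_centralizer_singleton_iff.mp ((mem_normalizer_iff.mp hn y).mp hyC)
      · obtain ⟨j, hj⟩ := hPpow y hy
        exact ⟨j, by rw [conj_pow, hj]; group⟩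
    · intro hn
      apply mem_normalizer_fintype
      intro a ha
      have ha' : a * u0 = u0 * a := mem_centralizer_singleton_iff.mp ha
      obtain ⟨ζ, hζ, v, hv, rfl⟩ := (hCu a).mp ha'
      show n * (ζ * v) * n⁻¹ ∈ centralizer ({u0} : Set G)
      apply mem_centralizer_singleton_iff.mpr
      apply (hCu _).mpr
      refine ⟨ζ, hζ, n * v * n⁻¹, ((hBmem n).mp hn v).mp hv, ?_⟩
      calc n * (ζ * v) * n⁻¹ = n * ζ * v * n⁻¹ := by group
        _ = ζ * n * v * n⁻¹ := by rw [← hZc ζ hζ n]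
        _ = ζ * (n * v * n⁻¹) := by group
  obtain ⟨n, hndef⟩ : ∃ n, n = Nat.card G := ⟨_, rfl⟩
  obtain ⟨b, hbdef⟩ : ∃ b, b = Nat.card B := ⟨_, rfl⟩
  have hbpos : 1 ≤ b := by rw [hbdef]; exact Nat.card_pos
  have hC0B : centralizer ({u0} : Set G) ≤ B := by
    intro x hx
    obtain ⟨ζ, hζ, v, hv, rfl⟩ := (hCu x).mp (mem_centralizer_singleton_iff.mp hx)
    refine B.mul_mem ?_ (hPB v hv)
    apply hnorm
    intro y hy
    have h1 : ζ * y * ζ⁻¹ = y := by rw [hZc ζ hζ y, mul_inv_cancel_right]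
    rw [h1]; exact hy
  obtain ⟨h, hbh⟩ : ∃ h, b = z * Q * h := by
    have h1 := Subgroup.card_dvd_of_le hC0B
    rw [hCcard, ← hbdef] at h1
    exact h1
  have hhpos : 1 ≤ h := by
    rcases Nat.eq_zero_or_pos h with h0 | h0
    · rw [h0, mul_zero] at hbh; omega
    · exact h0
  rw [← hbdef] at hH
  obtain ⟨Ni, hNidef⟩ : ∃ Ni, Ni = B.index := ⟨_, rfl⟩
  have hnb : b * Ni = n := by rw [hbdef, hNidef, hndef]; exact Subgroup.card_mul_index B
  have hNi1 : Ni ≠ 1 := by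
    rw [hNidef]; exact fun h1 => hBtop (Subgroup.index_eq_one.mp h1)
  obtain ⟨FP, hFP⟩ : ∃ FP : Finset G, FP = Finset.univ.filter (fun x => x ∈ P) := ⟨_, rfl⟩
  obtain ⟨FB, hFB⟩ : ∃ FB : Finset G, FB = Finset.univ.filter (fun x => x ∈ B) := ⟨_, rfl⟩
  have hFPmem : ∀ x, x ∈ FP ↔ x ∈ P := by intro x; rw [hFP]; simp
  have hFBmem : ∀ x, x ∈ FB ↔ x ∈ B := by intro x; rw [hFB]; simp
  have hFPcard : FP.card = Q := by rw [hFP, hQdef]; exact card_filter_mem (P : Subgroup G)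
  have hFBcard : FB.card = b := by rw [hFB, hbdef]; exact card_filter_mem B
  have hhQ : h + 1 ≤ Q := by
    obtain ⟨f, hf⟩ : ∃ f : G → G, ∀ x, f x = x * u0 * x⁻¹ :=
      ⟨fun x => x * u0 * x⁻¹, fun _ => rfl⟩
    have hI : (FB.image f).card + 1 ≤ Q := by
      have hsub : FB.image f ⊆ FP.erase 1 := by
        intro a ha
        obtain ⟨x, hx, rfl⟩ := Finset.mem_image.mp ha
        have hxB : x ∈ B := (hFBmem x).mp hx
        rw [Finset.mem_erase, hFPmem, hf]
        refine ⟨?_, ((hBmem x).mp hxB u0).mp hu0P⟩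
        intro h1
        apply hu01
        have h2 : u0 = x⁻¹ * (x * u0 * x⁻¹) * x := by group
        rw [h2, h1]; group
      have h1 := Finset.card_le_card hsub
      rw [Finset.card_erase_of_mem ((hFPmem 1).mpr (one_mem _)), hFPcard] at h1
      omega
    have hfib : ∀ a ∈ FB.image f, (FB.filter (fun x => f x = a)).card ≤ z * Q := by
      intro a ha
      obtain ⟨x0, hx0, rfl⟩ := Finset.mem_image.mp ha
      rw [← hCcard, ← card_filter_mem (centralizer ({u0} : Set G))]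
      apply Finset.card_le_card_of_injOn (fun x => x0⁻¹ * x)
      · intro x hx
        have hx' := (Finset.mem_filter.mp (Finset.mem_coe.mp hx)).2
        rw [hf, hf] at hx'
        refine Finset.mem_coe.mpr (Finset.mem_filter.mpr ⟨Finset.mem_univ _,
          mem_centralizer_singleton_iff.mpr ?_⟩)
        calc x0⁻¹ * x * u0 = x0⁻¹ * (x * u0 * x⁻¹) * x := by group
          _ = x0⁻¹ * (x0 * u0 * x0⁻¹) * x := by rw [hx']
          _ = u0 * (x0⁻¹ * x) := by group
      · intro x _ x' _ hxx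
        exact mul_left_cancel hxx
    have h1 := Finset.card_le_mul_card_image FB (z * Q) hfib
    rw [hFBcard, hbh] at h1
    have h2 : h ≤ (FB.image f).card :=
      Nat.le_of_mul_le_mul_left h1 (Nat.mul_pos (by omega) (by omega))
    omega
  obtain ⟨dc, hdc⟩ : ∃ dc : G → Finset G,
      ∀ g, dc g = (FP ×ˢ FB).image (fun q => q.1 * g * q.2) := ⟨_, fun _ => rfl⟩
  have hdc_mem : ∀ g x, x ∈ dc g ↔ ∃ u ∈ P, ∃ c ∈ B, x = u * g * c := by
    intro g x
    rw [hdc, Finset.mem_image]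
    constructor
    · rintro ⟨⟨u, c⟩, hq, rfl⟩
      rw [Finset.mem_product, hFPmem, hFBmem] at hq
      exact ⟨u, hq.1, c, hq.2, rfl⟩
    · rintro ⟨u, hu, c, hc, rfl⟩
      exact ⟨(u, c), Finset.mem_product.mpr ⟨(hFPmem u).mpr hu, (hFBmem c).mpr hc⟩, rfl⟩
  have hdc_self : ∀ g, g ∈ dc g :=
    fun g => (hdc_mem g g).mpr ⟨1, one_mem _, 1, one_mem _, by group⟩
  have hdc_sub : ∀ g, g ∉ B → ∀ x ∈ dc g, x ∉ B := by
    intro g hg x hx hxB
    obtain ⟨u, hu, c, hc, rfl⟩ := (hdc_mem g x).mp hx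
    apply hg
    have h1 : g = u⁻¹ * (u * g * c) * c⁻¹ := by group
    rw [h1]
    exact B.mul_mem (B.mul_mem (B.inv_mem (hPB u hu)) hxB) (B.inv_mem hc)
  have hdc_eq : ∀ g, ∀ x ∈ dc g, dc x = dc g := by
    intro g x hx
    obtain ⟨u, hu, c, hc, rfl⟩ := (hdc_mem g x).mp hx
    ext y
    rw [hdc_mem, hdc_mem]
    constructor
    · rintro ⟨u', hu', c', hc', rfl⟩
      exact ⟨u' * u, mul_mem hu' hu, c * c', B.mul_mem hc hc', by group⟩
    · rintro ⟨u', hu', c', hc', rfl⟩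
      exact ⟨u' * u⁻¹, mul_mem hu' (inv_mem hu), c⁻¹ * c', B.mul_mem (B.inv_mem hc) hc',
        by group⟩
  have hdc_card : ∀ g, g ∉ B → (dc g).card = Q * b := by
    intro g hg
    rw [hdc, Finset.card_image_of_injOn, Finset.card_product, hFPcard, hFBcard]
    rintro ⟨u, c⟩ hq ⟨u', c'⟩ hq' heq
    rw [Finset.mem_coe, Finset.mem_product, hFPmem, hFBmem] at hq hq'
    have heq' : u * g * c = u' * g * c' := heq
    have h1 : g⁻¹ * (u'⁻¹ * u) * g = c' * c⁻¹ := by
      calc g⁻¹ * (u'⁻¹ * u) * g = g⁻¹ * u'⁻¹ * (u * g * c) * c⁻¹ := by group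
        _ = g⁻¹ * u'⁻¹ * (u' * g * c') * c⁻¹ := by rw [heq']
        _ = c' * c⁻¹ := by group
    have h2 : u'⁻¹ * u = 1 :=
      hTI g hg _ (mul_mem (inv_mem hq'.1) hq.1)
        (by rw [h1]; exact B.mul_mem hq'.2 (B.inv_mem hq.2))
    have h3 : u = u' := (inv_mul_eq_one.mp h2).symm
    subst h3
    have h4 : c = c' := mul_left_cancel heq'
    rw [h4]
  obtain ⟨Y, hY⟩ : ∃ Y : Finset G, Y = Finset.univ.filter (fun x => x ∉ B) := ⟨_, rfl⟩
  have hYmem : ∀ x, x ∈ Y ↔ x ∉ B := by intro x; rw [hY]; simp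
  have hYb : Y.card + b = n := by
    rw [hY, ← hFBcard, hFB, hndef, Nat.card_eq_fintype_card, ← Finset.card_univ, add_comm]
    exact Finset.card_filter_add_card_filter_not (fun x => x ∈ B)
  have hYcard : Y.card = (Y.image dc).card * (Q * b) := by
    rw [Finset.card_eq_sum_card_image dc Y]
    apply Finset.sum_const_nat
    intro D hD
    obtain ⟨g0, hg0, rfl⟩ := Finset.mem_image.mp hD
    have hg0B : g0 ∉ B := (hYmem g0).mp hg0
    have h1 : Y.filter (fun a => dc a = dc g0) = dc g0 := by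
      ext a
      rw [Finset.mem_filter]
      constructor
      · rintro ⟨-, h⟩; rw [← h]; exact hdc_self a
      · intro ha; exact ⟨(hYmem a).mpr (hdc_sub g0 hg0B a ha), hdc_eq g0 a ha⟩
    rw [h1, hdc_card g0 hg0B]
  obtain ⟨k, hk⟩ : ∃ k, k = (Y.image dc).card := ⟨_, rfl⟩
  rw [← hk] at hYcard
  have hNik : Ni = 1 + k * Q := by
    have h1 : b * Ni = b * (1 + k * Q) := by
      rw [hnb, ← hYb, hYcard]; ring
    exact Nat.eq_of_mul_eq_mul_left (by omega) h1
  have hk1 : 1 ≤ k := by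
    rcases Nat.eq_zero_or_pos k with h0 | h0
    · exfalso; apply hNi1; rw [hNik, h0]; simp
    · exact h0
  have hu0cls : (cls Z u0).card * b = n * (z * Q - z) := by
    have h1 := cls_card hZ hCA u0 hu0Z
    rw [hNC, hCcard, ← hbdef, ← hndef, ← hzdef] at h1
    exact h1
  obtain ⟨cU, hcU⟩ : ∃ cU, cU = (cls Z u0).card := ⟨_, rfl⟩
  rw [← hcU] at hu0cls
  have hcU' : cU + Ni * z = Ni * z * Q := by
    have h1 : z ≤ z * Q := Nat.le_mul_of_pos_right z (by omega)
    have h2 : b * (cU + Ni * z) = b * (Ni * z * Q) := by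
      have h3 : cU * b + n * z = n * (z * Q) := by
        rw [hu0cls, ← Nat.mul_add, Nat.sub_add_cancel h1]
      rw [← hnb] at h3
      nlinarith
    exact Nat.eq_of_mul_eq_mul_left (by omega) h2
  have hStype : ∀ x : G, x ∉ Z → x ∉ cls Z u0 →
      ∀ u : G, u * x = x * u → u ^ p = 1 → u = 1 := by
    intro x hxZ hxU u hux hup
    by_contra hu1
    apply hxU
    have hzp : IsPGroup p (zpowers u) := by
      have ho : orderOf u = p := orderOf_eq_prime hup hu1
      exact IsPGroup.of_card (n := 1) (by rw [Nat.card_zpowers, ho, pow_one])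
    obtain ⟨Q', hQ'⟩ := hzp.exists_le_sylow
    obtain ⟨l, hl⟩ := MulAction.exists_smul_eq G P Q'
    have huQ : u ∈ (Q' : Subgroup G) := hQ' (mem_zpowers u)
    rw [← hl, Sylow.coe_subgroup_smul] at huQ
    obtain ⟨s, hsP, hs⟩ := (Subgroup.mem_smul_pointwise_iff_exists _ _ _).mp huQ
    have hs' : l * s * l⁻¹ = u := by
      rw [← hs]; rfl
    have hs1 : s ≠ 1 := by
      intro h; apply hu1; rw [← hs', h]; group
    have hsZ : s ∉ Z := fun h => hs1 (hZP s h hsP)
    have hsu0 : s * u0 = u0 * s := hPab s hsP u0 hu0P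
    refine mem_cls.mpr ⟨hxZ, l, ?_⟩
    apply (comm_trans hCA hu0Z hsZ hsu0 _).mp
    have hux' : l * s * l⁻¹ * x = x * (l * s * l⁻¹) := by rw [hs']; exact hux
    calc l⁻¹ * x * l * s = l⁻¹ * (x * (l * s * l⁻¹)) * l := by group
      _ = l⁻¹ * ((l * s * l⁻¹) * x) * l := by rw [hux']
      _ = s * (l⁻¹ * x * l) := by group
  have hdata : ∀ x : G, x ∉ Z → x ∉ cls Z u0 → ∃ e ε : ℕ, 2 ≤ e ∧ (ε = 1 ∨ ε = 2) ∧
      Nat.card (centralizer ({x} : Set G)) = z * e ∧ (cls Z x).card * ε * e = n * (e - 1) := by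
    intro x hxZ hxU
    have hS' := hS x hxZ (hStype x hxZ hxU)
    obtain ⟨C, hCdef⟩ : ∃ C : Subgroup G, C = centralizer ({x} : Set G) := ⟨_, rfl⟩
    obtain ⟨Nn, hNndef⟩ : ∃ Nn : Subgroup G, Nn = normalizer (C : Set G) := ⟨_, rfl⟩
    rw [← hCdef] at hS'
    have hZC : Z ≤ C := by
      intro ζ hζ; rw [hCdef, mem_centralizer_singleton_iff]; exact hZc ζ hζ x
    have hxC : x ∈ C := by rw [hCdef, mem_centralizer_singleton_iff]
    obtain ⟨e, he⟩ : ∃ e, Nat.card C = z * e := by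
      have h1 := Subgroup.card_dvd_of_le hZC
      rw [← hzdef] at h1; exact h1
    have he2 : 2 ≤ e := by
      have hCpos : 0 < Nat.card C := Nat.card_pos
      rcases Nat.lt_or_ge e 2 with h2 | h2
      · exfalso
        have he1 : e = 1 := by
          rcases Nat.eq_zero_or_pos e with h0 | h0
          · rw [h0, mul_zero] at he; omega
          · omega
        rw [he1, mul_one] at he
        have hCZ : Z = C := Subgroup.eq_of_le_of_card_ge hZC (by rw [he, hzdef])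
        exact hxZ (hCZ ▸ hxC)
      · exact h2
    have hCN : C ≤ Nn := by rw [hNndef]; exact le_normalizer
    have hNcard : ∃ ε : ℕ, (ε = 1 ∨ ε = 2) ∧ Nat.card Nn = ε * Nat.card C := by
      by_cases hle : Nn ≤ C
      · exact ⟨1, Or.inl rfl, by rw [le_antisymm hle hCN, one_mul]⟩
      · obtain ⟨n0, hn0N, hn0C⟩ := SetLike.not_le_iff_exists.mp hle
        refine ⟨2, Or.inr rfl, ?_⟩
        have hinv : ∀ m ∈ Nn, m ∉ C → m * x * m⁻¹ = x⁻¹ := by
          intro m hmN hmC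
          rcases hS' m (by rw [← hNndef]; exact hmN) with h | h
          · exfalso; apply hmC
            rw [hCdef, mem_centralizer_singleton_iff]
            calc m * x = m * x * m⁻¹ * m := by group
              _ = x * m := by rw [h]
          · exact h
        have hrel : C.relIndex Nn = 2 := by
          rw [relIndex_eq_two_iff]
          refine ⟨n0⁻¹, Nn.inv_mem hn0N, ?_⟩
          intro m hm
          by_cases hmC : m ∈ C
          · refine Or.inr ⟨hmC, ?_⟩
            intro h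
            apply hn0C
            have h1 : n0 = (m * n0⁻¹)⁻¹ * m := by group
            rw [h1]; exact C.mul_mem (C.inv_mem h) hmC
          · refine Or.inl ⟨?_, hmC⟩
            rw [hCdef, mem_centralizer_singleton_iff]
            have h1 := hinv m hm hmC
            have h2 := hinv n0 hn0N hn0C
            have h2' : x = n0⁻¹ * x⁻¹ * n0 := by rw [← h2]; group
            have h3 : n0⁻¹ * x * n0 = x⁻¹ := by
              have h4 : (n0⁻¹ * x⁻¹ * n0)⁻¹ = n0⁻¹ * x * n0 := by group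
              rw [← h4, ← h2']
            calc m * n0⁻¹ * x = m * (n0⁻¹ * x * n0) * n0⁻¹ := by group
              _ = m * x⁻¹ * n0⁻¹ := by rw [h3]
              _ = (m * x * m⁻¹)⁻¹ * m * n0⁻¹ := by group
              _ = x * (m * n0⁻¹) := by rw [h1]; group
        have h4 := Subgroup.card_mul_index (C.subgroupOf Nn)
        have h5 : Nat.card (C.subgroupOf Nn) = Nat.card C :=
          Nat.card_congr (Subgroup.subgroupOfEquivOfLe hCN).toEquiv
        have h6 : (C.subgroupOf Nn).index = 2 := hrel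
        rw [h5, h6] at h4
        omega
    obtain ⟨ε, hε, hNε⟩ := hNcard
    refine ⟨e, ε, he2, hε, by rw [← hCdef]; exact he, ?_⟩
    have h1 := cls_card hZ hCA x hxZ
    rw [← hCdef, ← hNndef, hNε, he, ← hndef, ← hzdef] at h1
    obtain ⟨f, rfl⟩ : ∃ f, e = f + 1 := ⟨e - 1, by omega⟩
    have h2 : z * (f + 1) - z = z * f := by
      rw [Nat.mul_succ]; omega
    rw [h2] at h1
    rw [Nat.add_sub_cancel]
    have h3 : z * ((cls Z x).card * ε * (f + 1)) = z * (n * f) := by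
      nlinarith
    exact Nat.eq_of_mul_eq_mul_left (by omega) h3
  obtain ⟨T, hT⟩ : ∃ T : Finset G, T = Finset.univ.filter (fun x => x ∉ Z) := ⟨_, rfl⟩
  have hTmem : ∀ x, x ∈ T ↔ x ∉ Z := by intro x; rw [hT]; simp
  have hTz : T.card + z = n := by
    rw [hT, hzdef, ← card_filter_mem Z, hndef, Nat.card_eq_fintype_card, ← Finset.card_univ,
      add_comm]
    exact Finset.card_filter_add_card_filter_not (fun x => x ∈ Z)
  have hclsT : ∀ x, cls Z x ⊆ T := fun x y hy => (hTmem y).mpr (mem_cls.mp hy).1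
  obtain ⟨R0, hR0⟩ : ∃ R0 : Finset G, R0 = T \ cls Z u0 := ⟨_, rfl⟩
  have hR0mem : ∀ x, x ∈ R0 ↔ x ∉ Z ∧ x ∉ cls Z u0 := by
    intro x; rw [hR0, Finset.mem_sdiff, hTmem]
  have hR0card : R0.card + cU = T.card := by
    rw [hR0, hcU]; exact Finset.card_sdiff_add_card_eq_card (hclsT u0)
  have hclosed0 : ∀ x ∈ R0, cls Z x ⊆ R0 := by
    intro x hx y hy
    obtain ⟨hxZ, hxU⟩ := (hR0mem x).mp hx
    have hxy : InCls Z x y := mem_cls.mp hy
    refine (hR0mem y).mpr ⟨hxy.1, fun hyU => hxU (mem_cls.mpr ?_)⟩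
    have h1 : InCls Z u0 y := mem_cls.mp hyU
    have h2 : InCls Z y x := inCls_symm hZ hCA hxZ hxy
    exact (inCls_trans hZ hCA hu0Z h1 x).mp h2
  have hpeel : ∀ R : Finset G, (∀ x ∈ R, x ∈ R0 ∧ cls Z x ⊆ R) → ∀ x ∈ R,
      (∀ y ∈ R \ cls Z x, y ∈ R0 ∧ cls Z y ⊆ R \ cls Z x) ∧
        (R \ cls Z x).card + (cls Z x).card = R.card := by
    intro R hR x hx
    refine ⟨?_, Finset.card_sdiff_add_card_eq_card (hR x hx).2⟩
    intro y hy
    obtain ⟨hyR, hyx⟩ := Finset.mem_sdiff.mp hy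
    refine ⟨(hR y hyR).1, fun w hw => Finset.mem_sdiff.mpr ⟨(hR y hyR).2 hw,
      fun hwx => hyx (mem_cls.mpr ?_)⟩⟩
    have hxZ : x ∉ Z := ((hR0mem x).mp (hR x hx).1).1
    have hyZ : y ∉ Z := ((hR0mem y).mp (hR y hyR).1).1
    have h1 : InCls Z y w := mem_cls.mp hw
    have h2 : InCls Z x w := mem_cls.mp hwx
    have h3 : InCls Z w y := inCls_symm hZ hCA hyZ h1
    exact (inCls_trans hZ hCA hxZ h2 y).mp h3
  have hR0cl : ∀ x ∈ R0, x ∈ R0 ∧ cls Z x ⊆ R0 := fun x hx => ⟨hx, hclosed0 x hx⟩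
  have hdata' : ∀ x ∈ R0, ∃ e ε : ℕ, 2 ≤ e ∧ (ε = 1 ∨ ε = 2) ∧
      Nat.card (centralizer ({x} : Set G)) = z * e ∧ (cls Z x).card * ε * e = n * (e - 1) :=
    fun x hx => hdata x ((hR0mem x).mp hx).1 ((hR0mem x).mp hx).2
  have hnW : n = Ni * z * Q * h := by rw [← hnb, hbh]; ring
  have hV2 : 2 * z ≤ Ni * z := by
    have h1 : 1 * 3 ≤ k * Q := Nat.mul_le_mul hk1 hQ3
    have h2 : 2 ≤ Ni := by rw [hNik]; omega
    exact Nat.mul_le_mul_right z h2
  have hW3 : 3 * (Ni * z) ≤ Ni * z * Q := by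
    rw [mul_comm 3]; exact Nat.mul_le_mul_left _ hQ3
  have hR0eq : R0.card + Ni * z * Q + z = Ni * z * Q * h + Ni * z := by
    rw [hnW] at hTz
    omega
  have hmain : Ni = Q + 1 ∨ (Q = 3 ∧ Ni = 10) := by
    rcases Nat.lt_or_ge h 2 with hh2 | hh2
    · have hh1 : h = 1 := by omega
      rw [hh1, mul_one] at hR0eq hnW
      have hR0z : R0.card + z = Ni * z := by omega
      have hR0ne : R0.Nonempty := by
        rw [← Finset.card_pos]; omega
      obtain ⟨g1, hg1⟩ := hR0ne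
      obtain ⟨e1, ε1, he1, hε1, -, hc1⟩ := hdata' g1 hg1
      have hc1le : (cls Z g1).card ≤ R0.card := Finset.card_le_card (hclosed0 g1 hg1)
      rw [hnW] at hc1
      obtain ⟨hQeq, hε1', he1'⟩ :=
        ar1 Q e1 ε1 (cls Z g1).card (Ni * z) z hQ3 he1 hε1 hc1 (by omega) hzpos
      subst hε1' he1'
      rw [hQeq] at hc1
      have h4c : 4 * (cls Z g1).card = 3 * (Ni * z) := by omega
      obtain ⟨hcl1, hcard1⟩ := hpeel R0 hR0cl g1 hg1
      by_cases hR1 : (R0 \ cls Z g1).Nonempty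
      · exfalso
        obtain ⟨g2, hg2⟩ := hR1
        obtain ⟨e2, ε2, he2, hε2, -, hc2⟩ := hdata' g2 (hcl1 g2 hg2).1
        have hc2le : (cls Z g2).card ≤ (R0 \ cls Z g1).card :=
          Finset.card_le_card (hcl1 g2 hg2).2
        rw [hnW, hQeq] at hc2
        exact ar2 (Ni * z) z (cls Z g1).card (cls Z g2).card e2 ε2 h4c hc2 he2 hε2
          (by omega) hzpos
      · left
        rw [Finset.not_nonempty_iff_eq_empty] at hR1
        rw [hR1, Finset.card_empty, zero_add] at hcard1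
        have h5 : Ni * z = 4 * z := by omega
        have h6 : Ni = 4 := Nat.eq_of_mul_eq_mul_right (by omega) h5
        omega
    · obtain ⟨g, rfl⟩ : ∃ g, h = g + 1 := ⟨h - 1, by omega⟩
      have hg1 : 1 ≤ g := by omega
      obtain ⟨s, hsZ, hsS, hscard⟩ := hH (g + 1) hh2 hbh
      have hsU : s ∉ cls Z u0 := by
        intro hsU
        obtain ⟨-, l, hl⟩ := mem_cls.mp hsU
        have h1 : l * u0 * l⁻¹ * s = s * (l * u0 * l⁻¹) := by
          calc l * u0 * l⁻¹ * s = l * (u0 * (l⁻¹ * s * l)) * l⁻¹ := by group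
            _ = l * ((l⁻¹ * s * l) * u0) * l⁻¹ := by rw [hl]
            _ = s * (l * u0 * l⁻¹) := by group
        have h2 : (l * u0 * l⁻¹) ^ p = 1 := by rw [conj_pow, hu0p]; group
        have h3 := hsS _ h1 h2
        apply hu01
        have h4 : u0 = l⁻¹ * (l * u0 * l⁻¹) * l := by group
        rw [h4, h3]; group
      have hsR0 : s ∈ R0 := (hR0mem s).mpr ⟨hsZ, hsU⟩
      obtain ⟨e, ε, he, hε, hCe, hcH⟩ := hdata' s hsR0
      have heh : e = g + 1 := by
        rw [hscard] at hCe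
        exact (Nat.eq_of_mul_eq_mul_left (by omega) hCe).symm
      subst heh
      rw [hnW, Nat.add_sub_cancel] at hcH
      have hcH' : (cls Z s).card * ε = Ni * z * Q * g := by
        have h1 : (g + 1) * ((cls Z s).card * ε) = (g + 1) * (Ni * z * Q * g) := by nlinarith
        exact Nat.eq_of_mul_eq_mul_left (by omega) h1
      have hR0z : R0.card + z = Ni * z * Q * g + Ni * z := by
        have h1 : Ni * z * Q * (g + 1) = Ni * z * Q * g + Ni * z * Q := by ring
        omega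
      obtain ⟨hcl1, hcard1⟩ := hpeel R0 hR0cl s hsR0
      rcases hε with rfl | rfl
      · exfalso
        rw [mul_one] at hcH'
        have hR1card : (R0 \ cls Z s).card + z = Ni * z := by omega
        have hR1 : (R0 \ cls Z s).Nonempty := by rw [← Finset.card_pos]; omega
        obtain ⟨g2, hg2⟩ := hR1
        obtain ⟨e2, ε2, he2, hε2, -, hc2⟩ := hdata' g2 (hcl1 g2 hg2).1
        have hc2le : (cls Z g2).card ≤ (R0 \ cls Z s).card :=
          Finset.card_le_card (hcl1 g2 hg2).2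
        rw [hnW] at hc2
        have hc2' : (cls Z g2).card * ε2 * e2 = (Ni * z) * (Q * (g + 1)) * (e2 - 1) := by
          rw [hc2]; ring
        have hQg2 : Q * 2 ≤ Q * (g + 1) := Nat.mul_le_mul_left Q (by omega)
        obtain ⟨h3, -, -⟩ := ar1 (Q * (g + 1)) e2 ε2 (cls Z g2).card (Ni * z) z (by omega)
          he2 hε2 hc2' (by omega) hzpos
        omega
      · have hcH2 : 2 * (cls Z s).card = Ni * z * Q * g := by omega
        have hR1 : (R0 \ cls Z s).Nonempty := by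
          rw [← Finset.card_pos]
          omega
        obtain ⟨g2, hg2⟩ := hR1
        obtain ⟨e2, ε2, he2, hε2, -, hc2⟩ := hdata' g2 (hcl1 g2 hg2).1
        have hc2le : (cls Z g2).card ≤ (R0 \ cls Z s).card :=
          Finset.card_le_card (hcl1 g2 hg2).2
        rw [hnW] at hc2
        have hsum2 : (cls Z s).card + (cls Z g2).card + z ≤ Ni * z * Q * g + Ni * z := by
          omega
        rcases hε2 with rfl | rfl
        · exfalso
          exact ar4 (Ni * z * Q) (Ni * z) z g _ _ e2 hW3 hcH2 hc2 he2 hsum2 hzpos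
        · obtain ⟨hcl2, hcard2⟩ := hpeel (R0 \ cls Z s) hcl1 g2 hg2
          by_cases hR2 : ((R0 \ cls Z s) \ cls Z g2).Nonempty
          · exfalso
            obtain ⟨g3, hg3⟩ := hR2
            obtain ⟨e3, ε3, he3, hε3, -, hc3⟩ := hdata' g3 (hcl2 g3 hg3).1
            have hc3le := Finset.card_le_card (hcl2 g3 hg3).2
            rw [hnW] at hc3
            exact ar5 (Ni * z * Q) (Ni * z) z g _ _ _ e2 e3 ε3 hW3 hcH2 hc2 he2 hc3 he3 hε3
              (by omega) hzpos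
          · rw [Finset.not_nonempty_iff_eq_empty] at hR2
            rw [hR2, Finset.card_empty, zero_add] at hcard2
            have hsumeq : (cls Z s).card + (cls Z g2).card + z =
                Ni * z * Q * g + Ni * z := by omega
            have h6 := ar6 Ni Q z g _ _ e2 hzpos hcH2 hc2 he2 hsumeq
            obtain ⟨f, rfl⟩ : ∃ f, e2 = f + 1 := ⟨e2 - 1, by omega⟩
            rw [Nat.add_sub_cancel, hNik] at h6
            rcases ar7 k Q g f hk1 hQ3 (by omega) (by omega) h6 with h7 | ⟨h7, h8⟩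
            · left; rw [hNik, h7]; ring
            · right
              refine ⟨h7, ?_⟩
              rw [h7, h8] at hNik
              omega
  rcases hmain with hN | ⟨hQ3', hN⟩
  · left
    intro g g' hg hg'
    have h1 : dc g = Y := by
      apply Finset.eq_of_subset_of_card_le
      · intro x hx; exact (hYmem x).mpr (hdc_sub g hg x hx)
      · rw [hdc_card g hg]
        have h2 : b * Ni = b * Q + b := by rw [hN]; ring
        nlinarith
    have h2 : g' ∈ dc g := by rw [h1]; exact (hYmem g').mpr hg'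
    exact (hdc_mem g g').mp h2
  · right
    refine ⟨hQ3', ?_⟩
    intro gs hgs
    by_contra hcon
    push_neg at hcon
    have hdisj : ((Finset.univ : Finset (Fin 4)) : Set (Fin 4)).PairwiseDisjoint
        (fun i => dc (gs i)) := by
      intro i _ j _ hij
      rw [Function.onFun, Finset.disjoint_left]
      intro x hxi hxj
      have h1 := hdc_eq (gs i) x hxi
      have h2 := hdc_eq (gs j) x hxj
      have h3 : gs i ∈ dc (gs j) := by rw [← h2, h1]; exact hdc_self (gs i)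
      obtain ⟨u, hu, c, hc, h4⟩ := (hdc_mem (gs j) (gs i)).mp h3
      exact hcon i j hij u hu c hc h4
    have hcard := Finset.card_biUnion hdisj
    have hsub : (Finset.univ : Finset (Fin 4)).biUnion (fun i => dc (gs i)) ⊆ Y := by
      intro x hx
      obtain ⟨i, -, hxi⟩ := Finset.mem_biUnion.mp hx
      exact (hYmem x).mpr (hdc_sub (gs i) (hgs i) x hxi)
    have hle := Finset.card_le_card hsub
    rw [hcard] at hle
    have hsum : ∑ i : Fin 4, (dc (gs i)).card = 4 * (Q * b) := by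
      rw [Finset.sum_const_nat (m := Q * b) (fun i _ => hdc_card (gs i) (hgs i))]; simp
    rw [hsum] at hle
    rw [hN] at hnb
    rw [hQ3'] at hle
    omega

end Main

end Cfsg.Agent.Lead.Dickson
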