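import Mathlib
import Cfsg.Agent.Helper1.SL2Pair

/-!
Lead library, Dickson Part C: from the double-coset information produced by
`Cfsg.Agent.Lead.Dickson.double_coset_cases` for a subgroup `L` of `SL₂(K)` containing
`sl2U α` and `sl2L β`, produce two unipotent elements of `L` whose product has trace
`2 + k`, `k` a nonzero element of the prime field (so that `Helper1.SL2Pair.pair_equiv`
applies).
-/

set_option autoImplicit false

namespace Cfsg.Agent.Lead.DicksonC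

open Matrix Cfsg.Agent.Helper12 Cfsg.Agent.Helper1.SL2Pair

variable {K : Type*} [Field K]

theorem mk_mul (a b c d a' b' c' d' : K) (h : a * d - b * c = 1) (h' : a' * d' - b' * c' = 1) :
    sl2mk a b c d h * sl2mk a' b' c' d' h' =
      sl2mk (a * a' + b * c') (a * b' + b * d') (c * a' + d * c') (c * b' + d * d')
        (by linear_combination (a' * d' - b' * c') * h + h') := by
  apply Subtype.ext
  rw [Matrix.SpecialLinearGroup.coe_mul, sl2mk_val, sl2mk_val, sl2mk_val, Matrix.mul_fin_two]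

theorem mk_inv (a b c d : K) (h : a * d - b * c = 1) :
    (sl2mk a b c d h)⁻¹ = sl2mk d (-b) (-c) a (by linear_combination h) := by
  apply Subtype.ext
  rw [Matrix.SpecialLinearGroup.coe_inv, sl2mk_val, sl2mk_val, Matrix.adjugate_fin_two_of]

theorem mk_congr {a b c d a' b' c' d' : K} {h : a * d - b * c = 1} {h' : a' * d' - b' * c' = 1}
    (h1 : a = a') (h2 : b = b') (h3 : c = c') (h4 : d = d') :
    sl2mk a b c d h = sl2mk a' b' c' d' h' := by
  subst h1 h2 h3 h4; rfl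

theorem mk_inj {a b c d a' b' c' d' : K} {h : a * d - b * c = 1} {h' : a' * d' - b' * c' = 1}
    (e : sl2mk a b c d h = sl2mk a' b' c' d' h') : a = a' ∧ b = b' ∧ c = c' ∧ d = d' := by
  have e' : (!![a, b; c, d] : Matrix (Fin 2) (Fin 2) K) = !![a', b'; c', d'] :=
    congrArg Subtype.val e
  exact ⟨congrFun (congrFun e' 0) 0, congrFun (congrFun e' 0) 1, congrFun (congrFun e' 1) 0,
    congrFun (congrFun e' 1) 1⟩

theorem mk_eta (g : Matrix.SpecialLinearGroup (Fin 2) K) :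
    ∃ (a b c d : K) (h : a * d - b * c = 1), g = sl2mk a b c d h := by
  obtain ⟨a, b, c, d, hg, hdet⟩ := sl2_eta g
  exact ⟨a, b, c, d, hdet, Subtype.ext hg⟩

theorem mk_10 (a b c d : K) (h : a * d - b * c = 1) :
    ((sl2mk a b c d h : Matrix.SpecialLinearGroup (Fin 2) K) : Matrix (Fin 2) (Fin 2) K) 1 0 = c :=
  rfl

theorem U_eq (t : K) : sl2U t = sl2mk 1 t 0 1 (by ring) := rfl

theorem L_eq (t : K) : sl2L t = sl2mk 1 0 t 1 (by ring) := rfl

theorem L_10 (t : K) :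
    ((sl2L t : Matrix.SpecialLinearGroup (Fin 2) K) : Matrix (Fin 2) (Fin 2) K) 1 0 = t := rfl

theorem conj_U (a b c d : K) (h : a * d - b * c = 1) (s : K) :
    sl2mk a b c d h * sl2U s * (sl2mk a b c d h)⁻¹ =
      sl2mk (1 - a * c * s) (a ^ 2 * s) (-(c ^ 2 * s)) (1 + a * c * s) (by ring) := by
  rw [mk_inv, U_eq, mk_mul, mk_mul]
  exact mk_congr (by linear_combination h) (by ring) (by ring) (by linear_combination h)

theorem tr_U (s : K) :
    ((sl2U s : Matrix.SpecialLinearGroup (Fin 2) K) : Matrix (Fin 2) (Fin 2) K).trace = 2 := by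
  rw [sl2U_val, Matrix.trace_fin_two_of]; norm_num

theorem tr_U_conj (a b c d : K) (h : a * d - b * c = 1) (s1 s2 : K) :
    ((sl2U s1 * (sl2mk a b c d h * sl2U s2 * (sl2mk a b c d h)⁻¹) :
      Matrix.SpecialLinearGroup (Fin 2) K) : Matrix (Fin 2) (Fin 2) K).trace =
      2 - s1 * s2 * c ^ 2 := by
  rw [conj_U, U_eq, mk_mul, sl2mk_val, Matrix.trace_fin_two_of]
  ring

/-- first-column relation for `g' = u(t) g b`, `b` upper triangular -/
theorem col_rel {a b c d a' b' c' d' : K} {h : a * d - b * c = 1} {h' : a' * d' - b' * c' = 1}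
    {t : K} {B : Matrix.SpecialLinearGroup (Fin 2) K}
    (hB : (B : Matrix (Fin 2) (Fin 2) K) 1 0 = 0)
    (e : sl2mk a' b' c' d' h' = sl2U t * sl2mk a b c d h * B) :
    a' * c - a * c' = t * c * c' := by
  obtain ⟨x, y, z, w, hd, rfl⟩ := mk_eta B
  have hz : z = 0 := hB
  subst hz
  rw [U_eq, mk_mul, mk_mul] at e
  obtain ⟨e1, -, e3, -⟩ := mk_inj e
  linear_combination c * e1 - (a + t * c) * e3

/-- the element `[[c/β, -c/β² - 1/c], [c, -c/β]]` -/
def Wm (β c : K) : Matrix.SpecialLinearGroup (Fin 2) K :=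
  sl2U (1 / β - 1 / c) * sl2L c * sl2U (-1 / β - 1 / c)

theorem pair_of_conj (L : Subgroup (Matrix.SpecialLinearGroup (Fin 2) K)) (α : K)
    (h1 : sl2U α ∈ L) {a b c d : K} {h : a * d - b * c = 1} (hg : sl2mk a b c d h ∈ L) :
    ∃ x y : Matrix.SpecialLinearGroup (Fin 2) K, x ∈ L ∧ y ∈ L ∧
      (x : Matrix (Fin 2) (Fin 2) K).trace = 2 ∧ (y : Matrix (Fin 2) (Fin 2) K).trace = 2 ∧
      ((x * y : Matrix.SpecialLinearGroup (Fin 2) K) : Matrix (Fin 2) (Fin 2) K).trace =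
        2 - α * α * c ^ 2 :=
  ⟨sl2U α, sl2mk a b c d h * sl2U α * (sl2mk a b c d h)⁻¹, h1,
    L.mul_mem (L.mul_mem hg h1) (L.inv_mem hg), tr_U α,
    by rw [sl2_trace_conj]; exact tr_U α, tr_U_conj a b c d h α α⟩

/-- Case 1: a single nontrivial double coset. -/
theorem case1 (L : Subgroup (Matrix.SpecialLinearGroup (Fin 2) K)) (α β : K)
    (hα : α ≠ 0) (hβ : β ≠ 0) (h1 : sl2U α ∈ L) (h2 : sl2L β ∈ L)
    (hyp : ∀ g ∈ L, ∀ g' ∈ L, (g : Matrix (Fin 2) (Fin 2) K) 1 0 ≠ 0 →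
      (g' : Matrix (Fin 2) (Fin 2) K) 1 0 ≠ 0 →
      ∃ t : K, sl2U t ∈ L ∧ ∃ b ∈ L, (b : Matrix (Fin 2) (Fin 2) K) 1 0 = 0 ∧
        g' = sl2U t * g * b) :
    ∃ x y : Matrix.SpecialLinearGroup (Fin 2) K, x ∈ L ∧ y ∈ L ∧
      (x : Matrix (Fin 2) (Fin 2) K).trace = 2 ∧ (y : Matrix (Fin 2) (Fin 2) K).trace = 2 ∧
      ((x * y : Matrix.SpecialLinearGroup (Fin 2) K) : Matrix (Fin 2) (Fin 2) K).trace = 1 := by
  have C1 : ∀ (a b c d : K) (h : a * d - b * c = 1), sl2mk a b c d h ∈ L → c ≠ 0 →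
      sl2U ((a * β - c) / (β * c)) ∈ L := by
    intro a b c d h hg hc
    obtain ⟨t, ht, B, -, hB0, e⟩ := hyp (sl2L β) h2 (sl2mk a b c d h) hg
      (by rw [L_10]; exact hβ) (by rw [mk_10]; exact hc)
    rw [L_eq] at e
    have r := col_rel hB0 e
    have ht' : t = (a * β - c) / (β * c) :=
      eq_div_of_mul_eq (mul_ne_zero hβ hc) (by linear_combination (-1 : K) * r)
    rw [← ht']; exact ht
  have C3 : ∀ (a b c d : K) (h : a * d - b * c = 1), sl2mk a b c d h ∈ L → c ≠ 0 →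
      Wm β c ∈ L := by
    intro a b c d h hg hc
    have hs := C1 a b c d h hg hc
    have hg' : sl2mk d (-b) (-c) a (by linear_combination h) ∈ L := by
      have := L.inv_mem hg
      rw [mk_inv] at this
      exact this
    have hs' := C1 d (-b) (-c) a _ hg' (neg_ne_zero.mpr hc)
    have hb : b = (a * d - 1) / c := eq_div_of_mul_eq hc (by linear_combination (-1 : K) * h)
    have key : (sl2U ((a * β - c) / (β * c)))⁻¹ * sl2mk a b c d h *
        sl2U ((d * β - -c) / (β * -c)) = Wm β c := by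
      subst hb
      simp only [Wm, U_eq, L_eq, mk_inv, mk_mul]
      refine mk_congr ?_ ?_ ?_ ?_ <;> first | ring1 | (field_simp; ring1) | field_simp
    rw [← key]
    exact L.mul_mem (L.mul_mem (L.inv_mem hs) hg) hs'
  have hWβ : Wm β β ∈ L := C3 1 0 β 1 (by ring) h2 hβ
  have hy : Wm β β * sl2U α * (Wm β β)⁻¹ ∈ L := L.mul_mem (L.mul_mem hWβ h1) (L.inv_mem hWβ)
  have ey : Wm β β * sl2U α * (Wm β β)⁻¹ =
      sl2mk (1 - β * α) α (-(β ^ 2 * α)) (1 + β * α) (by ring) := by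
    simp only [Wm, U_eq, L_eq, mk_inv, mk_mul]
    refine mk_congr ?_ ?_ ?_ ?_ <;> first | ring1 | (field_simp; ring1) | field_simp
  have hc2 : -(β ^ 2 * α) ≠ 0 := neg_ne_zero.mpr (mul_ne_zero (pow_ne_zero 2 hβ) hα)
  have hy2 := hy
  rw [ey] at hy2
  have hW2 : Wm β (-(β ^ 2 * α)) ∈ L := C3 _ _ _ _ _ hy2 hc2
  have hD := L.mul_mem hW2 (L.inv_mem hWβ)
  have hx := L.mul_mem (L.mul_mem hD h1) (L.inv_mem hD)
  have ex : Wm β (-(β ^ 2 * α)) * (Wm β β)⁻¹ * sl2U α *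
      (Wm β (-(β ^ 2 * α)) * (Wm β β)⁻¹)⁻¹ = sl2U (1 / (α * β ^ 2)) := by
    simp only [Wm, U_eq, L_eq, mk_inv, mk_mul]
    refine mk_congr ?_ ?_ ?_ ?_ <;> first | ring1 | (field_simp; ring1) | field_simp
  rw [ex] at hx
  refine ⟨sl2U (1 / (α * β ^ 2)), Wm β β * sl2U α * (Wm β β)⁻¹, hx, hy, tr_U _,
    by rw [sl2_trace_conj]; exact tr_U α, ?_⟩
  rw [ey, U_eq, mk_mul, sl2mk_val, Matrix.trace_fin_two_of]
  field_simp
  ring

theorem fin4_pairs {X : Type*} (R : X → X → Prop) (g1 g2 g3 g4 : X)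
    (h : ∃ i j : Fin 4, i ≠ j ∧ R (![g1, g2, g3, g4] i) (![g1, g2, g3, g4] j)) :
    R g1 g2 ∨ R g1 g3 ∨ R g1 g4 ∨ R g2 g1 ∨ R g2 g3 ∨ R g2 g4 ∨
    R g3 g1 ∨ R g3 g2 ∨ R g3 g4 ∨ R g4 g1 ∨ R g4 g2 ∨ R g4 g3 := by
  obtain ⟨i, j, hij, h⟩ := h
  fin_cases i <;> fin_cases j <;>
    first
    | exact absurd rfl hij
    | exact Or.inl h
    | exact Or.inr (Or.inl h)
    | exact Or.inr (Or.inr (Or.inl h))
    | exact Or.inr (Or.inr (Or.inr (Or.inl h)))
    | exact Or.inr (Or.inr (Or.inr (Or.inr (Or.inl h))))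
    | exact Or.inr (Or.inr (Or.inr (Or.inr (Or.inr (Or.inl h)))))
    | exact Or.inr (Or.inr (Or.inr (Or.inr (Or.inr (Or.inr (Or.inl h))))))
    | exact Or.inr (Or.inr (Or.inr (Or.inr (Or.inr (Or.inr (Or.inr (Or.inl h)))))))
    | exact Or.inr (Or.inr (Or.inr (Or.inr (Or.inr (Or.inr (Or.inr (Or.inr (Or.inl h))))))))
    | exact Or.inr (Or.inr (Or.inr (Or.inr (Or.inr (Or.inr (Or.inr (Or.inr (Or.inr (Or.inl h)))))))))
    | exact Or.inr (Or.inr (Or.inr (Or.inr (Or.inr (Or.inr (Or.inr (Or.inr (Or.inr (Or.inr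
        (Or.inl h))))))))))
    | exact Or.inr (Or.inr (Or.inr (Or.inr (Or.inr (Or.inr (Or.inr (Or.inr (Or.inr (Or.inr
        (Or.inr h))))))))))

theorem algP (h3 : (3 : K) = 0) (l D : K) (hl : l ≠ 0)
    (hD : D = 0 ∨ D = l ^ 2 ∨ D = -l ^ 2)
    (hS : D = 2 * l ∨ D = 1 ∨ D = 1 - 2 * l ∨ D = -1 - 2 * l ∨ D = 2) :
    l ^ 2 = 1 ∨ l ^ 2 = -1 ∨ l ^ 2 = 1 + l ∨ l ^ 2 = 1 - l := by
  rcases hS with hS | hS | hS | hS | hS <;> rcases hD with hD | hD | hD
  · exact absurd (by linear_combination hS - hD + l * h3) hl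
  · have e : l = 2 := mul_left_cancel₀ hl (by linear_combination hS - hD)
    left; linear_combination (l + 2) * e + h3
  · have e : l = -2 := mul_left_cancel₀ hl (by linear_combination hD - hS)
    left; linear_combination (l - 2) * e + h3
  · exact absurd (by linear_combination hD - hS) (one_ne_zero : (1 : K) ≠ 0)
  · left; linear_combination hS - hD
  · right; left; linear_combination hD - hS
  · have e : l = -1 := by linear_combination hD - hS + l * h3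
    left; linear_combination (l - 1) * e
  · right; right; left; linear_combination hS - hD - l * h3
  · have e : (l - 1) ^ 2 = 0 := by linear_combination hD - hS
    have e' : l = 1 := sub_eq_zero.mp ((pow_eq_zero_iff two_ne_zero).mp e)
    left; linear_combination (l + 1) * e'
  · have e : l = 1 := by linear_combination hD - hS + l * h3
    left; linear_combination (l + 1) * e
  · have e : (l + 1) ^ 2 = 0 := by linear_combination hS - hD
    have e' : l = -1 := eq_neg_of_add_eq_zero_left ((pow_eq_zero_iff two_ne_zero).mp e)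
    left; linear_combination (l - 1) * e'
  · right; right; right; linear_combination hD - hS + l * h3
  · exact absurd (by linear_combination h3 + hS - hD) (one_ne_zero : (1 : K) ≠ 0)
  · right; left; linear_combination hS - hD + h3
  · left; linear_combination hD - hS - h3

theorem algN (h3 : (3 : K) = 0) (l D : K) (hl : l ≠ 0)
    (hD : D = 0 ∨ D = l ^ 2 ∨ D = -l ^ 2)
    (hS : -D = 2 * l ∨ -D = 1 ∨ -D = 1 - 2 * l ∨ -D = -1 - 2 * l ∨ -D = 2) :
    l ^ 2 = 1 ∨ l ^ 2 = -1 ∨ l ^ 2 = 1 + l ∨ l ^ 2 = 1 - l := by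
  refine algP h3 l (-D) hl ?_ hS
  rcases hD with h | h | h
  · left; rw [h]; exact neg_zero
  · right; right; rw [h]
  · right; left; rw [h]; exact neg_neg _

theorem rel_Q (L : Subgroup (Matrix.SpecialLinearGroup (Fin 2) K)) (α β : K)
    (hU : ∀ t : K, sl2U t ∈ L → t = 0 ∨ t = α ∨ t = -α)
    {g g' : Matrix.SpecialLinearGroup (Fin 2) K} {a b c d a' b' c' d' : K}
    {h : a * d - b * c = 1} {h' : a' * d' - b' * c' = 1}
    (hg : g = sl2mk a b c d h) (hg' : g' = sl2mk a' b' c' d' h')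
    (q q' : K) (hq : q * c = α * β ^ 2 * a) (hq' : q' * c' = α * β ^ 2 * a')
    (hc : c ≠ 0) (hc' : c' ≠ 0)
    (hR : ∃ t : K, sl2U t ∈ L ∧ ∃ B ∈ L, (B : Matrix (Fin 2) (Fin 2) K) 1 0 = 0 ∧
      g' = sl2U t * g * B) :
    q' - q = 0 ∨ q' - q = (α * β) ^ 2 ∨ q' - q = -(α * β) ^ 2 := by
  obtain ⟨t, ht, B, -, hB0, e⟩ := hR
  rw [hg, hg'] at e
  have r := col_rel hB0 e
  have key : q' - q = α * β ^ 2 * t := by
    apply mul_right_cancel₀ (mul_ne_zero hc hc')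
    linear_combination c * hq' - c' * hq + α * β ^ 2 * r
  rcases hU t ht with h0 | h0 | h0
  · left; rw [key, h0, mul_zero]
  · right; left; rw [key, h0]; ring
  · right; right; rw [key, h0]; ring

theorem LUL (β s β' : K) :
    sl2L β * sl2U s * sl2L β' =
      sl2mk (1 + s * β') s (β + (1 + β * s) * β') (1 + β * s) (by ring) := by
  simp only [U_eq, L_eq, mk_mul]
  exact mk_congr (by ring) (by ring) (by ring) (by ring)

theorem U_inv (t : K) : (sl2U t)⁻¹ = sl2U (-t) := by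
  rw [U_eq, mk_inv, U_eq]
  exact mk_congr rfl rfl (by ring) rfl

/-- Case 2: `p = 3`, `|P| = 3`, at most three nontrivial double cosets. -/
theorem case2 (h3 : (3 : K) = 0) (L : Subgroup (Matrix.SpecialLinearGroup (Fin 2) K)) (α β : K)
    (hα : α ≠ 0) (hβ : β ≠ 0) (h1 : sl2U α ∈ L) (h2 : sl2L β ∈ L)
    (hU : ∀ t : K, sl2U t ∈ L → t = 0 ∨ t = α ∨ t = -α)
    (hyp : ∀ g : Fin 4 → Matrix.SpecialLinearGroup (Fin 2) K,
      (∀ i, g i ∈ L ∧ (g i : Matrix (Fin 2) (Fin 2) K) 1 0 ≠ 0) →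
      ∃ i j, i ≠ j ∧ ∃ t : K, sl2U t ∈ L ∧ ∃ b ∈ L, (b : Matrix (Fin 2) (Fin 2) K) 1 0 = 0 ∧
        g i = sl2U t * g j * b) :
    ∃ x y : Matrix.SpecialLinearGroup (Fin 2) K, x ∈ L ∧ y ∈ L ∧
      (x : Matrix (Fin 2) (Fin 2) K).trace = 2 ∧ (y : Matrix (Fin 2) (Fin 2) K).trace = 2 ∧
      (((x * y : Matrix.SpecialLinearGroup (Fin 2) K) : Matrix (Fin 2) (Fin 2) K).trace = 1 ∨
       ((x * y : Matrix.SpecialLinearGroup (Fin 2) K) : Matrix (Fin 2) (Fin 2) K).trace = 0) := by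
  have hl : α * β ≠ 0 := mul_ne_zero hα hβ
  obtain ⟨m1, hm1⟩ : ∃ m : Matrix.SpecialLinearGroup (Fin 2) K,
      m = sl2mk 1 0 β 1 (by ring) := ⟨_, rfl⟩
  obtain ⟨m2, hm2⟩ : ∃ m : Matrix.SpecialLinearGroup (Fin 2) K,
      m = sl2mk 1 0 (-β) 1 (by ring) := ⟨_, rfl⟩
  obtain ⟨m3, hm3⟩ : ∃ m : Matrix.SpecialLinearGroup (Fin 2) K,
      m = sl2mk (1 - α * β) α (-(α * β ^ 2)) (1 + α * β) (by ring) := ⟨_, rfl⟩
  obtain ⟨m4, hm4⟩ : ∃ m : Matrix.SpecialLinearGroup (Fin 2) K,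
      m = sl2mk (1 + α * β) (-α) (α * β ^ 2) (1 - α * β) (by ring) := ⟨_, rfl⟩
  have hL1 : m1 ∈ L := by rw [hm1]; exact h2
  have hL2 : m2 ∈ L := by
    have e : (sl2L β)⁻¹ = m2 := by
      rw [hm2, L_eq, mk_inv]
      exact mk_congr rfl (by ring) rfl rfl
    rw [← e]; exact L.inv_mem h2
  have hL3 : m3 ∈ L := by
    have e : sl2L β * sl2U α * (sl2L β)⁻¹ = m3 := by
      rw [hm3]
      simp only [U_eq, L_eq, mk_inv, mk_mul]
      exact mk_congr (by ring) (by ring) (by ring) (by ring)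
    rw [← e]; exact L.mul_mem (L.mul_mem h2 h1) (L.inv_mem h2)
  have hL4 : m4 ∈ L := by
    have e : sl2L β * (sl2U α)⁻¹ * (sl2L β)⁻¹ = m4 := by
      rw [hm4]
      simp only [U_eq, L_eq, mk_inv, mk_mul]
      exact mk_congr (by ring) (by ring) (by ring) (by ring)
    rw [← e]; exact L.mul_mem (L.mul_mem h2 (L.inv_mem h1)) (L.inv_mem h2)
  have hC1 : β ≠ 0 := hβ
  have hC2 : -β ≠ 0 := neg_ne_zero.mpr hβ
  have hC4 : α * β ^ 2 ≠ 0 := mul_ne_zero hα (pow_ne_zero 2 hβ)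
  have hC3 : -(α * β ^ 2) ≠ 0 := neg_ne_zero.mpr hC4
  have hc1 : (m1 : Matrix (Fin 2) (Fin 2) K) 1 0 ≠ 0 := by rw [hm1, mk_10]; exact hC1
  have hc2 : (m2 : Matrix (Fin 2) (Fin 2) K) 1 0 ≠ 0 := by rw [hm2, mk_10]; exact hC2
  have hc3 : (m3 : Matrix (Fin 2) (Fin 2) K) 1 0 ≠ 0 := by rw [hm3, mk_10]; exact hC3
  have hc4 : (m4 : Matrix (Fin 2) (Fin 2) K) 1 0 ≠ 0 := by rw [hm4, mk_10]; exact hC4
  have h12 := fin4_pairs (fun g g' : Matrix.SpecialLinearGroup (Fin 2) K =>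
      ∃ t : K, sl2U t ∈ L ∧ ∃ b ∈ L, (b : Matrix (Fin 2) (Fin 2) K) 1 0 = 0 ∧
        g = sl2U t * g' * b) m1 m2 m3 m4
    (hyp ![m1, m2, m3, m4] (by
      intro i
      fin_cases i
      · exact ⟨hL1, hc1⟩
      · exact ⟨hL2, hc2⟩
      · exact ⟨hL3, hc3⟩
      · exact ⟨hL4, hc4⟩))
  have hT : (α * β) ^ 2 = 1 ∨ (α * β) ^ 2 = -1 ∨ (α * β) ^ 2 = 1 + α * β ∨
      (α * β) ^ 2 = 1 - α * β := by
    rcases h12 with hR | hR | hR | hR | hR | hR | hR | hR | hR | hR | hR | hR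
    · exact algP h3 (α * β) _ hl (rel_Q L α β hU hm2 hm1 (-(α * β)) (α * β)
        (by ring) (by ring) hC2 hC1 hR) (Or.inl (by ring))
    · exact algP h3 (α * β) _ hl (rel_Q L α β hU hm3 hm1 (α * β - 1) (α * β)
        (by ring) (by ring) hC3 hC1 hR) (Or.inr (Or.inl (by ring)))
    · exact algN h3 (α * β) _ hl (rel_Q L α β hU hm4 hm1 (α * β + 1) (α * β)
        (by ring) (by ring) hC4 hC1 hR) (Or.inr (Or.inl (by ring)))
    · exact algN h3 (α * β) _ hl (rel_Q L α β hU hm1 hm2 (α * β) (-(α * β))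
        (by ring) (by ring) hC1 hC2 hR) (Or.inl (by ring))
    · exact algP h3 (α * β) _ hl (rel_Q L α β hU hm3 hm2 (α * β - 1) (-(α * β))
        (by ring) (by ring) hC3 hC2 hR) (Or.inr (Or.inr (Or.inl (by ring))))
    · exact algP h3 (α * β) _ hl (rel_Q L α β hU hm4 hm2 (α * β + 1) (-(α * β))
        (by ring) (by ring) hC4 hC2 hR) (Or.inr (Or.inr (Or.inr (Or.inl (by ring)))))
    · exact algN h3 (α * β) _ hl (rel_Q L α β hU hm1 hm3 (α * β) (α * β - 1)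
        (by ring) (by ring) hC1 hC3 hR) (Or.inr (Or.inl (by ring)))
    · exact algN h3 (α * β) _ hl (rel_Q L α β hU hm2 hm3 (-(α * β)) (α * β - 1)
        (by ring) (by ring) hC2 hC3 hR) (Or.inr (Or.inr (Or.inl (by ring))))
    · exact algN h3 (α * β) _ hl (rel_Q L α β hU hm4 hm3 (α * β + 1) (α * β - 1)
        (by ring) (by ring) hC4 hC3 hR) (Or.inr (Or.inr (Or.inr (Or.inr (by ring)))))
    · exact algP h3 (α * β) _ hl (rel_Q L α β hU hm1 hm4 (α * β) (α * β + 1)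
        (by ring) (by ring) hC1 hC4 hR) (Or.inr (Or.inl (by ring)))
    · exact algN h3 (α * β) _ hl (rel_Q L α β hU hm2 hm4 (-(α * β)) (α * β + 1)
        (by ring) (by ring) hC2 hC4 hR) (Or.inr (Or.inr (Or.inr (Or.inl (by ring)))))
    · exact algP h3 (α * β) _ hl (rel_Q L α β hU hm3 hm4 (α * β - 1) (α * β + 1)
        (by ring) (by ring) hC3 hC4 hR) (Or.inr (Or.inr (Or.inr (Or.inr (by ring)))))
  have h2' : sl2mk 1 0 β 1 (by ring) ∈ L := h2
  rcases hT with hT | hT | hT | hT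
  · obtain ⟨x, y, hx, hy, tx, ty, txy⟩ := pair_of_conj L α h1 h2'
    refine ⟨x, y, hx, hy, tx, ty, Or.inl ?_⟩
    rw [txy]; linear_combination (-1 : K) * hT
  · obtain ⟨x, y, hx, hy, tx, ty, txy⟩ := pair_of_conj L α h1 h2'
    refine ⟨x, y, hx, hy, tx, ty, Or.inr ?_⟩
    rw [txy]; linear_combination (-1 : K) * hT + h3
  · have hg : sl2L β * sl2U α * sl2L β ∈ L := L.mul_mem (L.mul_mem h2 h1) h2
    rw [LUL] at hg
    obtain ⟨x, y, hx, hy, tx, ty, txy⟩ := pair_of_conj L α h1 hg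
    refine ⟨x, y, hx, hy, tx, ty, Or.inl ?_⟩
    rw [txy]
    linear_combination (-(α * (β + (1 + β * α) * β) + 1)) * hT +
      (-(α * (β + (1 + β * α) * β) + 1) * (α * β)) * h3
  · have h1' : sl2U (-α) ∈ L := by rw [← U_inv]; exact L.inv_mem h1
    have hg : sl2L β * sl2U (-α) * sl2L β ∈ L := L.mul_mem (L.mul_mem h2 h1') h2
    rw [LUL] at hg
    obtain ⟨x, y, hx, hy, tx, ty, txy⟩ := pair_of_conj L α h1 hg
    refine ⟨x, y, hx, hy, tx, ty, Or.inl ?_⟩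
    rw [txy]
    linear_combination (α * (β + (1 + β * -α) * β) - 1) * hT -
      ((α * (β + (1 + β * -α) * β) - 1) * (α * β)) * h3

/-- **Dickson, Part C.**  From the double coset information about a subgroup `L` of `SL₂(K)`
containing `sl2U α` and `sl2L β`, get a pair of unipotent elements to which
`Helper1.SL2Pair.pair_equiv` applies. -/
theorem pair_of_cases {p : ℕ} [Fact p.Prime] [CharP K p]
    (L : Subgroup (Matrix.SpecialLinearGroup (Fin 2) K)) (α β : K)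
    (hα : α ≠ 0) (hβ : β ≠ 0) (h1 : sl2U α ∈ L) (h2 : sl2L β ∈ L)
    (hcases : (∀ g ∈ L, ∀ g' ∈ L, (g : Matrix (Fin 2) (Fin 2) K) 1 0 ≠ 0 →
        (g' : Matrix (Fin 2) (Fin 2) K) 1 0 ≠ 0 →
        ∃ t : K, sl2U t ∈ L ∧ ∃ b ∈ L, (b : Matrix (Fin 2) (Fin 2) K) 1 0 = 0 ∧
          g' = sl2U t * g * b) ∨
      (p = 3 ∧ (∀ t : K, sl2U t ∈ L → t = 0 ∨ t = α ∨ t = -α) ∧
        ∀ g : Fin 4 → Matrix.SpecialLinearGroup (Fin 2) K,
          (∀ i, g i ∈ L ∧ (g i : Matrix (Fin 2) (Fin 2) K) 1 0 ≠ 0) →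
          ∃ i j, i ≠ j ∧ ∃ t : K, sl2U t ∈ L ∧ ∃ b ∈ L,
            (b : Matrix (Fin 2) (Fin 2) K) 1 0 = 0 ∧ g i = sl2U t * g j * b)) :
    ∃ x y : Matrix.SpecialLinearGroup (Fin 2) K, x ∈ L ∧ y ∈ L ∧
      (x : Matrix (Fin 2) (Fin 2) K).trace = 2 ∧ (y : Matrix (Fin 2) (Fin 2) K).trace = 2 ∧
      ∃ k : ZMod p, k ≠ 0 ∧
        ((x * y : Matrix.SpecialLinearGroup (Fin 2) K) : Matrix (Fin 2) (Fin 2) K).trace =
          2 + ZMod.castHom (dvd_refl p) K k := by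
  rcases hcases with hc | ⟨hp3, hU, h4⟩
  · obtain ⟨x, y, hx, hy, tx, ty, txy⟩ := case1 L α β hα hβ h1 h2 hc
    refine ⟨x, y, hx, hy, tx, ty, -1, neg_ne_zero.mpr one_ne_zero, ?_⟩
    rw [txy, map_neg, map_one]; norm_num
  · have h3 : (3 : K) = 0 := by
      have h := CharP.cast_eq_zero K p
      rw [hp3] at h
      exact_mod_cast h
    obtain ⟨x, y, hx, hy, tx, ty, txy⟩ := case2 h3 L α β hα hβ h1 h2 hU h4
    rcases txy with txy | txy
    · refine ⟨x, y, hx, hy, tx, ty, -1, neg_ne_zero.mpr one_ne_zero, ?_⟩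
      rw [txy, map_neg, map_one]; norm_num
    · refine ⟨x, y, hx, hy, tx, ty, 1, one_ne_zero, ?_⟩
      rw [txy, map_one]; linear_combination (-1 : K) * h3

end Cfsg.Agent.Lead.DicksonC
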