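import Mathlib

namespace Cfsg.Agent.Lead.ESA

theorem nt (p h j n : ℕ) (hp : p.Prime) (h1 : h ∣ p ^ j + 1) (h2 : h ∣ p ^ (2 * n) - 1) :
    h ∣ p ^ n + 1 ∨ h ∣ p ^ n - 1 := by
  have hpn : 1 ≤ p ^ n := Nat.one_le_pow _ _ hp.pos
  have hp2n : 1 ≤ p ^ (2 * n) := Nat.one_le_pow _ _ hp.pos
  have e1 : (p : ZMod h) ^ j = -1 := by
    have := (CharP.cast_eq_zero_iff (ZMod h) h (p ^ j + 1)).mpr h1
    push_cast at this
    exact eq_neg_of_add_eq_zero_left this
  have e2 : (p : ZMod h) ^ (2 * n) = 1 := by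
    have := (CharP.cast_eq_zero_iff (ZMod h) h (p ^ (2 * n) - 1)).mpr h2
    rw [Nat.cast_sub hp2n] at this
    push_cast at this
    exact sub_eq_zero.mp this
  have back : ((p : ZMod h) ^ n = -1 ∨ (p : ZMod h) ^ n = 1) →
      (h ∣ p ^ n + 1 ∨ h ∣ p ^ n - 1) := by
    rintro (hh | hh)
    · left
      apply (CharP.cast_eq_zero_iff (ZMod h) h (p ^ n + 1)).mp
      push_cast
      rw [hh]; ring
    · right
      apply (CharP.cast_eq_zero_iff (ZMod h) h (p ^ n - 1)).mp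
      rw [Nat.cast_sub hpn]
      push_cast
      rw [hh]; ring
  have e3 : (p : ZMod h) ^ (2 * j) = 1 := by
    rw [mul_comm, pow_mul, e1]; norm_num
  have e4 : (p : ZMod h) ^ (Nat.gcd (2 * j) (2 * n)) = 1 := pow_gcd_eq_one.mpr ⟨e3, e2⟩
  rw [Nat.gcd_mul_left] at e4
  obtain ⟨a, ha⟩ : Nat.gcd j n ∣ j := Nat.gcd_dvd_left j n
  obtain ⟨b, hb⟩ : Nat.gcd j n ∣ n := Nat.gcd_dvd_right j n
  obtain ⟨y, hy⟩ : ∃ y : ZMod h, y = (p : ZMod h) ^ (Nat.gcd j n) := ⟨_, rfl⟩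
  have y2 : y ^ 2 = 1 := by
    rw [hy, ← pow_mul, mul_comm]; exact e4
  have ya : y ^ a = -1 := by
    rw [hy, ← pow_mul, ← ha]; exact e1
  have yb : (p : ZMod h) ^ n = y ^ b := by
    rw [hy, ← pow_mul, ← hb]
  rcases Nat.even_or_odd a with ⟨k, hk⟩ | ⟨k, hk⟩
  · have h11 : (1 : ZMod h) = -1 := by
      rw [← ya, hk, ← two_mul, pow_mul, y2, one_pow]
    have h20 : ((2 : ℕ) : ZMod h) = 0 := by
      push_cast; linear_combination h11
    have hd2 : h ∣ 2 := (CharP.cast_eq_zero_iff (ZMod h) h 2).mp h20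
    rcases (Nat.dvd_prime Nat.prime_two).mp hd2 with hh1 | hh2
    · left; rw [hh1]; exact one_dvd _
    · rw [hh2] at h2
      rw [hh2]
      rcases Nat.even_or_odd (p ^ n) with ⟨m, hm⟩ | ⟨m, hm⟩
      · exfalso
        have hsq : p ^ (2 * n) = 4 * (m * m) := by
          rw [mul_comm, pow_mul, hm]; ring
        have hm1 : 1 ≤ m * m := by
          have : 1 ≤ m := by omega
          exact Nat.mul_pos this this
        rw [hsq] at h2
        omega
      · left; omega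
  · have hyneg : y = -1 := by
      rw [← ya, hk, pow_succ, pow_mul, y2, one_pow, one_mul]
    apply back
    rw [yb, hyneg]
    rcases neg_one_pow_eq_or (ZMod h) b with hh | hh
    · right; exact hh
    · left; exact hh

end Cfsg.Agent.Lead.ESA
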