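import Mathlib

/-!
The norm trick for Frobenius actions (lead): if `H` acts fixed-point-freely on the normal
subgroup `N` of `A`, and `A` acts on an abelian group `V` with `C_V(N) = 1 = C_V(H)`, then
`v ^ |N| = 1` for all `v`.
-/

set_option autoImplicit false

namespace Cfsg.Agent.Lead

theorem fpf_frobenius_pow {A V : Type*} [Group A] [CommGroup V] (φ : A →* MulAut V)
    (N H : Subgroup A) [hNn : N.Normal] [Fintype N] [Fintype H]
    (hfix : ∀ h ∈ H, h ≠ 1 → ∀ c ∈ N, c * h = h * c → c = 1)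
    (hCN : ∀ v : V, (∀ n ∈ N, φ n v = v) → v = 1)
    (hCH : ∀ v : V, (∀ h ∈ H, φ h v = v) → v = 1) (v : V) : v ^ Fintype.card N = 1 := by
  classical
  have hNN : ∀ w : V, ∏ k : N, φ (k : A) w = 1 := by
    intro w
    apply hCN
    intro n hn
    rw [map_prod]
    exact Fintype.prod_equiv (Equiv.mulLeft (⟨n, hn⟩ : N)) _ _ (fun b => by
      simp only [Equiv.coe_mulLeft, Subgroup.coe_mul, Subgroup.coe_mk, map_mul, MulAut.mul_apply])
  have hNH : ∀ w : V, ∏ h : H, φ (h : A) w = 1 := by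
    intro w
    apply hCH
    intro n hn
    rw [map_prod]
    exact Fintype.prod_equiv (Equiv.mulLeft (⟨n, hn⟩ : H)) _ _ (fun b => by
      simp only [Equiv.coe_mulLeft, Subgroup.coe_mul, Subgroup.coe_mk, map_mul, MulAut.mul_apply])
  have hconj : ∀ k : N, ∏ h : H, φ ((k : A) * (h : A) * (k : A)⁻¹) v = 1 := by
    intro k
    have e : ∀ h : H, φ ((k : A) * (h : A) * (k : A)⁻¹) v =
        φ (k : A) (φ (h : A) (φ (k : A)⁻¹ v)) := by
      intro h
      rw [map_mul, map_mul, MulAut.mul_apply, MulAut.mul_apply]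
    simp_rw [e]
    have h7 : ∏ h : H, φ (k : A) (φ (h : A) (φ (k : A)⁻¹ v)) =
        φ (k : A) (∏ h : H, φ (h : A) (φ (k : A)⁻¹ v)) :=
      (map_prod (φ (k : A)) (fun h : H => φ (h : A) (φ (k : A)⁻¹ v)) Finset.univ).symm
    rw [h7, hNH, map_one]
  have hcol : ∀ h : H, h ≠ 1 → ∏ k : N, φ ((k : A) * (h : A) * (k : A)⁻¹) v = 1 := by
    intro h hh
    have hmem : ∀ k : N, (k : A) * ((h : A) * (k : A)⁻¹ * (h : A)⁻¹) ∈ N := by
      intro k
      exact N.mul_mem k.2 (hNn.conj_mem _ (N.inv_mem k.2) _)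
    obtain ⟨σ, hσ⟩ : ∃ σ : N → N, ∀ k : N,
        (σ k : A) = (k : A) * ((h : A) * (k : A)⁻¹ * (h : A)⁻¹) :=
      ⟨fun k => ⟨_, hmem k⟩, fun k => rfl⟩
    have hinj : Function.Injective σ := by
      intro k k' hkk
      have h1 : (k : A) * ((h : A) * (k : A)⁻¹ * (h : A)⁻¹) =
          (k' : A) * ((h : A) * (k' : A)⁻¹ * (h : A)⁻¹) := by
        have h0 := congrArg (fun z : N => (z : A)) hkk
        simpa only [hσ] using h0
      have h2 : (k : A) * (h : A) * (k : A)⁻¹ = (k' : A) * (h : A) * (k' : A)⁻¹ := by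
        have e1 : (k : A) * (h : A) * (k : A)⁻¹ =
            ((k : A) * ((h : A) * (k : A)⁻¹ * (h : A)⁻¹)) * (h : A) := by group
        have e2 : (k' : A) * (h : A) * (k' : A)⁻¹ =
            ((k' : A) * ((h : A) * (k' : A)⁻¹ * (h : A)⁻¹)) * (h : A) := by group
        rw [e1, e2, h1]
      have hc : ((k' : A)⁻¹ * (k : A)) * (h : A) = (h : A) * ((k' : A)⁻¹ * (k : A)) := by
        calc ((k' : A)⁻¹ * (k : A)) * (h : A)
            = (k' : A)⁻¹ * ((k : A) * (h : A) * (k : A)⁻¹) * (k : A) := by group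
          _ = (k' : A)⁻¹ * ((k' : A) * (h : A) * (k' : A)⁻¹) * (k : A) := by rw [h2]
          _ = (h : A) * ((k' : A)⁻¹ * (k : A)) := by group
      have hc1 := hfix (h : A) h.2 (fun e => hh (Subtype.ext e)) ((k' : A)⁻¹ * (k : A))
        (N.mul_mem (N.inv_mem k'.2) k.2) hc
      apply Subtype.ext
      calc (k : A) = (k' : A) * ((k' : A)⁻¹ * (k : A)) := by group
        _ = (k' : A) := by rw [hc1, mul_one]
    have hbij : Function.Bijective σ := Finite.injective_iff_bijective.1 hinj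
    have h5 : ∏ k : N, φ ((k : A) * (h : A) * (k : A)⁻¹) v = ∏ k : N, φ ((k : A) * (h : A)) v := by
      apply Fintype.prod_equiv (Equiv.ofBijective σ hbij)
      intro k
      rw [Equiv.ofBijective_apply, hσ]
      have e : (k : A) * (h : A) * (k : A)⁻¹ =
          (k : A) * ((h : A) * (k : A)⁻¹ * (h : A)⁻¹) * (h : A) := by group
      rw [e]
    rw [h5]
    have h6 : ∀ k : N, φ ((k : A) * (h : A)) v = φ (k : A) (φ (h : A) v) := by
      intro k; rw [map_mul, MulAut.mul_apply]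
    simp_rw [h6]
    exact hNN _
  have hdouble : ∏ h : H, ∏ k : N, φ ((k : A) * (h : A) * (k : A)⁻¹) v = 1 := by
    rw [Finset.prod_comm]
    exact Finset.prod_eq_one (fun k _ => hconj k)
  rw [← Finset.mul_prod_erase Finset.univ _ (Finset.mem_univ (1 : H))] at hdouble
  have h1term : ∏ k : N, φ ((k : A) * ((1 : H) : A) * (k : A)⁻¹) v = v ^ Fintype.card N := by
    simp [Finset.prod_const, Finset.card_univ]
  have hrest : ∏ h ∈ Finset.univ.erase (1 : H), ∏ k : N, φ ((k : A) * (h : A) * (k : A)⁻¹) v = 1 :=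
    Finset.prod_eq_one (fun h hh => hcol h (Finset.ne_of_mem_erase hh))
  rw [h1term, hrest, mul_one] at hdouble
  exact hdouble

end Cfsg.Agent.Lead
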