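import Cfsg.Agent.Lead.Frobenius
import Cfsg.Agent.Lead.FrobNorm
import Cfsg.Agent.Lead.Coprime
import Mathlib

/-!
Frobenius groups (lead): subgroups meeting the kernel trivially lie in a conjugate of the
complement, normal subgroups are comparable with the kernel, the kernel is unique, and all
Frobenius complements are conjugate.
-/

set_option autoImplicit false
open Pointwise

namespace Cfsg.Agent.Lead

open Cfsg.Agent.S0001

universe u

variable {G : Type u} [Group G]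

/-- A Frobenius complement `H` together with its kernel as a normal subgroup `N`. -/
abbrev FrobData (H N : Subgroup G) : Prop :=
  Cfsg.IsFrobeniusComplement H ∧ (N : Set G) = Cfsg.frobeniusKernel H ∧ N.Normal ∧
    Subgroup.IsComplement' N H

theorem exists_frobData [Finite G] (H : Subgroup G) (hH : Cfsg.IsFrobeniusComplement H) :
    ∃ N : Subgroup G, FrobData H N := by
  obtain ⟨N, h1, h2, h3⟩ := frobenius_kernel H hH
  exact ⟨N, hH, h1, h2, h3⟩

theorem FrobData.not_mem {H N : Subgroup G} (d : FrobData H N) {x : G} (hx : x ∉ N) :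
    x ≠ 1 ∧ ∃ g : G, g⁻¹ * x * g ∈ H := by
  have hx' : x ∉ Cfsg.frobeniusKernel H := by rw [← d.2.1]; exact hx
  exact (Cfsg.Agent.Helper1.not_mem_kernel_iff H x).mp hx'

theorem FrobData.mem_conj {H N : Subgroup G} (d : FrobData H N) {x g : G} (hx : x ∈ N)
    (hg : g⁻¹ * x * g ∈ H) : x = 1 := by
  have hx' : x ∈ Cfsg.frobeniusKernel H := by rw [← d.2.1]; exact hx
  have hx'' : x = 1 ∨ ∀ g : G, x ∉ MulAut.conj g • H := hx'
  rcases hx'' with h | h
  · exact h
  · exact absurd ((Cfsg.Agent.Helper1.mem_conj_smul_iff g x H).mpr hg) (h g)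

theorem FrobData.comm {H N : Subgroup G} (d : FrobData H N) {h c : G} (hh : h ∈ H) (h1 : h ≠ 1)
    (hc : c ∈ N) (hch : c * h = h * c) : c = 1 := by
  by_contra hc1
  have hcH : c ∉ H := by
    intro hcH
    exact hc1 (d.mem_conj (g := 1) hc (by simpa using hcH))
  have h2 := Cfsg.Agent.Helper1.frob_elt H d.1 c hcH h hh (by
    have e : c⁻¹ * h * c = h := by rw [mul_assoc, ← hch]; group
    rw [e]; exact hh)
  exact h1 h2

theorem FrobData.coprime [Finite G] {H N : Subgroup G} (d : FrobData H N) :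
    (Nat.card H).Coprime (Nat.card N) := by
  have hidx : Nat.card N = H.index := by
    rw [← Cfsg.Agent.Helper1.card_kernel H d.1]
    exact Nat.card_congr (Equiv.subtypeEquivRight (fun g => Set.ext_iff.mp d.2.1 g))
  have hmod := Cfsg.Agent.Helper1.frob_index_mod H d.1
  rw [hidx]
  have h1 : Nat.gcd H.index (Nat.card H) = Nat.gcd 1 (Nat.card H) := Nat.ModEq.gcd_eq hmod
  rw [Nat.gcd_one_left] at h1
  exact Nat.Coprime.symm h1

theorem FrobData.index_eq [Finite G] {H N : Subgroup G} (d : FrobData H N) :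
    N.index = Nat.card H :=
  d.2.2.2.symm.index_eq_card

theorem FrobData.ne_bot [Finite G] {H N : Subgroup G} (d : FrobData H N) : N ≠ ⊥ := by
  intro h
  have hc := d.2.2.2
  rw [h, Subgroup.isComplement'_bot_left] at hc
  exact d.1.2.1 hc

/-- A subgroup meeting the Frobenius kernel trivially lies in a conjugate of the complement. -/
theorem frob_conj_of_disjoint [Finite G] {H N : Subgroup G} (d : FrobData H N) :
    ∀ (n : ℕ) (L : Subgroup G), Nat.card L = n → L ⊓ N = ⊥ →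
      ∃ x : G, ∀ l ∈ L, x⁻¹ * l * x ∈ H := by
  intro n
  induction n using Nat.strong_induction_on with
  | _ n ih =>
    intro L hLn hLN
    by_cases hL : L = ⊥
    · refine ⟨1, fun l hl => ?_⟩
      rw [hL, Subgroup.mem_bot] at hl
      rw [hl]; simpa using H.one_mem
    obtain ⟨l₀, hl₀L, hl₀1⟩ : ∃ l ∈ L, l ≠ 1 := by
      by_contra hcon
      push_neg at hcon
      exact hL ((Subgroup.eq_bot_iff_forall L).mpr hcon)
    have hl₀N : l₀ ∉ N := by
      intro h
      have h0 : l₀ ∈ L ⊓ N := ⟨hl₀L, h⟩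
      rw [hLN, Subgroup.mem_bot] at h0
      exact hl₀1 h0
    obtain ⟨-, g, hg⟩ := d.not_mem hl₀N
    by_cases hall : ∀ l ∈ L, g⁻¹ * l * g ∈ H
    · exact ⟨g, hall⟩
    push_neg at hall
    obtain ⟨l₁, hl₁L, hl₁⟩ := hall
    obtain ⟨M, hM⟩ : ∃ M : Subgroup L, ∀ l : L, l ∈ M ↔ g⁻¹ * (l : G) * g ∈ H :=
      ⟨(MulAut.conj g • H).subgroupOf L, fun l => by
        rw [Subgroup.mem_subgroupOf, Cfsg.Agent.Helper1.mem_conj_smul_iff]⟩
    have hMfrob : Cfsg.IsFrobeniusComplement M := by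
      refine ⟨?_, ?_, ?_⟩
      · intro hbot
        have h0 : (⟨l₀, hl₀L⟩ : L) ∈ M := (hM _).mpr hg
        rw [hbot, Subgroup.mem_bot] at h0
        exact hl₀1 (congrArg Subtype.val h0)
      · intro htop
        have h0 : (⟨l₁, hl₁L⟩ : L) ∈ M := by rw [htop]; exact Subgroup.mem_top _
        exact hl₁ ((hM _).mp h0)
      · intro a ha
        rw [Subgroup.eq_bot_iff_forall]
        intro z hz
        have hz1 : g⁻¹ * (z : G) * g ∈ H := (hM z).mp (Subgroup.mem_inf.mp hz).1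
        have hz2 : g⁻¹ * ((a⁻¹ * z * a : L) : G) * g ∈ H :=
          (hM _).mp ((Cfsg.Agent.Helper1.mem_conj_smul_iff a z M).mp (Subgroup.mem_inf.mp hz).2)
        have ha' : g⁻¹ * (a : G) * g ∉ H := fun h => ha ((hM a).mpr h)
        have h3 := Cfsg.Agent.Helper1.frob_elt H d.1 _ ha' _ hz1 (by
          have e : (g⁻¹ * (a : G) * g)⁻¹ * (g⁻¹ * (z : G) * g) * (g⁻¹ * (a : G) * g) =
              g⁻¹ * ((a⁻¹ * z * a : L) : G) * g := by
            simp only [Subgroup.coe_mul, Subgroup.coe_inv]; group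
          rw [e]; exact hz2)
        apply Subtype.ext
        have e2 : (z : G) = g * (g⁻¹ * (z : G) * g) * g⁻¹ := by group
        rw [e2, h3]; simp
    obtain ⟨NL, dL⟩ := exists_frobData M hMfrob
    have hNLbot : NL ≠ ⊥ := dL.ne_bot
    have hNLtop : NL ≠ ⊤ := by
      intro h
      have hc := dL.2.2.2
      rw [h, Subgroup.isComplement'_top_left] at hc
      exact hMfrob.1 hc
    have hlt : Nat.card NL < Nat.card L :=
      lt_of_le_of_ne (Subgroup.card_le_card_group NL)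
        (fun h => hNLtop ((Subgroup.card_eq_iff_eq_top NL).mp h))
    obtain ⟨N₁, hN₁⟩ : ∃ N₁ : Subgroup G, N₁ = NL.map L.subtype := ⟨_, rfl⟩
    have hN₁card : Nat.card N₁ = Nat.card NL := by
      rw [hN₁]; exact Subgroup.card_map_of_injective L.subtype_injective
    have hN₁L : N₁ ≤ L := by rw [hN₁]; exact Subgroup.map_subtype_le NL
    have hN₁N : N₁ ⊓ N = ⊥ := by
      rw [eq_bot_iff, ← hLN]; exact inf_le_inf_right N hN₁L
    obtain ⟨x, hx⟩ := ih (Nat.card N₁) (by rw [hN₁card, ← hLn]; exact hlt) N₁ rfl hN₁N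
    refine ⟨x, ?_⟩
    by_contra hcon
    push_neg at hcon
    obtain ⟨l, hlL, hl⟩ := hcon
    obtain ⟨ν, hνN, hν1⟩ : ∃ ν ∈ NL, ν ≠ 1 := by
      by_contra hcon2
      push_neg at hcon2
      exact hNLbot ((Subgroup.eq_bot_iff_forall NL).mpr hcon2)
    have hνconj : (⟨l, hlL⟩ : L)⁻¹ * ν * (⟨l, hlL⟩ : L) ∈ NL := by
      have h0 := dL.2.2.1.conj_mem ν hνN (⟨l, hlL⟩ : L)⁻¹
      simpa using h0
    have h1 : x⁻¹ * (ν : G) * x ∈ H :=
      hx _ (by rw [hN₁]; exact Subgroup.mem_map.mpr ⟨ν, hνN, rfl⟩)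
    have h2 : x⁻¹ * (l⁻¹ * (ν : G) * l) * x ∈ H := by
      have h0 := hx _ (show (((⟨l, hlL⟩ : L)⁻¹ * ν * (⟨l, hlL⟩ : L) : L) : G) ∈ N₁ by
        rw [hN₁]; exact Subgroup.mem_map.mpr ⟨_, hνconj, rfl⟩)
      simpa using h0
    have h3 := Cfsg.Agent.Helper1.frob_elt H d.1 _ hl _ h1 (by
      have e : (x⁻¹ * l * x)⁻¹ * (x⁻¹ * (ν : G) * x) * (x⁻¹ * l * x) =
          x⁻¹ * (l⁻¹ * (ν : G) * l) * x := by group
      rw [e]; exact h2)
    apply hν1
    apply Subtype.ext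
    have e2 : (ν : G) = x * (x⁻¹ * (ν : G) * x) * x⁻¹ := by group
    rw [e2, h3]; simp

/-- A normal subgroup of a Frobenius group is contained in the kernel or contains it. -/
theorem FrobData.normal_le_or_le [Finite G] {H N : Subgroup G} (d : FrobData H N)
    (M : Subgroup G) (hM : M.Normal) : M ≤ N ∨ N ≤ M := by
  by_cases hMN : M ≤ N
  · exact Or.inl hMN
  right
  obtain ⟨m, hmM, hmN⟩ := SetLike.not_le_iff_exists.mp hMN
  obtain ⟨-, g, hg⟩ := d.not_mem hmN
  have hm1 : g⁻¹ * m * g ≠ 1 := by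
    intro h
    apply hmN
    have e : m = g * (g⁻¹ * m * g) * g⁻¹ := by group
    rw [e, h]; simp [N.one_mem]
  have hmM' : g⁻¹ * m * g ∈ M := by
    have h0 := hM.conj_mem m hmM g⁻¹
    simpa using h0
  generalize g⁻¹ * m * g = m' at hg hm1 hmM'
  have hNn : N.Normal := d.2.2.1
  have hmem : ∀ k : N, (k : G) * (m' * (k : G)⁻¹ * m'⁻¹) ∈ N := fun k =>
    N.mul_mem k.2 (hNn.conj_mem _ (N.inv_mem k.2) _)
  obtain ⟨σ, hσ⟩ : ∃ σ : N → N, ∀ k : N, (σ k : G) = (k : G) * (m' * (k : G)⁻¹ * m'⁻¹) :=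
    ⟨fun k => ⟨_, hmem k⟩, fun k => rfl⟩
  have hinj : Function.Injective σ := by
    intro k k' hkk
    have h1 : (k : G) * (m' * (k : G)⁻¹ * m'⁻¹) = (k' : G) * (m' * (k' : G)⁻¹ * m'⁻¹) := by
      have h0 := congrArg (fun z : N => (z : G)) hkk
      simpa only [hσ] using h0
    have h2 : (k : G) * m' * (k : G)⁻¹ = (k' : G) * m' * (k' : G)⁻¹ := by
      have e1 : (k : G) * m' * (k : G)⁻¹ = ((k : G) * (m' * (k : G)⁻¹ * m'⁻¹)) * m' := by group
      have e2 : (k' : G) * m' * (k' : G)⁻¹ = ((k' : G) * (m' * (k' : G)⁻¹ * m'⁻¹)) * m' := by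
        group
      rw [e1, e2, h1]
    have hc : ((k' : G)⁻¹ * (k : G)) * m' = m' * ((k' : G)⁻¹ * (k : G)) := by
      calc ((k' : G)⁻¹ * (k : G)) * m'
          = (k' : G)⁻¹ * ((k : G) * m' * (k : G)⁻¹) * (k : G) := by group
        _ = (k' : G)⁻¹ * ((k' : G) * m' * (k' : G)⁻¹) * (k : G) := by rw [h2]
        _ = m' * ((k' : G)⁻¹ * (k : G)) := by group
    have hc1 := d.comm hg hm1 (N.mul_mem (N.inv_mem k'.2) k.2) hc
    apply Subtype.ext
    calc (k : G) = (k' : G) * ((k' : G)⁻¹ * (k : G)) := by group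
      _ = (k' : G) := by rw [hc1, mul_one]
  have hsurj : Function.Surjective σ := (Finite.injective_iff_bijective.1 hinj).2
  intro n hn
  obtain ⟨k, hk⟩ := hsurj ⟨n, hn⟩
  have e : n = (k : G) * (m' * (k : G)⁻¹ * m'⁻¹) := by
    rw [← hσ k, hk]
  rw [e]
  have e2 : (k : G) * (m' * (k : G)⁻¹ * m'⁻¹) = ((k : G) * m' * (k : G)⁻¹) * m'⁻¹ := by group
  rw [e2]
  exact M.mul_mem (hM.conj_mem m' hmM' k) (M.inv_mem hmM')

theorem normalizer_le_normalizer_center (R : Subgroup G) :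
    Subgroup.normalizer (R : Set G) ≤
      Subgroup.normalizer ((R ⊓ Subgroup.centralizer (R : Set G) : Subgroup G) : Set G) := by
  intro b hb
  rw [Subgroup.mem_normalizer_iff] at hb ⊢
  have hb' : ∀ u, u ∈ R → b⁻¹ * u * b ∈ R := by
    intro u hu
    have h0 := hb (b⁻¹ * u * b)
    have e : b * (b⁻¹ * u * b) * b⁻¹ = u := by group
    rw [e] at h0
    exact h0.mpr hu
  intro u
  constructor
  · intro hu
    obtain ⟨huR, huC⟩ := Subgroup.mem_inf.mp hu
    refine Subgroup.mem_inf.mpr ⟨(hb u).mp huR, ?_⟩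
    rw [Subgroup.mem_centralizer_iff] at huC ⊢
    intro ρ hρ
    have h0 := huC (b⁻¹ * ρ * b) (hb' ρ hρ)
    calc ρ * (b * u * b⁻¹) = b * ((b⁻¹ * ρ * b) * u) * b⁻¹ := by group
      _ = b * (u * (b⁻¹ * ρ * b)) * b⁻¹ := by rw [h0]
      _ = (b * u * b⁻¹) * ρ := by group
  · intro hu
    obtain ⟨huR, huC⟩ := Subgroup.mem_inf.mp hu
    refine Subgroup.mem_inf.mpr ⟨(hb u).mpr huR, ?_⟩
    rw [Subgroup.mem_centralizer_iff] at huC ⊢
    intro ρ hρ
    have h0 := huC (b * ρ * b⁻¹) ((hb ρ).mp hρ)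
    calc ρ * u = b⁻¹ * ((b * ρ * b⁻¹) * (b * u * b⁻¹)) * b := by group
      _ = b⁻¹ * ((b * u * b⁻¹) * (b * ρ * b⁻¹)) * b := by rw [h0]
      _ = u * ρ := by group

/-- A Frobenius complement normalises a nontrivial abelian subgroup of the kernel. -/
theorem FrobData.exists_invariant_abelian [Finite G] {H N : Subgroup G} (d : FrobData H N) :
    ∃ V : Subgroup G, IsMulCommutative V ∧ V ≠ ⊥ ∧ V ≤ N ∧
      H ≤ Subgroup.normalizer (V : Set G) := by
  classical
  haveI hNn : N.Normal := d.2.2.1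
  have hNbot := d.ne_bot
  have hcardN : Nat.card N ≠ 1 := fun h => hNbot (Subgroup.card_eq_one.mp h)
  obtain ⟨r, hr, hrN⟩ := Nat.exists_prime_and_dvd hcardN
  haveI : Fact r.Prime := ⟨hr⟩
  obtain ⟨P₀⟩ : Nonempty (Sylow r N) := inferInstance
  obtain ⟨R, hR⟩ : ∃ R : Subgroup G, R = (P₀ : Subgroup N).map N.subtype := ⟨_, rfl⟩
  have hRp : IsPGroup r R := by rw [hR]; exact P₀.isPGroup'.map N.subtype
  have hRN : R ≤ N := by rw [hR]; exact Subgroup.map_subtype_le _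
  have hRbot : R ≠ ⊥ := by
    rw [hR]
    intro h
    rw [Subgroup.map_eq_bot_iff_of_injective _ N.subtype_injective] at h
    exact P₀.ne_bot_of_dvd_card hrN h
  have hFr : Subgroup.normalizer (R : Set G) ⊔ N = ⊤ := by
    rw [hR]; exact Sylow.normalizer_sup_eq_top P₀
  obtain ⟨T, hT⟩ : ∃ T : Subgroup G, T = Subgroup.normalizer (R : Set G) := ⟨_, rfl⟩
  rw [← hT] at hFr
  have hidx : N.relIndex T = Nat.card H := by
    rw [← Subgroup.relIndex_sup_right, hFr, Subgroup.relIndex_top_right, d.index_eq]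
  have hidx' : (N.subgroupOf T).index = Nat.card H := hidx
  have hcopQ : (Nat.card (N.subgroupOf T)).Coprime (N.subgroupOf T).index := by
    rw [hidx']
    exact Nat.Coprime.symm (Nat.Coprime.coprime_dvd_right (card_subgroupOf_dvd N T) d.coprime)
  obtain ⟨B, hB⟩ := Subgroup.exists_right_complement'_of_coprime hcopQ
  have hBcard : Nat.card B = Nat.card H := by
    rw [← hB.symm.index_eq_card]; exact hidx'
  obtain ⟨B₁, hB₁⟩ : ∃ B₁ : Subgroup G, B₁ = B.map T.subtype := ⟨_, rfl⟩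
  have hB₁card : Nat.card B₁ = Nat.card H := by
    rw [hB₁, Subgroup.card_map_of_injective T.subtype_injective, hBcard]
  have hB₁T : B₁ ≤ T := by rw [hB₁]; exact Subgroup.map_subtype_le _
  have hB₁N : B₁ ⊓ N = ⊥ := inf_eq_bot_of_coprime' (by rw [hB₁card]; exact d.coprime)
  obtain ⟨x, hx⟩ := frob_conj_of_disjoint d (Nat.card B₁) B₁ rfl hB₁N
  have hsurj : ∀ a ∈ H, x * a * x⁻¹ ∈ B₁ := by
    obtain ⟨f, hf⟩ : ∃ f : B₁ → H, ∀ b : B₁, (f b : G) = x⁻¹ * (b : G) * x :=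
      ⟨fun b => ⟨_, hx b b.2⟩, fun b => rfl⟩
    have hfinj : Function.Injective f := by
      intro b b' hbb
      have h0 := congrArg (fun z : H => (z : G)) hbb
      simp only [hf] at h0
      apply Subtype.ext
      have e : (b : G) = x * (x⁻¹ * (b : G) * x) * x⁻¹ := by group
      have e' : (b' : G) = x * (x⁻¹ * (b' : G) * x) * x⁻¹ := by group
      rw [e, e', h0]
    have hfbij : Function.Bijective f :=
      hfinj.bijective_of_nat_card_le (le_of_eq hB₁card.symm)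
    intro a ha
    obtain ⟨b, hb⟩ := hfbij.2 ⟨a, ha⟩
    have e : x * a * x⁻¹ = (b : G) := by
      have h0 := congrArg (fun z : H => (z : G)) hb
      simp only [hf] at h0
      rw [← h0]; group
    rw [e]; exact b.2
  obtain ⟨Z, hZ⟩ : ∃ Z : Subgroup G, Z = R ⊓ Subgroup.centralizer (R : Set G) := ⟨_, rfl⟩
  have hZbot : Z ≠ ⊥ := by
    haveI : Nontrivial R := (Subgroup.nontrivial_iff_ne_bot R).mpr hRbot
    haveI := hRp.center_nontrivial
    obtain ⟨z, hz1⟩ := exists_ne (1 : Subgroup.center R)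
    have hzZ : ((z : R) : G) ∈ Z := by
      rw [hZ]
      refine Subgroup.mem_inf.mpr ⟨(z : R).2, ?_⟩
      rw [Subgroup.mem_centralizer_iff]
      intro ρ hρ
      have h0 := Subgroup.mem_center_iff.mp z.2 ⟨ρ, hρ⟩
      exact congrArg Subtype.val h0
    intro hbot
    rw [hbot, Subgroup.mem_bot] at hzZ
    apply hz1
    apply Subtype.ext; apply Subtype.ext
    simpa using hzZ
  have hZnorm : T ≤ Subgroup.normalizer (Z : Set G) := by
    rw [hT, hZ]; exact normalizer_le_normalizer_center R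
  refine ⟨Z.comap (MulAut.conj x).toMonoidHom, ?_, ?_, ?_, ?_⟩
  · refine ⟨⟨fun a b => ?_⟩⟩
    have ha' : x * (a : G) * x⁻¹ ∈ Z := Subgroup.mem_comap.mp a.2
    have hb' : x * (b : G) * x⁻¹ ∈ Z := Subgroup.mem_comap.mp b.2
    have hZle : Z ≤ R ⊓ Subgroup.centralizer (R : Set G) := le_of_eq hZ
    have hcomm := (Subgroup.mem_centralizer_iff.mp (Subgroup.mem_inf.mp (hZle hb')).2) _
      (Subgroup.mem_inf.mp (hZle ha')).1
    apply Subtype.ext
    show (a : G) * (b : G) = (b : G) * (a : G)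
    calc (a : G) * (b : G) = x⁻¹ * ((x * (a : G) * x⁻¹) * (x * (b : G) * x⁻¹)) * x := by group
      _ = x⁻¹ * ((x * (b : G) * x⁻¹) * (x * (a : G) * x⁻¹)) * x := by rw [hcomm]
      _ = (b : G) * (a : G) := by group
  · intro hbot
    obtain ⟨z, hzZ, hz1⟩ : ∃ z ∈ Z, z ≠ 1 := by
      by_contra hcon
      push_neg at hcon
      exact hZbot ((Subgroup.eq_bot_iff_forall Z).mpr hcon)
    have hmem : x⁻¹ * z * x ∈ Z.comap (MulAut.conj x).toMonoidHom := by
      rw [Subgroup.mem_comap]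
      show x * (x⁻¹ * z * x) * x⁻¹ ∈ Z
      have e : x * (x⁻¹ * z * x) * x⁻¹ = z := by group
      rw [e]; exact hzZ
    rw [hbot, Subgroup.mem_bot] at hmem
    apply hz1
    have e : z = x * (x⁻¹ * z * x) * x⁻¹ := by group
    rw [e, hmem]; simp
  · intro v hv
    have hv' : x * v * x⁻¹ ∈ Z := Subgroup.mem_comap.mp hv
    rw [hZ] at hv'
    have h1 : x * v * x⁻¹ ∈ N := hRN (Subgroup.mem_inf.mp hv').1
    have h2 := hNn.conj_mem _ h1 x⁻¹
    have e : x⁻¹ * (x * v * x⁻¹) * x⁻¹⁻¹ = v := by group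
    rw [e] at h2; exact h2
  · intro a ha
    have hb : x * a * x⁻¹ ∈ Subgroup.normalizer (Z : Set G) := hZnorm (hB₁T (hsurj a ha))
    rw [Subgroup.mem_normalizer_iff] at hb ⊢
    intro v
    rw [Subgroup.mem_comap, Subgroup.mem_comap]
    show x * v * x⁻¹ ∈ Z ↔ x * (a * v * a⁻¹) * x⁻¹ ∈ Z
    have h0 := hb (x * v * x⁻¹)
    have e : x * a * x⁻¹ * (x * v * x⁻¹) * (x * a * x⁻¹)⁻¹ = x * (a * v * a⁻¹) * x⁻¹ := by group
    rw [e] at h0
    exact h0

/-- The Frobenius kernel is unique. -/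
theorem FrobData.kernel_unique [Finite G] {H N H₀ N₀ : Subgroup G} (d : FrobData H N)
    (d₀ : FrobData H₀ N₀) (hle : N₀ ≤ N) : N₀ = N := by
  classical
  by_contra hne
  haveI hNn : N.Normal := d.2.2.1
  haveI hN₀n : N₀.Normal := d₀.2.2.1
  obtain ⟨x₀, hx₀N, hx₀⟩ := SetLike.exists_of_lt (lt_of_le_of_ne hle hne)
  obtain ⟨hx₀1, g, hg⟩ := d₀.not_mem hx₀
  obtain ⟨y, hy⟩ : ∃ y, y = g⁻¹ * x₀ * g := ⟨_, rfl⟩
  have hyH₀ : y ∈ H₀ := by rw [hy]; exact hg
  have hyN : y ∈ N := by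
    rw [hy]
    have h0 := hNn.conj_mem x₀ hx₀N g⁻¹
    simpa using h0
  have hy1 : y ≠ 1 := by
    intro h
    apply hx₀1
    have e : x₀ = g * (g⁻¹ * x₀ * g) * g⁻¹ := by group
    rw [e, ← hy, h]; simp
  obtain ⟨h', hh'H₀, hh'N⟩ : ∃ h' ∈ H₀, h' ∉ N := by
    by_contra hcon
    push_neg at hcon
    have htop : N = ⊤ := by
      rw [eq_top_iff, ← d₀.2.2.2.sup_eq_top]
      exact sup_le hle hcon
    have hc := d.2.2.2
    rw [htop, Subgroup.isComplement'_top_left] at hc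
    exact d.1.1 hc
  obtain ⟨hh'1, g', hg'⟩ := d.not_mem hh'N
  obtain ⟨V, hVab, hVbot, hVN₀, hVnorm⟩ := d₀.exists_invariant_abelian
  haveI := hVab
  obtain ⟨φ, hφ⟩ : ∃ φ : ↥H₀ →* MulAut ↥V, ∀ (a : H₀) (v : V),
      ((φ a v : V) : G) = (a : G) * (v : G) * (a : G)⁻¹ :=
    ⟨V.normalizerMonoidHom.comp (Subgroup.inclusion hVnorm), fun a v => rfl⟩
  open scoped IsMulCommutative in
  letI : CommGroup V := inferInstance
  haveI : Fintype (N.subgroupOf H₀) := Fintype.ofFinite _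
  haveI : Fintype (Subgroup.zpowers (⟨h', hh'H₀⟩ : H₀)) := Fintype.ofFinite _
  have hfix : ∀ s ∈ Subgroup.zpowers (⟨h', hh'H₀⟩ : H₀), s ≠ 1 →
      ∀ c ∈ N.subgroupOf H₀, c * s = s * c → c = 1 := by
    intro s hs hs1 c hc hcs
    obtain ⟨i, hi⟩ := Subgroup.mem_zpowers_iff.mp hs
    have hsG : (s : G) = h' ^ i := by rw [← hi]; simp
    have hconjH : g'⁻¹ * (s : G) * g' ∈ H := by
      have e := conj_zpow (a := g'⁻¹) (b := h') (i := i)
      rw [inv_inv] at e
      rw [hsG, ← e]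
      exact H.zpow_mem hg' i
    have hconj1 : g'⁻¹ * (s : G) * g' ≠ 1 := by
      intro h
      apply hs1
      apply Subtype.ext
      have e : (s : G) = g' * (g'⁻¹ * (s : G) * g') * g'⁻¹ := by group
      rw [e, h]; simp
    have hcN : g'⁻¹ * (c : G) * g' ∈ N := by
      have h0 := hNn.conj_mem (c : G) (Subgroup.mem_subgroupOf.mp hc) g'⁻¹
      simpa using h0
    have hcs' : (c : G) * (s : G) = (s : G) * (c : G) := by
      have h0 := congrArg (fun z : H₀ => (z : G)) hcs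
      simpa using h0
    have hcomm : (g'⁻¹ * (c : G) * g') * (g'⁻¹ * (s : G) * g') =
        (g'⁻¹ * (s : G) * g') * (g'⁻¹ * (c : G) * g') := by
      calc (g'⁻¹ * (c : G) * g') * (g'⁻¹ * (s : G) * g')
          = g'⁻¹ * ((c : G) * (s : G)) * g' := by group
        _ = g'⁻¹ * ((s : G) * (c : G)) * g' := by rw [hcs']
        _ = (g'⁻¹ * (s : G) * g') * (g'⁻¹ * (c : G) * g') := by group
    have h1 := d.comm hconjH hconj1 hcN hcomm
    apply Subtype.ext
    have e : (c : G) = g' * (g'⁻¹ * (c : G) * g') * g'⁻¹ := by group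
    rw [e, h1]; simp
  have hCN' : ∀ v : V, (∀ n ∈ N.subgroupOf H₀, φ n v = v) → v = 1 := by
    intro v hv
    have h2 := congrArg Subtype.val (hv ⟨y, hyH₀⟩ (Subgroup.mem_subgroupOf.mpr hyN))
    rw [hφ] at h2
    have h2' : y * (v : G) * y⁻¹ = (v : G) := h2
    have hcomm : (v : G) * y = y * (v : G) := by
      calc (v : G) * y = (y * (v : G) * y⁻¹) * y := by rw [h2']
        _ = y * (v : G) := by group
    exact Subtype.ext (d₀.comm hyH₀ hy1 (hVN₀ v.2) hcomm)
  have hCH' : ∀ v : V, (∀ s ∈ Subgroup.zpowers (⟨h', hh'H₀⟩ : H₀), φ s v = v) → v = 1 := by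
    intro v hv
    have h2 := congrArg Subtype.val (hv ⟨h', hh'H₀⟩ (Subgroup.mem_zpowers _))
    rw [hφ] at h2
    have h2' : h' * (v : G) * h'⁻¹ = (v : G) := h2
    have hcomm : (v : G) * h' = h' * (v : G) := by
      calc (v : G) * h' = (h' * (v : G) * h'⁻¹) * h' := by rw [h2']
        _ = h' * (v : G) := by group
    exact Subtype.ext (d₀.comm hh'H₀ hh'1 (hVN₀ v.2) hcomm)
  apply hVbot
  rw [Subgroup.eq_bot_iff_forall]
  intro w hw
  have h1 : (⟨w, hw⟩ : V) ^ Fintype.card (N.subgroupOf H₀) = 1 :=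
    fpf_frobenius_pow φ (N.subgroupOf H₀) (Subgroup.zpowers (⟨h', hh'H₀⟩ : H₀)) hfix hCN' hCH'
      ⟨w, hw⟩
  have h2 : (⟨w, hw⟩ : V) ^ Nat.card V = 1 := pow_card_eq_one'
  have hcop' : (Nat.card V).Coprime (Fintype.card (N.subgroupOf H₀)) := by
    rw [Fintype.card_eq_nat_card]
    exact Nat.Coprime.symm (Nat.Coprime.coprime_dvd_left (Subgroup.card_subgroup_dvd_card _)
      (Nat.Coprime.coprime_dvd_right (Subgroup.card_dvd_of_le hVN₀) d₀.coprime))
  have h3 : (⟨w, hw⟩ : V) = 1 := by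
    have d1 : orderOf (⟨w, hw⟩ : V) ∣ Fintype.card (N.subgroupOf H₀) :=
      orderOf_dvd_of_pow_eq_one h1
    have d2 : orderOf (⟨w, hw⟩ : V) ∣ Nat.card V := orderOf_dvd_of_pow_eq_one h2
    exact orderOf_eq_one_iff.mp (Nat.eq_one_of_dvd_coprimes hcop' d2 d1)
  exact congrArg Subtype.val h3

/-- A subgroup of order dividing that of a Frobenius complement lies in a conjugate of it. -/
theorem frob_le_conj [Finite G] (H : Subgroup G) (hH : Cfsg.IsFrobeniusComplement H)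
    (L : Subgroup G) (hL : Nat.card L ∣ Nat.card H) : ∃ x : G, L ≤ MulAut.conj x • H := by
  obtain ⟨N, d⟩ := exists_frobData H hH
  have hLN : L ⊓ N = ⊥ := inf_eq_bot_of_coprime' (Nat.Coprime.coprime_dvd_left hL d.coprime)
  obtain ⟨x, hx⟩ := frob_conj_of_disjoint d (Nat.card L) L rfl hLN
  exact ⟨x, fun l hl => (Cfsg.Agent.Helper1.mem_conj_smul_iff x l H).mpr (hx l hl)⟩

/-- All Frobenius complements of a finite group are conjugate. -/
theorem frob_conj [Finite G] (H H₀ : Subgroup G) (hH : Cfsg.IsFrobeniusComplement H)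
    (hH₀ : Cfsg.IsFrobeniusComplement H₀) : ∃ g : G, MulAut.conj g • H₀ = H := by
  obtain ⟨N, d⟩ := exists_frobData H hH
  obtain ⟨N₀, d₀⟩ := exists_frobData H₀ hH₀
  have hNN : N₀ = N := by
    rcases d.normal_le_or_le N₀ d₀.2.2.1 with h | h
    · exact d.kernel_unique d₀ h
    · exact (d₀.kernel_unique d h).symm
  have hcard : Nat.card H₀ = Nat.card H := by rw [← d₀.index_eq, ← d.index_eq, hNN]
  have hH₀N : H₀ ⊓ N = ⊥ := inf_eq_bot_of_coprime' (by rw [hcard]; exact d.coprime)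
  obtain ⟨x, hx⟩ := frob_conj_of_disjoint d (Nat.card H₀) H₀ rfl hH₀N
  refine ⟨x⁻¹, ?_⟩
  have hle : MulAut.conj x⁻¹ • H₀ ≤ H := by
    intro z hz
    rw [Cfsg.Agent.Helper1.mem_conj_smul_iff] at hz
    have h0 := hx _ hz
    have e : x⁻¹ * (x⁻¹⁻¹ * z * x⁻¹) * x = z := by group
    rw [e] at h0; exact h0
  apply Subgroup.eq_of_le_of_card_ge hle
  rw [← hcard]
  exact le_of_eq (Nat.card_congr (Subgroup.equivSMul (MulAut.conj x⁻¹) H₀).toEquiv)

end Cfsg.Agent.Lead
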