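import Cfsg.Agent.Helper24.CharInd
import Cfsg.Agent.Helper24.CharEigen
import Cfsg.Agent.Helper24.CharProd
import Cfsg.Agent.Helper24.CharDecomp
import Cfsg.Agent.Helper1.Frob
import Mathlib

/-!
Frobenius' theorem (lead): the Frobenius kernel of a Frobenius complement is a normal subgroup
complementing it.  Proof by characters, on top of helper24's character library.
-/

set_option autoImplicit false
open Pointwise

namespace Cfsg.Agent.Lead

open Cfsg Cfsg.Agent.Helper24 Representation Module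

universe u

variable {G : Type u} [Group G]

theorem indFun_frob_apply_mem [Fintype G] (H : Subgroup G) (hH : Cfsg.IsFrobeniusComplement H)
    (α : H → ℂ) (hα : IsClassFunction H α) (hα1 : α 1 = 0) (h : H) :
    indFun H α (h : G) = α h := by
  classical
  have hN : (Nat.card H : ℂ) ≠ 0 := Nat.cast_ne_zero.mpr Nat.card_pos.ne'
  have hterm : ∀ x : G, extendByZero H α (x⁻¹ * (h : G) * x) = if x ∈ H then α h else 0 := by
    intro x
    by_cases hx : x ∈ H
    · rw [if_pos hx]
      have hmem : x⁻¹ * (h : G) * x ∈ H := H.mul_mem (H.mul_mem (H.inv_mem hx) h.2) hx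
      rw [extendByZero_apply_mem _ _ hmem]
      have h0 := hα h (⟨x, hx⟩⁻¹ : H)
      rw [← h0]
      congr 1
      apply Subtype.ext
      simp
    · rw [if_neg hx]
      by_cases hmem : x⁻¹ * (h : G) * x ∈ H
      · have h1 : (h : G) = 1 := Cfsg.Agent.Helper1.frob_elt H hH x hx (h : G) h.2 hmem
        rw [extendByZero_apply_mem _ _ hmem]
        have h2 : (⟨x⁻¹ * (h : G) * x, hmem⟩ : H) = 1 := by
          apply Subtype.ext; simp [h1]
        rw [h2, hα1]
      · exact extendByZero_apply_not_mem _ _ hmem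
  show (Nat.card H : ℂ)⁻¹ * ∑ x : G, extendByZero H α (x⁻¹ * (h : G) * x) = α h
  simp only [hterm]
  rw [← Finset.sum_filter, Finset.sum_const, nsmul_eq_mul]
  have hc : (Finset.univ.filter (fun x : G => x ∈ H)).card = Nat.card H := by
    rw [← Fintype.card_subtype]
    exact Fintype.card_eq_nat_card
  rw [hc, ← mul_assoc, inv_mul_cancel₀ hN, one_mul]

theorem indFun_frob_apply_not_conj [Fintype G] (H : Subgroup G) (α : H → ℂ) (g : G)
    (hg : ∀ x : G, x⁻¹ * g * x ∉ H) : indFun H α g = 0 := by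
  show (Nat.card H : ℂ)⁻¹ * ∑ x : G, extendByZero H α (x⁻¹ * g * x) = 0
  rw [Finset.sum_eq_zero (fun x _ => extendByZero_apply_not_mem H α (hg x)), mul_zero]

/-- Frobenius' extension of a class function `θ` of `H` to `G`. -/
noncomputable def frobExt [Fintype G] (H : Subgroup G) (θ : H → ℂ) : G → ℂ :=
  fun g => indFun H (fun h => θ h - θ 1) g + θ 1

theorem frobExt_apply_mem [Fintype G] (H : Subgroup G) (hH : Cfsg.IsFrobeniusComplement H)
    (θ : H → ℂ) (hθ : IsClassFunction H θ) (g : G) (hg : g ∈ H) :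
    frobExt H θ g = θ ⟨g, hg⟩ := by
  have hαcf : IsClassFunction H (fun h => θ h - θ 1) := by
    intro a b
    show θ (b * a * b⁻¹) - θ 1 = θ a - θ 1
    rw [hθ a b]
  have h0 : indFun H (fun h => θ h - θ 1) g = θ ⟨g, hg⟩ - θ 1 :=
    indFun_frob_apply_mem H hH (fun h => θ h - θ 1) hαcf (by simp) ⟨g, hg⟩
  simp only [frobExt]
  rw [h0]; ring

theorem frobExt_apply_not_conj [Fintype G] (H : Subgroup G) (θ : H → ℂ) (g : G)
    (hg : ∀ x : G, x⁻¹ * g * x ∉ H) : frobExt H θ g = θ 1 := by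
  simp only [frobExt]
  rw [indFun_frob_apply_not_conj H _ g hg, zero_add]

/-- A class function with integer multiplicities, norm one and positive degree is an irreducible
character. -/
theorem isIrrCharacter_of_int_inner [Fintype G] {ψ : G → ℂ} (hcf : IsClassFunction G ψ)
    (hint : ∀ χ : IrrCharacter G, ∃ z : ℤ, classInner ψ (χ : G → ℂ) = z)
    (h1 : classInner ψ ψ = 1) (hpos : ∃ n : ℕ, n ≠ 0 ∧ ψ 1 = n) : IsIrrCharacter G ψ := by
  classical
  choose k hk using hint
  have hdec : ψ = ∑ χ : IrrCharacter G, (k χ : ℂ) • (χ : G → ℂ) := by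
    have h0 := classFunction_eq_sum_irr ψ hcf
    simp only [hk] at h0
    exact h0
  have hsq : ∑ χ : IrrCharacter G, ((k χ : ℂ)) ^ 2 = 1 := by
    have e : classInner ψ ψ =
        classInner (∑ χ : IrrCharacter G, (k χ : ℂ) • (χ : G → ℂ)) ψ := by
      rw [← hdec]
    rw [← h1, e, classInner_sum_left]
    refine Finset.sum_congr rfl fun χ _ => ?_
    rw [classInner_smul_left, classInner_conj_symm, hk χ, map_intCast]
    ring
  have hsqZ : ∑ χ : IrrCharacter G, (k χ) ^ 2 = 1 := by exact_mod_cast hsq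
  obtain ⟨χ₀, hχ₀⟩ : ∃ χ₀, k χ₀ ≠ 0 := by
    by_contra hcon
    push_neg at hcon
    simp [hcon] at hsqZ
  have hle : (k χ₀) ^ 2 ≤ 1 := by
    rw [← hsqZ]
    exact Finset.single_le_sum (f := fun χ => (k χ) ^ 2) (fun _ _ => sq_nonneg _)
      (Finset.mem_univ χ₀)
  have hpos2 : 0 < (k χ₀) ^ 2 := lt_of_le_of_ne (sq_nonneg _) (Ne.symm (pow_ne_zero 2 hχ₀))
  have hk1 : (k χ₀) ^ 2 = 1 := le_antisymm hle hpos2
  have h3 := Finset.add_sum_erase Finset.univ (fun χ => (k χ) ^ 2) (Finset.mem_univ χ₀)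
  beta_reduce at h3
  rw [hsqZ, hk1] at h3
  have h4 : ∑ χ ∈ Finset.univ.erase χ₀, (k χ) ^ 2 = 0 := by linarith
  have hrest : ∀ χ, χ ≠ χ₀ → k χ = 0 := by
    intro χ hne
    have h5 := (Finset.sum_eq_zero_iff_of_nonneg (fun _ _ => sq_nonneg _)).mp h4 χ
      (Finset.mem_erase.mpr ⟨hne, Finset.mem_univ χ⟩)
    exact (pow_eq_zero_iff two_ne_zero).mp h5
  have hψeq : ψ = (k χ₀ : ℂ) • (χ₀ : G → ℂ) := by
    conv_lhs => rw [hdec]
    rw [Finset.sum_eq_single χ₀]
    · intro χ _ hne; rw [hrest χ hne]; simp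
    · intro h; exact absurd (Finset.mem_univ _) h
  have hk2 : k χ₀ = 1 ∨ k χ₀ = -1 := by
    have h5 : (k χ₀ - 1) * (k χ₀ + 1) = 0 := by linear_combination hk1
    rcases mul_eq_zero.mp h5 with h6 | h6
    · left; linarith
    · right; linarith
  rcases hk2 with h | h
  · have e : ψ = (χ₀ : G → ℂ) := by rw [hψeq, h]; simp
    rw [e]; exact χ₀.2
  · exfalso
    obtain ⟨n, hn0, hn⟩ := hpos
    obtain ⟨m, hm⟩ := irr_one_eq_natCast χ₀
    have e1 : ψ 1 = -(m : ℂ) := by
      rw [hψeq, h]; simp [hm]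
    rw [hn] at e1
    have e2 : ((n + m : ℕ) : ℂ) = 0 := by push_cast; rw [e1]; ring
    have e3 : n + m = 0 := by exact_mod_cast e2
    omega

theorem frobExt_isIrr [Fintype G] (H : Subgroup G) (hH : Cfsg.IsFrobeniusComplement H)
    (θ : IrrCharacter H) : IsIrrCharacter G (frobExt H (θ : H → ℂ)) := by
  classical
  haveI : Fintype H := Fintype.ofFinite H
  obtain ⟨n, hn⟩ := irr_one_eq_natCast θ
  have hθcf : IsClassFunction H (θ : H → ℂ) := irr_isClassFunction θ
  obtain ⟨α, hα⟩ : ∃ α : H → ℂ, α = fun h => (θ : H → ℂ) h - (θ : H → ℂ) 1 := ⟨_, rfl⟩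
  have hαeq : α = (θ : H → ℂ) - ((θ : H → ℂ) 1) • (fun _ : H => (1 : ℂ)) := by
    funext h; simp [hα]
  have hψeq : frobExt H (θ : H → ℂ) =
      indFun H α + ((θ : H → ℂ) 1) • (fun _ : G => (1 : ℂ)) := by
    funext g; simp [frobExt, hα]
  have hψcf : IsClassFunction G (frobExt H (θ : H → ℂ)) := by
    intro g h
    simp only [frobExt]
    rw [indFun_isClassFunction H _ g h]
  have hres : (fun h : H => frobExt H (θ : H → ℂ) (h : G)) = (θ : H → ℂ) := by
    funext h
    exact frobExt_apply_mem H hH (θ : H → ℂ) hθcf (h : G) h.2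
  have key : ∀ χ : G → ℂ, IsClassFunction G χ →
      classInner (frobExt H (θ : H → ℂ)) χ =
        classInner (θ : H → ℂ) (fun h : H => χ h)
          - (θ : H → ℂ) 1 * classInner (fun _ : H => (1 : ℂ)) (fun h : H => χ h)
          + (θ : H → ℂ) 1 * classInner (fun _ : G => (1 : ℂ)) χ := by
    intro χ hχ
    rw [hψeq, classInner_add_left, classInner_smul_left, classInner_indFun H α χ hχ, hαeq,
      classInner_sub_left, classInner_smul_left]
  have h11H : classInner (fun _ : H => (1 : ℂ)) (fun _ : H => (1 : ℂ)) = 1 :=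
    irr_inner_self (⟨_, isIrrCharacter_one⟩ : IrrCharacter H)
  have h11G : classInner (fun _ : G => (1 : ℂ)) (fun _ : G => (1 : ℂ)) = 1 :=
    irr_inner_self (⟨_, isIrrCharacter_one⟩ : IrrCharacter G)
  have hθθ : classInner (θ : H → ℂ) (θ : H → ℂ) = 1 := irr_inner_self θ
  have h1cf : IsClassFunction G (fun _ : G => (1 : ℂ)) := fun _ _ => rfl
  have hψ1 : classInner (frobExt H (θ : H → ℂ)) (fun _ : G => (1 : ℂ)) =
      classInner (θ : H → ℂ) (fun _ : H => (1 : ℂ)) := by
    rw [key _ h1cf, h11H, h11G]; ring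
  have hnorm : classInner (frobExt H (θ : H → ℂ)) (frobExt H (θ : H → ℂ)) = 1 := by
    rw [key _ hψcf, hres, hθθ, classInner_conj_symm (fun _ : G => (1 : ℂ)), hψ1,
      ← classInner_conj_symm]
    ring
  have hint : ∀ χ : IrrCharacter G,
      ∃ z : ℤ, classInner (frobExt H (θ : H → ℂ)) (χ : G → ℂ) = z := by
    intro χ
    have hχres : IsCharacter H (fun h : H => (χ : G → ℂ) h) :=
      isCharacter_restrict H (isCharacter_of_isIrrCharacter χ.2)
    obtain ⟨k1, hk1⟩ := classInner_isCharacter_natCast (isCharacter_of_isIrrCharacter θ.2) hχres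
    obtain ⟨k2, hk2⟩ := classInner_isCharacter_natCast
      (isCharacter_of_isIrrCharacter (isIrrCharacter_one (G := H))) hχres
    obtain ⟨k3, hk3⟩ := classInner_isCharacter_natCast
      (isCharacter_of_isIrrCharacter (isIrrCharacter_one (G := G)))
      (isCharacter_of_isIrrCharacter χ.2)
    refine ⟨(k1 : ℤ) - n * k2 + n * k3, ?_⟩
    rw [key _ (irr_isClassFunction χ), hk1, hk2, hk3, hn]
    push_cast; ring
  have hψ1val : frobExt H (θ : H → ℂ) 1 = (θ : H → ℂ) 1 := by
    have h0 := congrFun hres 1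
    simpa using h0
  have hpos : ∃ m : ℕ, m ≠ 0 ∧ frobExt H (θ : H → ℂ) 1 = m := by
    refine ⟨n, ?_, by rw [hψ1val, hn]⟩
    rintro rfl
    exact irr_one_ne_zero θ (by rw [hn]; simp)
  exact isIrrCharacter_of_int_inner hψcf hint hnorm hpos

/-- **Frobenius' theorem.** -/
theorem frobenius_kernel [Finite G] (H : Subgroup G) (hH : Cfsg.IsFrobeniusComplement H) :
    ∃ N : Subgroup G, (N : Set G) = Cfsg.frobeniusKernel H ∧ N.Normal ∧
      Subgroup.IsComplement' N H := by
  classical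
  haveI : Fintype G := Fintype.ofFinite G
  have hex : ∀ θ : IrrCharacter H, ∃ (n : ℕ) (ρ : Representation ℂ G (Fin n → ℂ)),
      ρ.character = frobExt H (θ : H → ℂ) := by
    intro θ
    obtain ⟨n, ρ, _, hρ⟩ := frobExt_isIrr H hH θ
    exact ⟨n, ρ, hρ⟩
  choose n ρ hρ using hex
  obtain ⟨N, hN⟩ : ∃ N : Subgroup G, N = ⨅ θ : IrrCharacter H, (ρ θ).ker := ⟨_, rfl⟩
  have hNn : N.Normal := by
    rw [hN]
    exact Subgroup.normal_iInf_normal (fun θ => MonoidHom.normal_ker (ρ θ))
  have hker : ∀ (θ : IrrCharacter H) (g : G), g ∈ (ρ θ).ker ↔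
      frobExt H (θ : H → ℂ) g = frobExt H (θ : H → ℂ) 1 := by
    intro θ g
    rw [MonoidHom.mem_ker, ← hρ θ, Representation.char_one]
    exact (char_eq_finrank_iff (ρ θ) g).symm
  have hψ1val : ∀ θ : IrrCharacter H, frobExt H (θ : H → ℂ) 1 = (θ : H → ℂ) 1 := fun θ => by
    have h0 := frobExt_apply_mem H hH (θ : H → ℂ) (irr_isClassFunction θ) 1 H.one_mem
    exact h0
  have hNmem : ∀ g : G, g ∈ N ↔
      ∀ θ : IrrCharacter H, frobExt H (θ : H → ℂ) g = (θ : H → ℂ) 1 := by
    intro g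
    rw [hN, Subgroup.mem_iInf]
    simp only [hker, hψ1val]
  have hsub1 : ∀ g : G, g ∈ Cfsg.frobeniusKernel H → g ∈ N := by
    intro g hg
    have hg' : g = 1 ∨ ∀ x : G, g ∉ MulAut.conj x • H := hg
    rw [hNmem]
    intro θ
    rcases hg' with rfl | hg'
    · exact hψ1val θ
    · apply frobExt_apply_not_conj
      intro x hx
      exact hg' x ((Cfsg.Agent.Helper1.mem_conj_smul_iff x g H).mpr hx)
  have hNH : ∀ h : G, h ∈ H → h ∈ N → h = 1 := by
    intro h hh hhN
    by_contra h1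
    have h1' : (⟨h, hh⟩ : H) ≠ 1 := fun e => h1 (congrArg Subtype.val e)
    obtain ⟨m, σ, hσ, hσh⟩ := exists_irr_not_mem_ker (⟨h, hh⟩ : H) h1'
    have e1 := (hNmem h).mp hhN ⟨σ.character, m, σ, hσ, rfl⟩
    rw [frobExt_apply_mem H hH _ (irr_isClassFunction _) h hh] at e1
    have e2 : σ.character (⟨h, hh⟩ : H) = σ.character 1 := e1
    rw [Representation.char_one] at e2
    exact hσh ((char_eq_finrank_iff σ _).mp e2)
  have hsub2 : ∀ g : G, g ∈ N → g ∈ Cfsg.frobeniusKernel H := by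
    intro g hgN
    by_contra hg
    obtain ⟨hg1, x, hx⟩ := (Cfsg.Agent.Helper1.not_mem_kernel_iff H g).mp hg
    have hxN : x⁻¹ * g * x ∈ N := by
      have h0 := hNn.conj_mem g hgN x⁻¹
      simpa using h0
    have h2 := hNH _ hx hxN
    apply hg1
    have e : g = x * (x⁻¹ * g * x) * x⁻¹ := by group
    rw [e, h2]; group
  refine ⟨N, Set.ext fun g => ⟨hsub2 g, hsub1 g⟩, hNn, ?_⟩
  apply Subgroup.isComplement'_of_card_mul_and_disjoint
  · have hc : Nat.card N = H.index := by
      rw [← Cfsg.Agent.Helper1.card_kernel H hH]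
      exact Nat.card_congr (Equiv.subtypeEquivRight (fun g => ⟨hsub2 g, hsub1 g⟩))
    rw [hc]; exact H.index_mul_card
  · rw [Subgroup.disjoint_def]
    intro g hgN hgH
    exact hNH g hgH hgN

end Cfsg.Agent.Lead
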