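import Mathlib
import Cfsg.Agent.Lead.FrobConj

/-! Groups in which every centralizer of a noncentral element is a maximal subgroup (lead). -/

set_option autoImplicit false

namespace Cfsg.Agent.Lead.MaxCent

universe u

open Subgroup

theorem memC {H : Type*} [Group H] {x g : H} :
    g ∈ centralizer ({x} : Set H) ↔ g * x = x * g :=
  Subgroup.mem_centralizer_singleton_iff

section basics

variable {G : Type u} [Group G]

theorem pg_pow {H : Subgroup G} {p : ℕ} (hH : IsPGroup p H) {y : G} (hy : y ∈ H) :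
    ∃ k : ℕ, y ^ p ^ k = 1 := by
  obtain ⟨k, hk⟩ := hH ⟨y, hy⟩
  exact ⟨k, by simpa using congrArg Subtype.val hk⟩

theorem prime_eq {p r : ℕ} (hp : p.Prime) (hr : r.Prime) {y : G} (hy : y ≠ 1) {k j : ℕ}
    (h1 : y ^ p ^ k = 1) (h2 : y ^ r ^ j = 1) : p = r := by
  have ho : orderOf y ≠ 1 := fun h => hy (orderOf_eq_one_iff.1 h)
  obtain ⟨q, hq, hqy⟩ := Nat.exists_prime_and_dvd ho
  have e1 : q = p := (Nat.prime_dvd_prime_iff_eq hq hp).1
    (hq.dvd_of_dvd_pow (hqy.trans (orderOf_dvd_of_pow_eq_one h1)))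
  have e2 : q = r := (Nat.prime_dvd_prime_iff_eq hq hr).1
    (hq.dvd_of_dvd_pow (hqy.trans (orderOf_dvd_of_pow_eq_one h2)))
  rw [← e1, ← e2]

theorem F0 (h : ∀ x : G, x ≠ 1 → IsCoatom (centralizer ({x} : Set G))) {x y : G}
    (hx : x ≠ 1) (hy : y ≠ 1)
    (hc : ∀ m ∈ centralizer ({x} : Set G), m * y = y * m) :
    centralizer ({y} : Set G) = centralizer ({x} : Set G) :=
  ((h x hx).le_iff_eq (h y hy).1).1 (fun m hm => memC.2 (hc m hm))

theorem pow_eq_of_coprime [Finite G] {x y : G} (hc : Commute x y) (hx : x ≠ 1)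
    (hcop : (orderOf x).Coprime (orderOf y)) : ∃ k : ℕ, (x * y) ^ k = x := by
  have h1 : 1 < orderOf x := by
    have h0 : 0 < orderOf x := orderOf_pos x
    have h2 : orderOf x ≠ 1 := fun h => hx (orderOf_eq_one_iff.1 h)
    omega
  obtain ⟨m, -, hm⟩ := Nat.exists_mul_mod_eq_one_of_coprime hcop.symm h1
  refine ⟨orderOf y * m, ?_⟩
  rw [hc.mul_pow, pow_mul y, pow_orderOf_eq_one, one_pow, mul_one, ← pow_mod_orderOf, hm, pow_one]

theorem F1 [Finite G] (h : ∀ x : G, x ≠ 1 → IsCoatom (centralizer ({x} : Set G))) {x y : G}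
    (hx : x ≠ 1) (hy : y ≠ 1) (hc : Commute x y) (hcop : (orderOf x).Coprime (orderOf y)) :
    centralizer ({x} : Set G) = centralizer ({y} : Set G) := by
  obtain ⟨k, hk⟩ := pow_eq_of_coprime hc hx hcop
  obtain ⟨l, hl⟩ := pow_eq_of_coprime hc.symm hy hcop.symm
  have hw : x * y ≠ 1 := by
    intro hw; rw [hw, one_pow] at hk; exact hx hk.symm
  have e1 : centralizer ({x} : Set G) = centralizer ({x * y} : Set G) := by
    refine ((h _ hw).le_iff_eq (h x hx).1).1 (fun g hg => ?_)
    rw [memC] at hg ⊢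
    have hg' : Commute g (x * y) := hg
    have := (hg'.pow_right k).eq
    rw [hk] at this
    exact this
  have e2 : centralizer ({y} : Set G) = centralizer ({x * y} : Set G) := by
    refine ((h _ hw).le_iff_eq (h y hy).1).1 (fun g hg => ?_)
    rw [memC] at hg ⊢
    rw [hc.eq] at hg
    have hg' : Commute g (y * x) := hg
    have := (hg'.pow_right l).eq
    rw [hl] at this
    exact this
  rw [e1, e2]

theorem central_of_coprime [Finite G]
    (h : ∀ x : G, x ≠ 1 → IsCoatom (centralizer ({x} : Set G))) {z m : G} (hz : z ≠ 1)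
    (hm : m ∈ centralizer ({z} : Set G)) (hcop : (orderOf m).Coprime (orderOf z)) :
    ∀ g ∈ centralizer ({z} : Set G), g * m = m * g := by
  intro g hg
  by_cases hm1 : m = 1
  · rw [hm1]; simp
  have e := F1 h hm1 hz (memC.1 hm) hcop
  rw [← e] at hg
  exact memC.1 hg

theorem F2 [Finite G] (h : ∀ x : G, x ≠ 1 → IsCoatom (centralizer ({x} : Set G))) {x : G}
    (hx : x ≠ 1) :
    (∀ a ∈ centralizer ({x} : Set G), ∀ b ∈ centralizer ({x} : Set G), a * b = b * a) ∨
    ∃ p : ℕ, p.Prime ∧ IsPGroup p ↥(centralizer ({x} : Set G)) := by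
  have hox : orderOf x ≠ 1 := fun h' => hx (orderOf_eq_one_iff.1 h')
  obtain ⟨p, hp, hpx⟩ := Nat.exists_prime_and_dvd hox
  have hox0 : orderOf x ≠ 0 := (orderOf_pos x).ne'
  obtain ⟨x₀, hx₀⟩ : ∃ x₀ : G, x₀ = x ^ (orderOf x / p) := ⟨_, rfl⟩
  have hx₀o : orderOf x₀ = p := by rw [hx₀]; exact orderOf_pow_orderOf_div hox0 hpx
  have hx₀1 : x₀ ≠ 1 := by
    intro h'; rw [h', orderOf_one] at hx₀o; exact hp.one_lt.ne hx₀o
  have hCx : centralizer ({x₀} : Set G) = centralizer ({x} : Set G) :=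
    F0 h hx hx₀1 (fun m hm => by
      rw [hx₀]; exact ((show Commute m x from memC.1 hm).pow_right _).eq)
  rw [← hCx]
  by_cases hP : IsPGroup p ↥(centralizer ({x₀} : Set G))
  · exact Or.inr ⟨p, hp, hP⟩
  left
  have hex : ∃ g ∈ centralizer ({x₀} : Set G), ∃ r : ℕ, r.Prime ∧ r ≠ p ∧ r ∣ orderOf g := by
    by_contra hcon
    apply hP
    intro g
    have hall : ∀ {d : ℕ}, d.Prime → d ∣ orderOf (g : G) → d = p := by
      intro d hd hdg
      by_contra hne
      exact hcon ⟨g, g.2, d, hd, hne, hdg⟩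
    have hpow := Nat.eq_prime_pow_of_unique_prime_dvd (orderOf_pos (g : G)).ne' hall
    refine ⟨(orderOf (g : G)).primeFactorsList.length, ?_⟩
    have e : (g : G) ^ (p ^ (orderOf (g : G)).primeFactorsList.length) = 1 := by
      rw [← hpow]; exact pow_orderOf_eq_one _
    exact Subtype.ext (by rw [Subgroup.coe_pow]; exact e)
  obtain ⟨g, hg, r, hr, hrp, hrg⟩ := hex
  obtain ⟨y, hy⟩ : ∃ y : G, y = g ^ (orderOf g / r) := ⟨_, rfl⟩
  have hyo : orderOf y = r := by rw [hy]; exact orderOf_pow_orderOf_div (orderOf_pos g).ne' hrg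
  have hy1 : y ≠ 1 := by
    intro h'; rw [h', orderOf_one] at hyo; exact hr.one_lt.ne hyo
  have hyM : y ∈ centralizer ({x₀} : Set G) := by rw [hy]; exact pow_mem hg _
  have hcopy : (orderOf y).Coprime (orderOf x₀) := by
    rw [hyo, hx₀o]; exact (Nat.coprime_primes hr hp).2 hrp
  have hycent := central_of_coprime h hx₀1 hyM hcopy
  have hCy : centralizer ({y} : Set G) = centralizer ({x₀} : Set G) := F0 h hx₀1 hy1 hycent
  have hall : ∀ m ∈ centralizer ({x₀} : Set G), ∀ b ∈ centralizer ({x₀} : Set G),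
      b * m = m * b := by
    intro m hm b hb
    obtain ⟨n, hn⟩ : ∃ n : ℕ, n = orderOf m := ⟨_, rfl⟩
    have hn0 : n ≠ 0 := by rw [hn]; exact (orderOf_pos m).ne'
    have hmn : m ^ n = 1 := by rw [hn]; exact pow_orderOf_eq_one m
    have hcopAB : Nat.Coprime p (n / p ^ n.factorization p) := Nat.coprime_ordCompl hp hn0
    have hdvdA : p ^ n.factorization p ∣ n := Nat.ordProj_dvd n p
    obtain ⟨A, hA⟩ : ∃ A : ℕ, A = p ^ n.factorization p := ⟨_, rfl⟩
    rw [← hA] at hcopAB hdvdA
    obtain ⟨B, hB⟩ : ∃ B : ℕ, B = n / A := ⟨_, rfl⟩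
    rw [← hB] at hcopAB
    have hAB : A * B = n := by rw [hB]; exact Nat.mul_div_cancel' hdvdA
    have h1 : b * m ^ A = m ^ A * b := by
      refine central_of_coprime h hx₀1 (pow_mem hm _) ?_ b hb
      rw [hx₀o]
      have hd : orderOf (m ^ A) ∣ B := by
        apply orderOf_dvd_of_pow_eq_one
        rw [← pow_mul, hAB, hmn]
      exact Nat.Coprime.coprime_dvd_left hd hcopAB.symm
    have h2 : b * m ^ B = m ^ B * b := by
      have hb' : b ∈ centralizer ({y} : Set G) := by rw [hCy]; exact hb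
      refine central_of_coprime h hy1 (by rw [hCy]; exact pow_mem hm _) ?_ b hb'
      rw [hyo]
      have hd : orderOf (m ^ B) ∣ A := by
        apply orderOf_dvd_of_pow_eq_one
        rw [← pow_mul, mul_comm, hAB, hmn]
      refine Nat.Coprime.coprime_dvd_left hd ?_
      rw [hA]
      exact Nat.Coprime.pow_left _ ((Nat.coprime_primes hp hr).2 (Ne.symm hrp))
    have hcop : Nat.Coprime A B := by rw [hA]; exact Nat.Coprime.pow_left _ hcopAB
    have hbez := Nat.gcd_eq_gcd_ab A B
    rw [hcop.gcd_eq_one] at hbez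
    have hm_eq : m = (m ^ A) ^ (Nat.gcdA A B) * (m ^ B) ^ (Nat.gcdB A B) := by
      have e : (m ^ A) ^ (Nat.gcdA A B) * (m ^ B) ^ (Nat.gcdB A B) =
          m ^ ((A : ℤ) * Nat.gcdA A B + (B : ℤ) * Nat.gcdB A B) := by
        rw [zpow_add, zpow_mul, zpow_mul, zpow_natCast, zpow_natCast]
      rw [e, ← hbez]; simp
    rw [hm_eq]
    exact (((show Commute b (m ^ A) from h1).zpow_right _).mul_right
      ((show Commute b (m ^ B) from h2).zpow_right _)).eq
  exact fun a ha b hb => hall b hb a ha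

theorem no_pgroup [Finite G] [Nontrivial G]
    (h : ∀ x : G, x ≠ 1 → IsCoatom (centralizer ({x} : Set G))) {p : ℕ} (hp : p.Prime)
    (hP : ∀ g : G, ∃ k : ℕ, g ^ p ^ k = 1) : False := by
  haveI : Fact p.Prime := ⟨hp⟩
  have hP' : IsPGroup p G := hP
  haveI := hP'.center_nontrivial
  obtain ⟨z, hz⟩ := exists_ne (1 : center G)
  have hz1 : (z : G) ≠ 1 := fun h' => hz (Subtype.ext h')
  apply (h z hz1).1
  rw [eq_top_iff]
  intro g _
  rw [memC]
  exact Subgroup.mem_center_iff.1 z.2 g

end basics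

section counting

theorem sum_inv_sq (m : ℕ) :
    ∑ j ∈ Finset.Ico 2 (m + 2), (1 / (j : ℚ) ^ 2) ≤ 1 - 1 / ((m : ℚ) + 1) := by
  induction m with
  | zero => simp
  | succ m ih =>
    have e0 : m + 1 + 2 = (m + 2) + 1 := by omega
    rw [e0, Finset.sum_Ico_succ_top (by omega : 2 ≤ m + 2)]
    have hm : (0 : ℚ) ≤ m := Nat.cast_nonneg m
    have h1 : (1 : ℚ) / (((m + 2 : ℕ) : ℚ)) ^ 2 ≤ 1 / ((m : ℚ) + 1) - 1 / ((m : ℚ) + 2) := by
      push_cast
      rw [div_sub_div _ _ (by positivity) (by positivity),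
        div_le_div_iff₀ (by positivity) (by positivity)]
      nlinarith
    have e : (((m + 1 : ℕ) : ℚ)) + 1 = (m : ℚ) + 2 := by push_cast; ring
    rw [e]; linarith

theorem arith (n : ℕ) (hn : 1 < n) (c : ℕ → ℕ)
    (hc : ∀ p ∈ n.primeFactors, p ^ 2 * (c p + 1) ≤ n) :
    ∑ p ∈ n.primeFactors, c p + 1 < n := by
  have hne : n.primeFactors.Nonempty := Nat.nonempty_primeFactors.2 hn
  have hn0 : (0 : ℚ) < n := by exact_mod_cast (by omega : 0 < n)
  have h1 : ∀ p ∈ n.primeFactors, ((c p : ℚ) + 1) ≤ n * (1 / (p : ℚ) ^ 2) := by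
    intro p hp
    have hpp : (0 : ℚ) < (p : ℚ) ^ 2 := by
      have := (Nat.prime_of_mem_primeFactors hp).pos
      positivity
    rw [mul_one_div, le_div_iff₀ hpp]
    have h' : ((p ^ 2 * (c p + 1) : ℕ) : ℚ) ≤ n := by exact_mod_cast hc p hp
    push_cast at h'
    calc ((c p : ℚ) + 1) * (p : ℚ) ^ 2 = (p : ℚ) ^ 2 * ((c p : ℚ) + 1) := by ring
      _ ≤ (n : ℚ) := h'
  have h2 : ∑ p ∈ n.primeFactors, (1 / (p : ℚ) ^ 2) ≤
      ∑ j ∈ Finset.Ico 2 (n + 1), (1 / (j : ℚ) ^ 2) := by
    apply Finset.sum_le_sum_of_subset_of_nonneg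
    · intro p hp
      rw [Finset.mem_Ico]
      have hpr := Nat.prime_of_mem_primeFactors hp
      exact ⟨hpr.two_le, Nat.lt_succ_of_le (Nat.le_of_dvd (by omega) (Nat.dvd_of_mem_primeFactors hp))⟩
    · intro j _ _; positivity
  have h3 : ∑ j ∈ Finset.Ico 2 (n + 1), (1 / (j : ℚ) ^ 2) ≤ 1 - 1 / (n : ℚ) := by
    have h0 := sum_inv_sq (n - 1)
    have e : n - 1 + 2 = n + 1 := by omega
    rw [e] at h0
    have e2 : ((n - 1 : ℕ) : ℚ) + 1 = n := by
      have : ((n - 1 + 1 : ℕ) : ℚ) = n := by congr 1; omega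
      push_cast at this; exact this
    rw [e2] at h0; exact h0
  have h4 : (∑ p ∈ n.primeFactors, ((c p : ℚ) + 1)) ≤ n - 1 := by
    calc (∑ p ∈ n.primeFactors, ((c p : ℚ) + 1))
        ≤ ∑ p ∈ n.primeFactors, (n : ℚ) * (1 / (p : ℚ) ^ 2) := Finset.sum_le_sum h1
      _ = n * ∑ p ∈ n.primeFactors, (1 / (p : ℚ) ^ 2) := by rw [Finset.mul_sum]
      _ ≤ n * (1 - 1 / n) := mul_le_mul_of_nonneg_left (h2.trans h3) hn0.le
      _ = n - 1 := by field_simp
  have h5 : (∑ p ∈ n.primeFactors, ((c p : ℚ) + 1)) =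
      (∑ p ∈ n.primeFactors, (c p : ℚ)) + n.primeFactors.card := by
    rw [Finset.sum_add_distrib]; simp
  have h6 : (1 : ℚ) ≤ n.primeFactors.card := by exact_mod_cast hne.card_pos
  have h7 : ((∑ p ∈ n.primeFactors, c p : ℕ) : ℚ) + 1 < n := by push_cast; linarith
  exact_mod_cast h7

theorem card_sdiff_one {P : Type u} [Group P] [Finite P] (H : Subgroup P) :
    Nat.card ↥((H : Set P) \ {1}) + 1 = Nat.card H := by
  rw [Nat.card_coe_set_eq, Set.ncard_sdiff_singleton_add_one H.one_mem (Set.toFinite _)]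
  exact (Nat.card_coe_set_eq (H : Set P)).symm

theorem center_bound {P : Type u} [Group P] [Finite P] {p : ℕ} (hp : p.Prime)
    (hP : IsPGroup p P) (hnc : ∃ a b : P, a * b ≠ b * a) :
    p ^ 2 * Nat.card (center P) ≤ Nat.card P := by
  haveI : Fact p.Prime := ⟨hp⟩
  obtain ⟨k, hk⟩ := IsPGroup.iff_card.1 hP
  have hmul := Subgroup.card_mul_index (center P)
  have hdvd : (center P).index ∣ p ^ k := hk ▸ Subgroup.index_dvd_card _
  obtain ⟨j, hjk, hj⟩ := (Nat.dvd_prime_pow hp).1 hdvd
  have h2 : 2 ≤ j := by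
    by_contra hlt
    obtain ⟨a, b, hab⟩ := hnc
    apply hab
    have hj01 : j = 0 ∨ j = 1 := by omega
    rcases hj01 with rfl | rfl
    · have htop : center P = ⊤ := Subgroup.index_eq_one.1 (by simpa using hj)
      have ha : a ∈ center P := by rw [htop]; exact mem_top a
      exact (Subgroup.mem_center_iff.1 ha b).symm
    · have hcard : Nat.card (P ⧸ center P) = p := by
        rw [← Subgroup.index_eq_card]; simpa using hj
      haveI : IsCyclic (P ⧸ center P) := isCyclic_of_prime_card hcard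
      exact commutative_of_cyclic_center_quotient (QuotientGroup.mk' (center P)) (by simp) a b
  calc p ^ 2 * Nat.card (center P) ≤ p ^ j * Nat.card (center P) :=
        Nat.mul_le_mul_right _ (Nat.pow_le_pow_right hp.pos h2)
    _ = Nat.card P := by rw [← hj, mul_comm, hmul]

variable {G : Type u} [Group G]

/-- nonidentity central elements of a subgroup, as a type. -/
abbrev Fib (S : Subgroup G) : Type u := ↥(((center ↥S : Subgroup ↥S) : Set ↥S) \ {1})

/-- pairs (Sylow subgroup, nonidentity central element). -/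
abbrev Tot (G : Type u) [Group G] (p : ℕ) : Type u := Σ S : Sylow p G, Fib (S : Subgroup G)

theorem prime_bound [Finite G] [Nontrivial G]
    (h : ∀ x : G, x ≠ 1 → IsCoatom (centralizer ({x} : Set G)))
    (hnn : ∀ x : G, x ≠ 1 → ¬ (centralizer ({x} : Set G)).Normal)
    (hna : ∀ x : G, x ≠ 1 →
      ¬ ∀ a ∈ centralizer ({x} : Set G), ∀ b ∈ centralizer ({x} : Set G), a * b = b * a)
    (hpg : ∀ x : G, x ≠ 1 → ∃ p : ℕ, p.Prime ∧ IsPGroup p ↥(centralizer ({x} : Set G)))
    {p : ℕ} (hp : p.Prime) (hdvd : p ∣ Nat.card G) :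
    p ^ 2 * (Nat.card (Tot G p) + 1) ≤ Nat.card G := by
  haveI : Fact p.Prime := ⟨hp⟩
  haveI : Finite (Sylow p G) := inferInstance
  haveI : Fintype (Sylow p G) := Fintype.ofFinite _
  have hS : ∀ S : Sylow p G, ∃ y : G, y ≠ 1 ∧ (S : Subgroup G) = centralizer ({y} : Set G) := by
    intro S
    haveI : Nontrivial ↥(S : Subgroup G) :=
      (Subgroup.nontrivial_iff_ne_bot _).2 (S.ne_bot_of_dvd_card hdvd)
    haveI := S.isPGroup'.center_nontrivial
    obtain ⟨y, hy⟩ := exists_ne (1 : center ↥(S : Subgroup G))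
    have hy1 : ((y : ↥(S : Subgroup G)) : G) ≠ 1 := fun h' => hy (Subtype.ext (Subtype.ext h'))
    have hle : (S : Subgroup G) ≤ centralizer ({((y : ↥(S : Subgroup G)) : G)} : Set G) := by
      intro s hs
      rw [memC]
      have := Subgroup.mem_center_iff.1 y.2 ⟨s, hs⟩
      exact congrArg Subtype.val this
    obtain ⟨q, hq, hQ⟩ := hpg _ hy1
    obtain ⟨k, hk⟩ := pg_pow S.isPGroup' (y : ↥(S : Subgroup G)).2
    obtain ⟨j, hj⟩ := pg_pow hQ
      (memC.2 rfl : ((y : ↥(S : Subgroup G)) : G) ∈ centralizer ({((y : ↥(S : Subgroup G)) : G)} : Set G))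
    have hpq : p = q := prime_eq hp hq hy1 hk hj
    subst hpq
    exact ⟨_, hy1, (S.is_maximal' hQ hle).symm⟩
  have hnorm : ∀ S : Sylow p G, normalizer ((S : Subgroup G) : Set G) = (S : Subgroup G) := by
    intro S
    obtain ⟨y, hy1, hSy⟩ := hS S
    rw [hSy]
    rcases (h y hy1).le_iff.1 Subgroup.le_normalizer with h1 | h1
    · exact absurd (Subgroup.normalizer_eq_top_iff.1 h1) (hnn y hy1)
    · exact h1
  have hcb : ∀ S : Sylow p G,
      p ^ 2 * (Nat.card (Fib (S : Subgroup G)) + 1) ≤ p ^ (Nat.card G).factorization p := by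
    intro S
    obtain ⟨y, hy1, hSy⟩ := hS S
    rw [card_sdiff_one, ← S.card_eq_multiplicity]
    apply center_bound hp S.isPGroup'
    by_contra hcon
    apply hna y hy1
    intro a ha b hb
    rw [← hSy] at ha hb
    by_contra hab
    exact hcon ⟨⟨a, ha⟩, ⟨b, hb⟩, fun e => hab (congrArg Subtype.val e)⟩
  have hcount : Fintype.card (Sylow p G) * p ^ (Nat.card G).factorization p = Nat.card G := by
    obtain ⟨S⟩ : Nonempty (Sylow p G) := inferInstance
    have e' : Nat.card (Sylow p G) = (normalizer ((S : Subgroup G) : Set G)).index :=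
      S.card_eq_index_normalizer
    rw [← Nat.card_eq_fintype_card, e', hnorm S, ← S.card_eq_multiplicity]
    exact Subgroup.index_mul_card _
  have hT : Nat.card (Tot G p) = ∑ S : Sylow p G, Nat.card (Fib (S : Subgroup G)) :=
    Nat.card_sigma
  calc p ^ 2 * (Nat.card (Tot G p) + 1)
      ≤ ∑ S : Sylow p G, p ^ 2 * (Nat.card (Fib (S : Subgroup G)) + 1) := by
        rw [hT, ← Finset.mul_sum, Finset.sum_add_distrib]
        apply Nat.mul_le_mul_left
        apply Nat.add_le_add_left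
        rw [Finset.sum_const, Finset.card_univ, smul_eq_mul, mul_one]
        exact Fintype.card_pos
    _ ≤ ∑ _S : Sylow p G, p ^ (Nat.card G).factorization p :=
        Finset.sum_le_sum (fun S _ => hcb S)
    _ = Nat.card G := by rw [Finset.sum_const, Finset.card_univ, smul_eq_mul, hcount]

theorem count_false [Finite G] [Nontrivial G]
    (h : ∀ x : G, x ≠ 1 → IsCoatom (centralizer ({x} : Set G)))
    (hnn : ∀ x : G, x ≠ 1 → ¬ (centralizer ({x} : Set G)).Normal)
    (hna : ∀ x : G, x ≠ 1 →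
      ¬ ∀ a ∈ centralizer ({x} : Set G), ∀ b ∈ centralizer ({x} : Set G), a * b = b * a)
    (hpg : ∀ x : G, x ≠ 1 → ∃ p : ℕ, p.Prime ∧ IsPGroup p ↥(centralizer ({x} : Set G))) :
    False := by
  have hn1 : 1 < Nat.card G := Finite.one_lt_card
  have hex : ∀ x : ↥(((⊤ : Subgroup G) : Set G) \ {1}),
      ∃ t : (Σ p : ↥(Nat.card G).primeFactors, Tot G p.1), (t.2.2.1.1 : G) = x.1 := by
    rintro ⟨x, -, hx⟩
    have hx1 : x ≠ 1 := hx
    obtain ⟨p, hp, hP⟩ := hpg x hx1
    obtain ⟨S, hS⟩ := hP.exists_le_sylow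
    have hSx : (S : Subgroup G) = centralizer ({x} : Set G) := by
      rcases (h x hx1).le_iff.1 hS with h1 | h1
      · exfalso
        exact no_pgroup h hp (fun g => pg_pow S.isPGroup' (by rw [h1]; exact mem_top g))
      · exact h1
    have hxS : x ∈ (S : Subgroup G) := by rw [hSx]; exact memC.2 rfl
    have hpdvd : p ∣ Nat.card G := by
      obtain ⟨k, hk⟩ := pg_pow S.isPGroup' hxS
      have hd : orderOf x ∣ p ^ k := orderOf_dvd_of_pow_eq_one hk
      obtain ⟨j, -, hj⟩ := (Nat.dvd_prime_pow hp).1 hd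
      have hj0 : j ≠ 0 := by
        rintro rfl
        rw [pow_zero] at hj
        exact hx1 (orderOf_eq_one_iff.1 hj)
      have hpo : p ∣ orderOf x := by rw [hj]; exact dvd_pow_self p hj0
      exact hpo.trans (orderOf_dvd_natCard x)
    have hpPF : p ∈ (Nat.card G).primeFactors :=
      Nat.mem_primeFactors.2 ⟨hp, hpdvd, Nat.card_pos.ne'⟩
    have hcen : (⟨x, hxS⟩ : ↥(S : Subgroup G)) ∈ center ↥(S : Subgroup G) := by
      rw [Subgroup.mem_center_iff]
      intro g
      apply Subtype.ext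
      have hg : (g : G) ∈ centralizer ({x} : Set G) := by rw [← hSx]; exact g.2
      exact memC.1 hg
    exact ⟨⟨⟨p, hpPF⟩, ⟨S, ⟨⟨x, hxS⟩,
      ⟨hcen, fun e => hx1 (congrArg Subtype.val (Set.mem_singleton_iff.1 e))⟩⟩⟩⟩, rfl⟩
  choose f hf using hex
  have hinj : Function.Injective f := by
    intro a b hab
    have e := congrArg
      (fun t : (Σ p : ↥(Nat.card G).primeFactors, Tot G p.1) => (t.2.2.1.1 : G)) hab
    exact Subtype.ext ((hf a).symm.trans (e.trans (hf b)))
  have hle := Nat.card_le_card_of_injective f hinj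
  have hD : Nat.card ↥(((⊤ : Subgroup G) : Set G) \ {1}) + 1 = Nat.card G := by
    rw [card_sdiff_one, Subgroup.card_top]
  have hsig : Nat.card (Σ p : ↥(Nat.card G).primeFactors, Tot G p.1) =
      ∑ p ∈ (Nat.card G).primeFactors, Nat.card (Tot G p) := by
    rw [Nat.card_sigma]
    exact Finset.sum_coe_sort (Nat.card G).primeFactors (fun p => Nat.card (Tot G p))
  have harith : ∑ p ∈ (Nat.card G).primeFactors, Nat.card (Tot G p) + 1 < Nat.card G :=
    arith (Nat.card G) hn1 (fun p => Nat.card (Tot G p)) (fun p hp =>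
      prime_bound h hnn hna hpg (Nat.prime_of_mem_primeFactors hp)
        (Nat.dvd_of_mem_primeFactors hp))
  rw [hsig] at hle
  omega

end counting

section struct

variable {G : Type u} [Group G]

/-- If some centralizer is abelian and normal, then another one is abelian and not normal. -/
theorem abelian_normal_false [Finite G]
    (h : ∀ x : G, x ≠ 1 → IsCoatom (centralizer ({x} : Set G))) {x : G} (hx : x ≠ 1)
    (hab : ∀ a ∈ centralizer ({x} : Set G), ∀ b ∈ centralizer ({x} : Set G), a * b = b * a)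
    (hM : (centralizer ({x} : Set G)).Normal) :
    ∃ g : G, g ≠ 1 ∧
      (∀ a ∈ centralizer ({g} : Set G), ∀ b ∈ centralizer ({g} : Set G), a * b = b * a) ∧
      ¬ (centralizer ({g} : Set G)).Normal := by
  have hxM : x ∈ centralizer ({x} : Set G) := memC.2 rfl
  obtain ⟨g, hgM⟩ : ∃ g : G, g ∉ centralizer ({x} : Set G) := by
    by_contra hcon
    apply (h x hx).1
    rw [eq_top_iff]
    intro g _
    by_contra hg
    exact hcon ⟨g, hg⟩
  have hg1 : g ≠ 1 := by
    rintro rfl
    exact hgM (one_mem _)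
  have hCm : ∀ m ∈ centralizer ({x} : Set G), m ≠ 1 →
      centralizer ({m} : Set G) = centralizer ({x} : Set G) :=
    fun m hm hm1 => F0 h hx hm1 (fun c hc => hab c hc m hm)
  have hdisj : ∀ m ∈ centralizer ({x} : Set G), m ∈ centralizer ({g} : Set G) → m = 1 := by
    intro m hm hmg
    by_contra hm1
    apply hgM
    rw [← hCm m hm hm1, memC]
    exact (memC.1 hmg).symm
  have hsup : zpowers g ⊔ centralizer ({x} : Set G) = ⊤ := by
    rcases (h x hx).le_iff.1 (le_sup_right : centralizer ({x} : Set G) ≤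
      zpowers g ⊔ centralizer ({x} : Set G)) with h1 | h1
    · exact h1
    · exfalso
      apply hgM
      rw [← h1]
      exact Subgroup.mem_sup_left (Subgroup.mem_zpowers g)
  have hquot : ∀ a b : G, a * b * a⁻¹ * b⁻¹ ∈ centralizer ({x} : Set G) := by
    intro a b
    obtain ⟨a₁, ha₁, n₁, hn₁, rfl⟩ :=
      (Cfsg.Agent.S0001.mem_sup_normal (zpowers g) (centralizer ({x} : Set G)) a).1
        (by rw [hsup]; exact mem_top a)
    obtain ⟨b₁, hb₁, n₂, hn₂, rfl⟩ :=
      (Cfsg.Agent.S0001.mem_sup_normal (zpowers g) (centralizer ({x} : Set G)) b).1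
        (by rw [hsup]; exact mem_top b)
    obtain ⟨i, rfl⟩ := Subgroup.mem_zpowers_iff.1 ha₁
    obtain ⟨j, rfl⟩ := Subgroup.mem_zpowers_iff.1 hb₁
    rw [← QuotientGroup.eq_one_iff]
    have e1 : ((n₁ : G) : G ⧸ centralizer ({x} : Set G)) = 1 := (QuotientGroup.eq_one_iff n₁).2 hn₁
    have e2 : ((n₂ : G) : G ⧸ centralizer ({x} : Set G)) = 1 := (QuotientGroup.eq_one_iff n₂).2 hn₂
    simp only [QuotientGroup.mk_mul, QuotientGroup.mk_inv, QuotientGroup.mk_zpow, e1, e2, mul_one]
    have hc : ((g : G) : G ⧸ centralizer ({x} : Set G)) ^ i *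
        ((g : G) : G ⧸ centralizer ({x} : Set G)) ^ j =
        ((g : G) : G ⧸ centralizer ({x} : Set G)) ^ j *
        ((g : G) : G ⧸ centralizer ({x} : Set G)) ^ i := (Commute.zpow_zpow_self _ i j).eq
    rw [hc]; group
  refine ⟨g, hg1, ?_, ?_⟩
  · intro a ha b hb
    have hm := hdisj _ (hquot a b) (mul_mem (mul_mem (mul_mem ha hb) (inv_mem ha)) (inv_mem hb))
    calc a * b = (a * b * a⁻¹ * b⁻¹) * (b * a) := by group
      _ = b * a := by rw [hm, one_mul]
  · intro hnC
    have hgg : g ∈ centralizer ({g} : Set G) := memC.2 rfl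
    have m1 : x * g * x⁻¹ * g⁻¹ ∈ centralizer ({x} : Set G) := by
      have h0 := hM.conj_mem x⁻¹ (inv_mem hxM) g
      have h1 := mul_mem hxM h0
      have e : x * g * x⁻¹ * g⁻¹ = x * (g * x⁻¹ * g⁻¹) := by group
      rw [e]; exact h1
    have m2 : x * g * x⁻¹ * g⁻¹ ∈ centralizer ({g} : Set G) :=
      mul_mem (hnC.conj_mem g hgg x) (inv_mem hgg)
    have e := hdisj _ m1 m2
    apply hgM
    rw [memC]
    calc g * x = (x * g * x⁻¹ * g⁻¹)⁻¹ * (x * g) := by group
      _ = x * g := by rw [e, inv_one, one_mul]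

/-- A centerless group with all centralizers maximal has an abelian non-normal centralizer. -/
theorem exists_abelian [Finite G] [Nontrivial G]
    (h : ∀ x : G, x ≠ 1 → IsCoatom (centralizer ({x} : Set G))) :
    ∃ x : G, x ≠ 1 ∧
      (∀ a ∈ centralizer ({x} : Set G), ∀ b ∈ centralizer ({x} : Set G), a * b = b * a) ∧
      ¬ (centralizer ({x} : Set G)).Normal := by
  by_contra hcon
  have hcon' : ∀ x : G, x ≠ 1 →
      (∀ a ∈ centralizer ({x} : Set G), ∀ b ∈ centralizer ({x} : Set G), a * b = b * a) →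
      (centralizer ({x} : Set G)).Normal := by
    intro x hx hab
    by_contra hn
    exact hcon ⟨x, hx, hab, hn⟩
  have hna : ∀ x : G, x ≠ 1 →
      ¬ ∀ a ∈ centralizer ({x} : Set G), ∀ b ∈ centralizer ({x} : Set G), a * b = b * a := by
    intro x hx hab
    exact hcon (abelian_normal_false h hx hab (hcon' x hx hab))
  have hpg : ∀ x : G, x ≠ 1 → ∃ p : ℕ, p.Prime ∧ IsPGroup p ↥(centralizer ({x} : Set G)) :=
    fun x hx => (F2 h hx).resolve_left (hna x hx)
  have hnn : ∀ x : G, x ≠ 1 → ¬ (centralizer ({x} : Set G)).Normal := by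
    intro x hx hM
    have hnab := hna x hx
    obtain ⟨y, hyM, b, hbM, hyb⟩ : ∃ a ∈ centralizer ({x} : Set G),
        ∃ b ∈ centralizer ({x} : Set G), a * b ≠ b * a := by
      by_contra hc
      apply hnab
      intro a ha b hb
      by_contra hne
      exact hc ⟨a, ha, b, hb, hne⟩
    have hy1 : y ≠ 1 := by
      rintro rfl
      exact hyb (by simp)
    obtain ⟨p, hp, hP⟩ := hpg x hx
    obtain ⟨r, hr, hR⟩ := hpg y hy1
    obtain ⟨k, hk⟩ := pg_pow hP hyM
    obtain ⟨j, hj⟩ := pg_pow hR (memC.2 rfl : y ∈ centralizer ({y} : Set G))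
    have hpr : p = r := prime_eq hp hr hy1 hk hj
    subst hpr
    have hne : centralizer ({y} : Set G) ≠ centralizer ({x} : Set G) := by
      intro he
      apply hyb
      have hb' : b ∈ centralizer ({y} : Set G) := by rw [he]; exact hbM
      exact (memC.1 hb').symm
    have hsup : centralizer ({y} : Set G) ⊔ centralizer ({x} : Set G) = ⊤ := by
      rcases (h x hx).le_iff.1 (le_sup_right : centralizer ({x} : Set G) ≤
        centralizer ({y} : Set G) ⊔ centralizer ({x} : Set G)) with h1 | h1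
      · exact h1
      · exfalso
        have hle : centralizer ({y} : Set G) ≤ centralizer ({x} : Set G) := by
          rw [← h1]; exact le_sup_left
        exact hne (((h y hy1).le_iff_eq (h x hx).1).1 hle).symm
    haveI := hM
    have hPsup : IsPGroup p ↥(centralizer ({y} : Set G) ⊔ centralizer ({x} : Set G)) :=
      IsPGroup.to_sup_of_normal_right hR hP
    exact no_pgroup h hp (fun g => pg_pow hPsup (by rw [hsup]; exact mem_top g))
  exact count_false h hnn hna hpg

/-- The Frobenius structure coming from an abelian non-normal centralizer. -/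
theorem abelian_case [Finite G]
    (h : ∀ x : G, x ≠ 1 → IsCoatom (centralizer ({x} : Set G))) {x : G} (hx : x ≠ 1)
    (hab : ∀ a ∈ centralizer ({x} : Set G), ∀ b ∈ centralizer ({x} : Set G), a * b = b * a)
    (hnn : ¬ (centralizer ({x} : Set G)).Normal) :
    ∃ N : Subgroup G, Cfsg.Agent.Lead.FrobData (centralizer ({x} : Set G)) N ∧
      (∀ k ∈ N, k ≠ 1 → centralizer ({k} : Set G) = N) ∧
      (∀ a ∈ N, ∀ b ∈ N, a * b = b * a) := by
  have hxA : x ∈ centralizer ({x} : Set G) := memC.2 rfl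
  have hCa : ∀ a ∈ centralizer ({x} : Set G), a ≠ 1 →
      centralizer ({a} : Set G) = centralizer ({x} : Set G) :=
    fun a ha ha1 => F0 h hx ha1 (fun c hc => hab c hc a ha)
  have hnorm : normalizer ((centralizer ({x} : Set G) : Subgroup G) : Set G) =
      centralizer ({x} : Set G) := by
    rcases (h x hx).le_iff.1 Subgroup.le_normalizer with h1 | h1
    · exact absurd (Subgroup.normalizer_eq_top_iff.1 h1) hnn
    · exact h1
  have hfrob : Cfsg.IsFrobeniusComplement (centralizer ({x} : Set G)) := by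
    refine ⟨?_, (h x hx).1, ?_⟩
    · intro hbot
      rw [hbot, Subgroup.mem_bot] at hxA
      exact hx hxA
    · intro g hg
      rw [Subgroup.eq_bot_iff_forall]
      intro a ha
      obtain ⟨ha1, ha2⟩ := Subgroup.mem_inf.1 ha
      rw [Cfsg.Agent.Helper1.mem_conj_smul_iff] at ha2
      by_contra ha_ne
      apply hg
      have ha'_ne : g⁻¹ * a * g ≠ 1 := by
        intro e
        apply ha_ne
        calc a = g * (g⁻¹ * a * g) * g⁻¹ := by group
          _ = 1 := by rw [e]; group
      rw [← hnorm, Subgroup.mem_set_normalizer_iff]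
      intro n
      constructor
      · intro hn
        have e := hab n hn _ ha2
        show g * n * g⁻¹ ∈ centralizer ({x} : Set G)
        rw [← hCa a ha1 ha_ne, memC]
        calc g * n * g⁻¹ * a = g * (n * (g⁻¹ * a * g)) * g⁻¹ := by group
          _ = g * ((g⁻¹ * a * g) * n) * g⁻¹ := by rw [e]
          _ = a * (g * n * g⁻¹) := by group
      · intro hn
        have hn' : g * n * g⁻¹ ∈ centralizer ({x} : Set G) := hn
        have e := hab _ hn' a ha1
        show n ∈ centralizer ({x} : Set G)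
        rw [← hCa _ ha2 ha'_ne, memC]
        calc n * (g⁻¹ * a * g) = g⁻¹ * (g * n * g⁻¹ * a) * g := by group
          _ = g⁻¹ * (a * (g * n * g⁻¹)) * g := by rw [e]
          _ = g⁻¹ * a * g * n := by group
  obtain ⟨N, d⟩ := Cfsg.Agent.Lead.exists_frobData _ hfrob
  have hNn : N.Normal := d.2.2.1
  have hNtop : N ≠ ⊤ := by
    intro htop
    have hxN : x ∈ N := by rw [htop]; exact mem_top x
    exact hx (d.mem_conj (g := 1) hxN (by simpa using hxA))
  have hCk : ∀ k ∈ N, k ≠ 1 → centralizer ({k} : Set G) = N := by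
    intro k hk hk1
    have hle : centralizer ({k} : Set G) ≤ N := by
      intro c hc
      by_contra hcN
      obtain ⟨hc1, g, hg⟩ := d.not_mem hcN
      have hc'1 : g⁻¹ * c * g ≠ 1 := by
        intro e
        apply hc1
        calc c = g * (g⁻¹ * c * g) * g⁻¹ := by group
          _ = 1 := by rw [e]; group
      have hk' : g⁻¹ * k * g ∈ N := by
        have h0 := hNn.conj_mem k hk g⁻¹
        simpa using h0
      have hcomm : g⁻¹ * k * g * (g⁻¹ * c * g) = g⁻¹ * c * g * (g⁻¹ * k * g) := by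
        have e := memC.1 hc
        calc g⁻¹ * k * g * (g⁻¹ * c * g) = g⁻¹ * (k * c) * g := by group
          _ = g⁻¹ * (c * k) * g := by rw [e]
          _ = g⁻¹ * c * g * (g⁻¹ * k * g) := by group
      have e1 := d.comm hg hc'1 hk' hcomm
      apply hk1
      calc k = g * (g⁻¹ * k * g) * g⁻¹ := by group
        _ = 1 := by rw [e1]; group
    exact (((h k hk1).le_iff_eq hNtop).1 hle).symm
  refine ⟨N, d, hCk, ?_⟩
  intro a ha b hb
  by_cases ha1 : a = 1
  · rw [ha1]; simp
  have hb' : b ∈ centralizer ({a} : Set G) := by rw [hCk a ha ha1]; exact hb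
  exact (memC.1 hb').symm

theorem solvable_of_frob [Finite G] {A N : Subgroup G} (d : Cfsg.Agent.Lead.FrobData A N)
    (hA : ∀ a ∈ A, ∀ b ∈ A, a * b = b * a) (hN : ∀ a ∈ N, ∀ b ∈ N, a * b = b * a) :
    Group.IsSolvable G := by
  haveI := d.2.2.1
  have hsup : A ⊔ N = ⊤ := by rw [sup_comm]; exact d.2.2.2.sup_eq_top
  haveI : Group.IsSolvable N :=
    Group.isSolvable_of_comm (fun a b => Subtype.ext (hN a a.2 b b.2))
  haveI : Group.IsSolvable (G ⧸ N) := by
    apply Group.isSolvable_of_comm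
    intro a b
    obtain ⟨a, rfl⟩ := QuotientGroup.mk_surjective a
    obtain ⟨b, rfl⟩ := QuotientGroup.mk_surjective b
    obtain ⟨a₁, ha₁, n₁, hn₁, rfl⟩ := (Cfsg.Agent.S0001.mem_sup_normal A N a).1
      (by rw [hsup]; exact mem_top a)
    obtain ⟨b₁, hb₁, n₂, hn₂, rfl⟩ := (Cfsg.Agent.S0001.mem_sup_normal A N b).1
      (by rw [hsup]; exact mem_top b)
    have e1 : ((a₁ * n₁ : G) : G ⧸ N) = (a₁ : G ⧸ N) := by
      rw [QuotientGroup.mk_mul, (QuotientGroup.eq_one_iff n₁).2 hn₁, mul_one]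
    have e2 : ((b₁ * n₂ : G) : G ⧸ N) = (b₁ : G ⧸ N) := by
      rw [QuotientGroup.mk_mul, (QuotientGroup.eq_one_iff n₂).2 hn₂, mul_one]
    rw [e1, e2, ← QuotientGroup.mk_mul, ← QuotientGroup.mk_mul, hA a₁ ha₁ b₁ hb₁]
  exact Group.isSolvable_of_ker_le_range N.subtype (QuotientGroup.mk' N) (by simp)

/-- The hypothesis passes to quotients. -/
theorem quot_hyp (N : Subgroup G) [N.Normal]
    (h : ∀ g : G, g ∉ center G → IsCoatom (centralizer ({g} : Set G))) :
    ∀ q : G ⧸ N, q ∉ center (G ⧸ N) → IsCoatom (centralizer ({q} : Set (G ⧸ N))) := by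
  intro q hq
  obtain ⟨x, rfl⟩ := QuotientGroup.mk_surjective q
  have hx : x ∉ center G := by
    intro hx
    apply hq
    rw [Subgroup.mem_center_iff]
    intro q'
    obtain ⟨g, rfl⟩ := QuotientGroup.mk_surjective q'
    rw [← QuotientGroup.mk_mul, ← QuotientGroup.mk_mul, Subgroup.mem_center_iff.1 hx g]
  have hco := h x hx
  refine ⟨?_, ?_⟩
  · intro htop
    apply hq
    rw [Subgroup.mem_center_iff]
    intro q'
    have hq' : q' ∈ centralizer ({(x : G ⧸ N)} : Set (G ⧸ N)) := by rw [htop]; exact mem_top _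
    exact memC.1 hq'
  · intro K hK
    obtain ⟨k, hkK, hk⟩ := SetLike.exists_of_lt hK
    obtain ⟨g, rfl⟩ := QuotientGroup.mk_surjective k
    have hlt : centralizer ({x} : Set G) < K.comap (QuotientGroup.mk' N) := by
      refine lt_of_le_of_ne ?_ ?_
      · intro c hc
        rw [Subgroup.mem_comap]
        apply hK.le
        rw [memC] at hc ⊢
        show ((c : G) : G ⧸ N) * (x : G ⧸ N) = (x : G ⧸ N) * (c : G ⧸ N)
        rw [← QuotientGroup.mk_mul, ← QuotientGroup.mk_mul, hc]
      · intro he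
        apply hk
        have hg : g ∈ centralizer ({x} : Set G) := by rw [he]; exact hkK
        rw [memC] at hg ⊢
        rw [← QuotientGroup.mk_mul, ← QuotientGroup.mk_mul, hg]
    have htop := hco.lt_iff.1 hlt
    rw [eq_top_iff]
    intro q' _
    obtain ⟨g', rfl⟩ := QuotientGroup.mk_surjective q'
    have hg' : g' ∈ K.comap (QuotientGroup.mk' N) := by rw [htop]; exact mem_top _
    exact hg'

theorem main : ∀ (n : ℕ) (G : Type u) [Group G] [Finite G], Nat.card G = n →
    (∀ g : G, g ∉ center G → IsCoatom (centralizer ({g} : Set G))) → Group.IsSolvable G := by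
  intro n
  induction n using Nat.strong_induction_on with
  | _ n ih =>
    intro G _ _ hn h
    by_cases hZ : center G = ⊥
    · rcases subsingleton_or_nontrivial G with hs | hnt
      · infer_instance
      · have h' : ∀ x : G, x ≠ 1 → IsCoatom (centralizer ({x} : Set G)) := by
          intro x hx
          apply h
          rw [hZ, Subgroup.mem_bot]
          exact hx
        obtain ⟨x, hx, hab, hnn⟩ := exists_abelian h'
        obtain ⟨N, d, -, hN⟩ := abelian_case h' hx hab hnn
        exact solvable_of_frob d hab hN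
    · haveI : Group.IsSolvable (center G) := Group.isSolvable_of_comm (fun a b => Subtype.ext (Subgroup.mem_center_iff.1 b.2 a))
      haveI : Group.IsSolvable (G ⧸ center G) := by
        refine ih (Nat.card (G ⧸ center G)) ?_ (G ⧸ center G) rfl (quot_hyp (center G) h)
        rw [← hn, ← Subgroup.index_eq_card, ← Subgroup.card_mul_index (center G)]
        have h1 : 1 < Nat.card (center G) := by
          rw [Finite.one_lt_card_iff_nontrivial, Subgroup.nontrivial_iff_ne_bot]; exact hZ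
        have h2 : 0 < (center G).index := Nat.pos_of_ne_zero Subgroup.index_ne_zero_of_finite
        exact lt_mul_of_one_lt_left h2 h1
      exact Group.isSolvable_of_ker_le_range (center G).subtype (QuotientGroup.mk' (center G))
        (by simp)

end struct

end Cfsg.Agent.Lead.MaxCent
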