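import Mathlib
import Cfsg.Agent.Helper14.PslAdj2

namespace Cfsg.Agent.Lead.PSpRS

theorem two_mul_dvd (k η d : ℕ) (hη : (Odd k ∧ η = k) ∨ (Even k ∧ 2 * η = k)) (hd : k ∣ d)
    (he : Even d) : 2 * η ∣ d := by
  rcases hη with ⟨hodd, rfl⟩ | ⟨_, h2⟩
  · have hc : Nat.Coprime 2 η :=
      (Nat.Prime.coprime_iff_not_dvd Nat.prime_two).mpr hodd.not_two_dvd_nat
    exact Nat.Coprime.mul_dvd_of_dvd_of_dvd hc he.two_dvd hd
  · rw [h2]; exact hd

theorem arith (n dA dB dAB ηk ηl : ℕ) (hAlt : dA < 2 * n) (hBlt : dB < 2 * n)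
    (hABA : dAB ≤ dA) (hABB : dAB ≤ dB) (g1 : 2 * ηk ∣ 2 * n - dA) (g2 : 2 * ηl ∣ 2 * n - dB)
    (g3 : 2 * ηk ∣ dB - dAB) (g4 : 2 * ηl ∣ dA - dAB) (hkl : ηk ≤ ηl) (hn : n < ηk + ηl) :
    dAB = dA ∧ dAB = dB ∧ dB + 2 * ηl = 2 * n ∧ ηk ∣ ηl := by
  have a1 : 2 * ηk ≤ 2 * n - dA := Nat.le_of_dvd (by omega) g1
  have a2 : 2 * ηl ≤ 2 * n - dB := Nat.le_of_dvd (by omega) g2
  have a3 : dA - dAB = 0 := Nat.eq_zero_of_dvd_of_lt g4 (by omega)
  have a4 : dB - dAB = 0 := Nat.eq_zero_of_dvd_of_lt g3 (by omega)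
  have h7 : dAB = dB := by omega
  have h8 : dAB = dA := by omega
  have h12 : 2 * n - dB = 2 * ηl := Nat.eq_of_dvd_of_lt_two_mul (by omega) g2 (by omega)
  refine ⟨h8, h7, by omega, ?_⟩
  have h13 : 2 * n - dA = 2 * ηl := by omega
  rw [h13] at g1
  exact (Nat.mul_dvd_mul_iff_left (by norm_num : 0 < 2)).mp g1

theorem dim_arg {F V : Type*} [Field F] [Fintype F] [AddCommGroup V] [Module F V] [Finite V]
    (r s : ℕ) [Fact r.Prime] [Fact s.Prime] (hrq : ¬ r ∣ Fintype.card F)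
    (hsq : ¬ s ∣ Fintype.card F) (A B : Module.End F V) (hA : A ^ r = 1) (hA1 : A ≠ 1)
    (hB : B ^ s = 1) (hB1 : B ≠ 1) (hAB : A * B = B * A) (n k l ηk ηl : ℕ)
    (hdim : Module.finrank F V = 2 * n) (hk : k = orderOf ((Fintype.card F : ℕ) : ZMod r))
    (hl : l = orderOf ((Fintype.card F : ℕ) : ZMod s))
    (hηk : (Odd k ∧ ηk = k) ∨ (Even k ∧ 2 * ηk = k))
    (hηl : (Odd l ∧ ηl = l) ∨ (Even l ∧ 2 * ηl = l)) (hkl : ηk ≤ ηl) (hn : n < ηk + ηl)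
    (hEA : Even (Module.finrank F ↥(LinearMap.ker (A - 1))))
    (hEB : Even (Module.finrank F ↥(LinearMap.ker (B - 1))))
    (hEAB : Even (Module.finrank F ↥(LinearMap.ker (B - 1) ⊓ LinearMap.ker (A - 1)))) :
    LinearMap.ker (A - 1) = LinearMap.ker (B - 1) ∧
      Module.finrank F ↥(LinearMap.ker (B - 1)) + 2 * ηl = 2 * n ∧ ηk ∣ ηl := by
  classical
  obtain ⟨EA, hEAd⟩ : ∃ EA : Submodule F V, EA = LinearMap.ker (A - 1) := ⟨_, rfl⟩
  obtain ⟨EB, hEBd⟩ : ∃ EB : Submodule F V, EB = LinearMap.ker (B - 1) := ⟨_, rfl⟩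
  rw [← hEAd] at hEA hEAB
  rw [← hEBd] at hEB hEAB
  rw [← hEAd, ← hEBd]
  have hmemA : ∀ v, v ∈ EA ↔ A v = v := fun v => by
    rw [hEAd, LinearMap.mem_ker, LinearMap.sub_apply, sub_eq_zero]
    exact Iff.rfl
  have hmemB : ∀ v, v ∈ EB ↔ B v = v := fun v => by
    rw [hEBd, LinearMap.mem_ker, LinearMap.sub_apply, sub_eq_zero]
    exact Iff.rfl
  have hABv : ∀ v, A (B v) = B (A v) := fun v => congrArg (fun f : Module.End F V => f v) hAB
  have hEAtop : EA ≠ ⊤ := by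
    intro h
    apply hA1
    apply LinearMap.ext
    intro v
    exact (hmemA v).mp (by rw [h]; exact Submodule.mem_top)
  have hEBtop : EB ≠ ⊤ := by
    intro h
    apply hB1
    apply LinearMap.ext
    intro v
    exact (hmemB v).mp (by rw [h]; exact Submodule.mem_top)
  have hdA : Module.finrank F EA < 2 * n := hdim ▸ Submodule.finrank_lt hEAtop
  have hdB : Module.finrank F EB < 2 * n := hdim ▸ Submodule.finrank_lt hEBtop
  have h1 := Cfsg.Agent.Helper14.PslAdj2.fix_dvd r hrq A hA ⊤ (fun _ _ => Submodule.mem_top)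
  rw [top_inf_eq, finrank_top, hdim, ← hEAd, ← hk] at h1
  have h2 := Cfsg.Agent.Helper14.PslAdj2.fix_dvd s hsq B hB ⊤ (fun _ _ => Submodule.mem_top)
  rw [top_inf_eq, finrank_top, hdim, ← hEBd, ← hl] at h2
  have h3 := Cfsg.Agent.Helper14.PslAdj2.fix_dvd r hrq A hA EB (fun w hw => by
    rw [hmemB] at hw ⊢
    rw [← hABv, hw])
  rw [← hEAd, ← hk] at h3
  have h4 := Cfsg.Agent.Helper14.PslAdj2.fix_dvd s hsq B hB EA (fun w hw => by
    rw [hmemA] at hw ⊢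
    rw [hABv, hw])
  rw [← hEBd, ← hl] at h4
  have hcomm : Module.finrank F ↥(EA ⊓ EB) = Module.finrank F ↥(EB ⊓ EA) := by rw [inf_comm]
  rw [hcomm] at h4
  have h5 : Module.finrank F ↥(EB ⊓ EA) ≤ Module.finrank F EB :=
    Submodule.finrank_mono inf_le_left
  have h6 : Module.finrank F ↥(EB ⊓ EA) ≤ Module.finrank F EA :=
    Submodule.finrank_mono inf_le_right
  have ev1 : Even (2 * n - Module.finrank F EA) := by
    obtain ⟨a, ha⟩ := hEA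
    exact ⟨n - a, by omega⟩
  have ev2 : Even (2 * n - Module.finrank F EB) := by
    obtain ⟨a, ha⟩ := hEB
    exact ⟨n - a, by omega⟩
  have ev3 : Even (Module.finrank F EB - Module.finrank F ↥(EB ⊓ EA)) := by
    obtain ⟨a, ha⟩ := hEB
    obtain ⟨b, hb⟩ := hEAB
    exact ⟨a - b, by omega⟩
  have ev4 : Even (Module.finrank F EA - Module.finrank F ↥(EB ⊓ EA)) := by
    obtain ⟨a, ha⟩ := hEA
    obtain ⟨b, hb⟩ := hEAB
    exact ⟨a - b, by omega⟩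
  have g1 := two_mul_dvd k ηk _ hηk h1 ev1
  have g2 := two_mul_dvd l ηl _ hηl h2 ev2
  have g3 := two_mul_dvd k ηk _ hηk h3 ev3
  have g4 := two_mul_dvd l ηl _ hηl h4 ev4
  obtain ⟨h8, h7, h12, h14⟩ := arith n _ _ _ ηk ηl hdA hdB h6 h5 g1 g2 g3 g4 hkl hn
  have h9 : EB ⊓ EA = EB := Submodule.eq_of_le_of_finrank_eq inf_le_left h7
  have h10 : EB ⊓ EA = EA := Submodule.eq_of_le_of_finrank_eq inf_le_right h8
  exact ⟨h10.symm.trans h9, h12, h14⟩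

end Cfsg.Agent.Lead.PSpRS
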