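import Cfsg.Agent.Lead.Coprime
import Cfsg.Agent.Helper16.BaerSuzuki
import Cfsg.Agent.Helper1.Fitting
import Mathlib

/-!
Real elements of odd order (lead): if a Sylow 2-subgroup is not normal then some nontrivial
element of odd order is inverted by an element of the group (Baer--Suzuki in `G / O_2(G)` plus
conjugacy of complements).
-/

set_option autoImplicit false
open Pointwise

namespace Cfsg.Agent.Lead

open Cfsg.Agent.S0001

universe u

theorem commute_sq_of_inv {G : Type*} [Group G] {x y : G} (h : y * x * y⁻¹ = x⁻¹) :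
    Commute (y * y) x := by
  have hsemi : SemiconjBy y x x⁻¹ := by unfold SemiconjBy; rw [← h]; group
  have hsemi' : SemiconjBy y x⁻¹ x := by simpa using hsemi.inv_right
  exact SemiconjBy.mul_left hsemi' hsemi

theorem mem_normalizer_zpowers_of_inv {G : Type*} [Group G] {x y : G} (h : y * x * y⁻¹ = x⁻¹) :
    y ∈ Subgroup.normalizer ((Subgroup.zpowers x : Subgroup G) : Set G) := by
  have h' : y⁻¹ * x * y = x⁻¹ := by
    have hx : x = y⁻¹ * x⁻¹ * y := by rw [← h]; group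
    calc y⁻¹ * x * y = (y⁻¹ * x⁻¹ * y)⁻¹ := by group
      _ = x⁻¹ := by rw [← hx]
  rw [Subgroup.mem_normalizer_iff]
  intro g
  constructor
  · intro hg
    obtain ⟨k, rfl⟩ := Subgroup.mem_zpowers_iff.mp hg
    have e : y * x ^ k * y⁻¹ = (x⁻¹) ^ k := by rw [← h, conj_zpow]
    rw [e]
    exact Subgroup.zpow_mem _ (Subgroup.inv_mem _ (Subgroup.mem_zpowers x)) k
  · intro hg
    obtain ⟨k, hk⟩ := Subgroup.mem_zpowers_iff.mp hg
    have e : g = (x⁻¹) ^ k := by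
      have e1 : g = y⁻¹ * (y * g * y⁻¹) * y := by group
      have e2 := conj_zpow (a := y⁻¹) (b := x) (i := k)
      rw [inv_inv, h'] at e2
      rw [e1, ← hk, e2]
    rw [e]
    exact Subgroup.zpow_mem _ (Subgroup.inv_mem _ (Subgroup.mem_zpowers x)) k

theorem odd_inv_contra {G : Type*} [Group G] {x y : G} (hx1 : x ≠ 1) (hxodd : Odd (orderOf x))
    (h : y * x * y⁻¹ = x⁻¹) (hc : x * y = y * x) : False := by
  have hxx : x = x⁻¹ := by rw [← h, ← hc]; group
  have h2 : x ^ 2 = 1 := by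
    have h3 := mul_inv_cancel x
    rw [← hxx] at h3
    rw [pow_two]; exact h3
  have d : orderOf x ∣ 2 := orderOf_dvd_of_pow_eq_one h2
  have h1 : orderOf x = 1 := Nat.Coprime.eq_one_of_dvd hxodd.coprime_two_right d
  exact hx1 (orderOf_eq_one_iff.mp h1)

/-- If a Sylow 2-subgroup is not normal, some nontrivial odd-order element is inverted. -/
theorem exists_real_odd {G : Type u} [Group G] [Finite G] (P : Sylow 2 G)
    (hP : ¬ (P : Subgroup G).Normal) :
    ∃ x y : G, x ≠ 1 ∧ Odd (orderOf x) ∧ y * x * y⁻¹ = x⁻¹ := by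
  haveI : Fact (Nat.Prime 2) := ⟨Nat.prime_two⟩
  obtain ⟨O, hOdef⟩ : ∃ O : Subgroup G, O = Cfsg.pCore 2 G := ⟨_, rfl⟩
  have hOn : O.Normal := hOdef ▸ Cfsg.Agent.Helper1.pCore_normal 2 G
  have hOp : IsPGroup 2 O := hOdef ▸ Cfsg.Agent.Helper1.pCore_isPGroup 2 G
  haveI := hOn
  have hnle : ¬ (P : Subgroup G) ≤ O := by
    intro hle
    have hOP : O = (P : Subgroup G) := P.is_maximal' hOp hle
    exact hP (hOP ▸ hOn)
  obtain ⟨s, hsP, hsO⟩ := SetLike.not_le_iff_exists.mp hnle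
  obtain ⟨k, hk⟩ := (P.isPGroup' ⟨s, hsP⟩)
  have hk' : s ^ (2 ^ k) = 1 := by
    have h0 := congrArg Subtype.val hk
    simpa using h0
  have hex : ∃ j, s ^ (2 ^ j) ∈ O := ⟨k, by rw [hk']; exact O.one_mem⟩
  classical
  obtain ⟨j, hj1, hjmin⟩ : ∃ j, s ^ (2 ^ j) ∈ O ∧ ∀ i < j, s ^ (2 ^ i) ∉ O :=
    ⟨Nat.find hex, Nat.find_spec hex, fun i hi => Nat.find_min hex hi⟩
  have hj0 : j ≠ 0 := by
    rintro rfl
    simp at hj1
    exact hsO hj1
  obtain ⟨i, rfl⟩ := Nat.exists_eq_succ_of_ne_zero hj0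
  have hi1 : s ^ (2 ^ i) ∉ O := hjmin i (Nat.lt_succ_self i)
  obtain ⟨t, ht⟩ : ∃ t, t = s ^ (2 ^ i) := ⟨_, rfl⟩
  rw [← ht] at hi1
  have htt : t * t ∈ O := by
    have e : t * t = s ^ (2 ^ (i + 1)) := by
      rw [ht, ← pow_add]; congr 1; ring
    rw [e]; exact hj1
  have ha2 : (QuotientGroup.mk t : G ⧸ O) * (QuotientGroup.mk t : G ⧸ O) = 1 := by
    rw [← QuotientGroup.mk_mul]; exact (QuotientGroup.eq_one_iff _).mpr htt
  have hanot : (QuotientGroup.mk t : G ⧸ O) ∉ Cfsg.pCore 2 (G ⧸ O) := by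
    intro hmem
    have hcomapN : ((Cfsg.pCore 2 (G ⧸ O)).comap (QuotientGroup.mk' O)).Normal :=
      (Cfsg.Agent.Helper1.pCore_normal 2 (G ⧸ O)).comap _
    have hcomapP : IsPGroup 2 ((Cfsg.pCore 2 (G ⧸ O)).comap (QuotientGroup.mk' O)) := by
      apply IsPGroup.comap_of_ker_isPGroup (Cfsg.Agent.Helper1.pCore_isPGroup 2 (G ⧸ O))
      rw [QuotientGroup.ker_mk']; exact hOp
    have hle := Cfsg.Agent.Helper1.le_pCore hcomapN hcomapP
    rw [← hOdef] at hle
    exact hi1 (hle (Subgroup.mem_comap.mpr hmem))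
  obtain ⟨xb, m, hxb1, hm, hxbm, hinv⟩ :=
    Cfsg.Agent.Helper16.exists_inverted_of_not_mem_pCore (QuotientGroup.mk t : G ⧸ O) ha2 hanot
  obtain ⟨x, rfl⟩ := QuotientGroup.mk_surjective xb
  obtain ⟨k2, b, hb, hkb⟩ := Nat.exists_eq_two_pow_mul_odd (orderOf_pos x).ne'
  have hzb : (x ^ (2 ^ k2)) ^ b = 1 := by rw [← pow_mul, ← hkb]; exact pow_orderOf_eq_one x
  have hzodd : Odd (orderOf (x ^ (2 ^ k2))) := Odd.of_dvd_nat hb (orderOf_dvd_of_pow_eq_one hzb)
  have hzq1 : (QuotientGroup.mk (x ^ (2 ^ k2)) : G ⧸ O) ≠ 1 := by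
    intro h1
    rw [QuotientGroup.mk_pow] at h1
    have d1 : orderOf (QuotientGroup.mk x : G ⧸ O) ∣ 2 ^ k2 := orderOf_dvd_of_pow_eq_one h1
    have d2 : orderOf (QuotientGroup.mk x : G ⧸ O) ∣ m := orderOf_dvd_of_pow_eq_one hxbm
    have hcop : Nat.Coprime (2 ^ k2) m := Nat.Coprime.pow_left k2 (Nat.coprime_two_left.mpr hm)
    have d3 : orderOf (QuotientGroup.mk x : G ⧸ O) = 1 := Nat.eq_one_of_dvd_coprimes hcop d1 d2
    exact hxb1 (orderOf_eq_one_iff.mp d3)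
  have hzinv : (QuotientGroup.mk t : G ⧸ O) * (QuotientGroup.mk (x ^ (2 ^ k2)) : G ⧸ O)
      * (QuotientGroup.mk t : G ⧸ O)⁻¹ = (QuotientGroup.mk (x ^ (2 ^ k2)) : G ⧸ O)⁻¹ := by
    rw [QuotientGroup.mk_pow, ← conj_pow, hinv, inv_pow]
  generalize x ^ (2 ^ k2) = z at hzb hzodd hzq1 hzinv
  have hz1 : z ≠ 1 := by
    rintro rfl
    exact hzq1 (QuotientGroup.mk_one O)
  obtain ⟨w, hw⟩ : ∃ w, w = t * z * t⁻¹ := ⟨_, rfl⟩
  have hwz : w * z ∈ O := by
    rw [← QuotientGroup.eq_one_iff, hw]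
    simp only [QuotientGroup.mk_mul, QuotientGroup.mk_inv]
    rw [hzinv, inv_mul_cancel]
  have hwb : w ^ b = 1 := by rw [hw, conj_pow, hzb]; group
  have hwodd : Odd (orderOf w) := Odd.of_dvd_nat hb (orderOf_dvd_of_pow_eq_one hwb)
  obtain ⟨e, he⟩ := IsPGroup.iff_card.mp hOp
  have hcopA : (Nat.card (Subgroup.zpowers z)).Coprime (Nat.card O) := by
    rw [Nat.card_zpowers, he]
    exact Nat.Coprime.pow_right e hzodd.coprime_two_right
  have hcopB : (Nat.card (Subgroup.zpowers w)).Coprime (Nat.card O) := by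
    rw [Nat.card_zpowers, he]
    exact Nat.Coprime.pow_right e hwodd.coprime_two_right
  have hAN : Subgroup.zpowers z ≤ Subgroup.normalizer (O : Set G) := by
    rw [Subgroup.normalizer_eq_top_iff.mpr hOn]; exact le_top
  have hsolv : Group.IsSolvable O := by
    haveI := hOp.isNilpotent
    infer_instance
  have hB : Subgroup.zpowers w ⊔ O = Subgroup.zpowers z ⊔ O := by
    apply le_antisymm
    · refine sup_le ?_ le_sup_right
      rw [Subgroup.zpowers_le]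
      have e1 : w = (w * z) * z⁻¹ := by group
      rw [e1]
      exact Subgroup.mul_mem _ (Subgroup.mem_sup_right hwz)
        (Subgroup.mem_sup_left (Subgroup.inv_mem _ (Subgroup.mem_zpowers z)))
    · refine sup_le ?_ le_sup_right
      rw [Subgroup.zpowers_le]
      have e1 : z = w⁻¹ * (w * z) := by group
      rw [e1]
      exact Subgroup.mul_mem _ (Subgroup.mem_sup_left (Subgroup.inv_mem _ (Subgroup.mem_zpowers w)))
        (Subgroup.mem_sup_right hwz)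
  obtain ⟨n, hn, hconj⟩ := conj_complement (Subgroup.zpowers z) O (Subgroup.zpowers w) hAN hcopA
    (Or.inr hsolv) hB hcopB
  have hnA : n⁻¹ * w * n ∈ Subgroup.zpowers z := (hconj w).mp (Subgroup.mem_zpowers w)
  have hnO : n⁻¹ * w * n * z ∈ O := by
    have e1 : n⁻¹ * w * n * z = n⁻¹ * (w * z) * (z⁻¹ * n * z) := by group
    rw [e1]
    refine O.mul_mem (O.mul_mem (O.inv_mem hn) hwz) ?_
    have h0 := hOn.conj_mem n hn z⁻¹
    simpa using h0
  have hdisj := inf_eq_bot_of_coprime' hcopA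
  have hmem : n⁻¹ * w * n * z ∈ Subgroup.zpowers z ⊓ O :=
    ⟨Subgroup.mul_mem _ hnA (Subgroup.mem_zpowers z), hnO⟩
  rw [hdisj, Subgroup.mem_bot] at hmem
  refine ⟨z, n⁻¹ * t, hz1, hzodd, ?_⟩
  have e2 : n⁻¹ * t * z * (n⁻¹ * t)⁻¹ = n⁻¹ * w * n := by rw [hw]; group
  rw [e2]; exact eq_inv_of_mul_eq_one_left hmem

end Cfsg.Agent.Lead
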